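import Mathlib
import Cfsg.Agent.Lib.H46.Decomp

/-! Sesquilinear forms (over a field with an involution, possibly trivial), isometries with squarefree annihilating
polynomial: orthogonal decomposition, or irreducible minimal polynomial, or a pair of dual totally isotropic subspaces. -/

set_option autoImplicit false

namespace H46.SForm

open Module Polynomial H46.Decomp

/-- sesquilinear forms, linear in the first variable -/
structure SForm (K V : Type*) [Field K] [AddCommGroup V] [Module K V] (σ : K →+* K) where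
  /-- the form -/
  B : V → V → K
  add_left : ∀ u v w, B (u + v) w = B u w + B v w
  add_right : ∀ u v w, B u (v + w) = B u v + B u w
  smul_left : ∀ (c : K) v w, B (c • v) w = c * B v w
  smul_right : ∀ (c : K) v w, B v (c • w) = σ c * B v w

namespace SForm

variable {K V : Type*} [Field K] [AddCommGroup V] [Module K V] {σ : K →+* K} (f : SForm K V σ)

theorem zero_left (w : V) : f.B 0 w = 0 := by
  have := f.smul_left 0 0 w
  simpa using this

theorem zero_right (v : V) : f.B v 0 = 0 := by
  have := f.smul_right 0 v 0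
  simpa using this

theorem neg_left (v w : V) : f.B (-v) w = - f.B v w := by
  have := f.smul_left (-1) v w
  simpa using this

theorem neg_right (v w : V) : f.B v (-w) = - f.B v w := by
  have := f.smul_right (-1) v w
  simpa using this

theorem sub_left (u v w : V) : f.B (u - v) w = f.B u w - f.B v w := by
  rw [sub_eq_add_neg, f.add_left, f.neg_left, sub_eq_add_neg]

theorem sub_right (u v w : V) : f.B u (v - w) = f.B u v - f.B u w := by
  rw [sub_eq_add_neg, f.add_right, f.neg_right, sub_eq_add_neg]

/-- nondegeneracy on the left -/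
def ND : Prop := ∀ v, (∀ w, f.B v w = 0) → v = 0

/-- nondegeneracy on the right -/
def NDR : Prop := ∀ w, (∀ v, f.B v w = 0) → w = 0

/-- `ε`-symmetry -/
def Sym (ε : K) : Prop := ∀ v w, f.B w v = ε * σ (f.B v w)

/-- isometries -/
def Isom (u : (Module.End K V)ˣ) : Prop := ∀ v w, f.B ((u : Module.End K V) v) ((u : Module.End K V) w) = f.B v w

/-- adjoints -/
def Adj (a a' : Module.End K V) : Prop := ∀ v w, f.B (a v) w = f.B v (a' w)

variable {f}

theorem Sym.ndr {ε : K} (h : f.Sym ε) (hnd : f.ND) : f.NDR := by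
  intro w hw
  apply hnd
  intro v
  rw [h v w, hw, map_zero, mul_zero]

theorem Isom.one : f.Isom 1 := fun _ _ => rfl

theorem Isom.mul {u w : (Module.End K V)ˣ} (hu : f.Isom u) (hw : f.Isom w) : f.Isom (u * w) := by
  intro x y
  rw [Units.val_mul]
  exact (hu _ _).trans (hw _ _)

theorem Isom.pow {u : (Module.End K V)ˣ} (hu : f.Isom u) (k : ℕ) : f.Isom (u ^ k) := by
  induction k with
  | zero => rw [pow_zero]; exact Isom.one
  | succ k ih => rw [pow_succ]; exact ih.mul hu

theorem unit_inv_apply (u : (Module.End K V)ˣ) (v : V) :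
    (u : Module.End K V) (((u⁻¹ : (Module.End K V)ˣ) : Module.End K V) v) = v := by
  show ((u : Module.End K V) * ((u⁻¹ : (Module.End K V)ˣ) : Module.End K V)) v = v
  rw [Units.mul_inv]; rfl

theorem unit_apply_inv (u : (Module.End K V)ˣ) (v : V) :
    ((u⁻¹ : (Module.End K V)ˣ) : Module.End K V) ((u : Module.End K V) v) = v := by
  show (((u⁻¹ : (Module.End K V)ˣ) : Module.End K V) * (u : Module.End K V)) v = v
  rw [Units.inv_mul]; rfl

theorem Isom.inv {u : (Module.End K V)ˣ} (hu : f.Isom u) : f.Isom u⁻¹ := by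
  intro x y
  rw [← hu, unit_inv_apply, unit_inv_apply]

theorem Isom.adj {u : (Module.End K V)ˣ} (hu : f.Isom u) :
    f.Adj (u : Module.End K V) ((u⁻¹ : (Module.End K V)ˣ) : Module.End K V) := by
  intro x y
  rw [← hu x, unit_inv_apply]

theorem Adj.add {a a' b b' : Module.End K V} (ha : f.Adj a a') (hb : f.Adj b b') : f.Adj (a + b) (a' + b') := by
  intro v w
  rw [LinearMap.add_apply, LinearMap.add_apply, f.add_left, f.add_right, ha, hb]

theorem Adj.sub {a a' b b' : Module.End K V} (ha : f.Adj a a') (hb : f.Adj b b') : f.Adj (a - b) (a' - b') := by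
  intro v w
  rw [LinearMap.sub_apply, LinearMap.sub_apply, f.sub_left, f.sub_right, ha, hb]

theorem Adj.mul {a a' b b' : Module.End K V} (ha : f.Adj a a') (hb : f.Adj b b') : f.Adj (a * b) (b' * a') := by
  intro v w
  show f.B (a (b v)) w = f.B v (b' (a' w))
  rw [ha, hb]

theorem Adj.one : f.Adj 1 1 := fun _ _ => rfl

theorem Adj.algebraMap (hσ : ∀ c, σ (σ c) = c) (c : K) :
    f.Adj (algebraMap K (Module.End K V) c) (algebraMap K (Module.End K V) (σ c)) := by
  intro v w
  rw [Module.algebraMap_end_apply, Module.algebraMap_end_apply, f.smul_left, f.smul_right, hσ]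

theorem Adj.unique (hnd : f.NDR) {a b c : Module.End K V} (hb : f.Adj a b) (hc : f.Adj a c) : b = c := by
  ext w
  apply sub_eq_zero.mp
  apply hnd
  intro v
  rw [f.sub_right, ← hb, ← hc, sub_self]

theorem Adj.symm {ε : K} (hσ : ∀ c, σ (σ c) = c) (hε : σ ε = ε ∧ ε * ε = 1) (h : f.Sym ε) {a a' : Module.End K V}
    (ha : f.Adj a a') : f.Adj a' a := by
  intro v w
  rw [h w (a' v), ← ha, h v (a w), map_mul, hσ, hε.1, ← mul_assoc, hε.2, one_mul]

end SForm

open SForm

variable {K V : Type*} [Field K] [AddCommGroup V] [Module K V] {σ : K →+* K} {f : SForm K V σ}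

/-- every element of the algebra generated by an isometry has an adjoint in it -/
theorem exists_adj [Finite K] [Module.Finite K V] (hσ : ∀ c, σ (σ c) = c) (s : (Module.End K V)ˣ) (hs : f.Isom s)
    (a : Module.End K V) (ha : a ∈ Algebra.adjoin K {(s : Module.End K V)}) :
    ∃ a' ∈ Algebra.adjoin K {(s : Module.End K V)}, f.Adj a a' := by
  have hfin : Finite V := Module.finite_of_finite K
  have hfin2 : Finite (Module.End K V) := Finite.of_injective (fun g : Module.End K V => (g : V → V)) DFunLike.coe_injective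
  have hinv : ((s⁻¹ : (Module.End K V)ˣ) : Module.End K V) ∈ Algebra.adjoin K {(s : Module.End K V)} := by
    have h1 : s⁻¹ = s ^ (orderOf s - 1) := by
      rw [inv_eq_iff_mul_eq_one, ← pow_succ', Nat.sub_add_cancel (orderOf_pos s), pow_orderOf_eq_one]
    rw [h1, Units.val_pow_eq_pow_val]
    exact pow_mem (Algebra.subset_adjoin (Set.mem_singleton _)) _
  induction ha using Algebra.adjoin_induction with
  | mem x hx =>
    rw [Set.mem_singleton_iff] at hx
    subst hx
    exact ⟨_, hinv, hs.adj⟩
  | algebraMap c => exact ⟨_, Subalgebra.algebraMap_mem _ (σ c), Adj.algebraMap hσ c⟩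
  | add x y _ _ hx hy =>
    obtain ⟨x', hx', hx⟩ := hx
    obtain ⟨y', hy', hy⟩ := hy
    exact ⟨_, add_mem hx' hy', hx.add hy⟩
  | mul x y _ _ hx hy =>
    obtain ⟨x', hx', hx⟩ := hx
    obtain ⟨y', hy', hy⟩ := hy
    exact ⟨_, mul_mem hy' hx', hx.mul hy⟩

theorem adjoin_comm {s a b : Module.End K V} (ha : a ∈ Algebra.adjoin K {s}) (hb : b ∈ Algebra.adjoin K {s}) :
    Commute a b := by
  letI := Algebra.adjoinCommRingOfComm (R := K) (s := {s}) (fun x hx y hy => by
    rw [Set.mem_singleton_iff.mp hx, Set.mem_singleton_iff.mp hy])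
  exact congrArg Subtype.val (mul_comm (⟨a, ha⟩ : Algebra.adjoin K {s}) ⟨b, hb⟩)

theorem adjoin_comm' {s a g : Module.End K V} (ha : a ∈ Algebra.adjoin K {s}) (hg : Commute g s) : Commute g a := by
  induction ha using Algebra.adjoin_induction with
  | mem x hx => rw [Set.mem_singleton_iff.mp hx]; exact hg
  | algebraMap c => exact (Algebra.commutes c g).symm
  | add x y _ _ hx hy => exact hx.add_right hy
  | mul x y _ _ hx hy => exact hx.mul_right hy

/-- an idempotent and its adjoint: either an orthogonal decomposition, or `e' = 1 - e` -/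
theorem idem_adj [Finite K] [Module.Finite K V] (hσ : ∀ c, σ (σ c) = c) {ε : K} (hε : σ ε = ε ∧ ε * ε = 1)
    (hsym : f.Sym ε) (hnd : f.ND) (s : (Module.End K V)ˣ) (hs : f.Isom s)
    (e : Module.End K V) (he : e ∈ Algebra.adjoin K {(s : Module.End K V)}) (hee : e * e = e) (he0 : e ≠ 0) (he1 : e ≠ 1) :
    (∃ W₁ W₂ : Submodule K V, IsCompl W₁ W₂ ∧ W₁ ≠ ⊥ ∧ W₂ ≠ ⊥ ∧ (∀ v ∈ W₁, ∀ w ∈ W₂, f.B v w = 0) ∧
      (∀ g : Module.End K V, Commute g s → (∀ v ∈ W₁, g v ∈ W₁) ∧ (∀ v ∈ W₂, g v ∈ W₂))) ∨
    f.Adj e (1 - e) := by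
  have hndr := hsym.ndr hnd
  obtain ⟨e', he', hadj⟩ := exists_adj hσ s hs e he
  have hadj' := hadj.symm hσ hε hsym
  have hcomm : e * e' = e' * e := (adjoin_comm he he').eq
  have hee' : e' * e' = e' := by
    have := hadj.mul hadj
    rw [hee] at this
    exact Adj.unique hndr this hadj
  -- self-adjoint idempotents give decompositions
  have key : ∀ c : Module.End K V, c ∈ Algebra.adjoin K {(s : Module.End K V)} → c * c = c → f.Adj c c → c ≠ 0 → c ≠ 1 →
    (∃ W₁ W₂ : Submodule K V, IsCompl W₁ W₂ ∧ W₁ ≠ ⊥ ∧ W₂ ≠ ⊥ ∧ (∀ v ∈ W₁, ∀ w ∈ W₂, f.B v w = 0) ∧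
      (∀ g : Module.End K V, Commute g s → (∀ v ∈ W₁, g v ∈ W₁) ∧ (∀ v ∈ W₂, g v ∈ W₂))) := by
    intro c hc hcc hcadj hc0 hc1
    have hcc' : ∀ v, c (c v) = c v := fun v => congrArg (fun g : Module.End K V => g v) hcc
    refine ⟨LinearMap.range c, LinearMap.ker c, ?_, ?_, ?_, ?_, ?_⟩
    · exact (LinearMap.IsIdempotentElem.isCompl (f := c) hcc)
    · rw [Ne, LinearMap.range_eq_bot]; exact hc0
    · intro hk
      apply hc1
      rw [LinearMap.ker_eq_bot] at hk
      ext v
      apply hk
      rw [hcc']; rfl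
    · rintro _ ⟨v, rfl⟩ w hw
      rw [hcadj, LinearMap.mem_ker.mp hw, f.zero_right]
    · intro g hg
      have hgc := adjoin_comm' hc hg
      have hgc' : ∀ v, g (c v) = c (g v) := fun v => congrArg (fun g : Module.End K V => g v) hgc.eq
      constructor
      · rintro _ ⟨v, rfl⟩
        exact ⟨g v, (hgc' v).symm⟩
      · intro v hv
        rw [LinearMap.mem_ker] at hv ⊢
        rw [← hgc', hv, map_zero]
  by_cases hc0 : e * e' = 0
  · by_cases hd0 : (1 - e) * (1 - e') = 0
    · right
      have h1 : e' = 1 - e := by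
        have h2 : (1 - e) * (1 - e') = 1 - e - e' + e * e' := by noncomm_ring
        rw [h2, hc0, add_zero] at hd0
        exact (sub_eq_zero.mp hd0).symm
      rw [← h1]
      exact hadj
    · left
      by_cases hd1 : (1 - e) * (1 - e') = 1
      · exfalso
        apply he0
        have h2 : e * ((1 - e) * (1 - e')) = 0 := by
          have h3 : e * (1 - e) = 0 := by rw [mul_sub, mul_one, hee, sub_self]
          rw [← mul_assoc, h3, zero_mul]
        rwa [hd1, mul_one] at h2
      · apply key ((1 - e) * (1 - e')) (mul_mem (sub_mem (one_mem _) he) (sub_mem (one_mem _) he')) ?_ ?_ hd0 hd1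
        · have h1 : (1 - e) * (1 - e) = 1 - e := by
            rw [mul_sub, mul_one, sub_mul, one_mul, hee, sub_self, sub_zero]
          have h2 : (1 - e') * (1 - e') = 1 - e' := by
            rw [mul_sub, mul_one, sub_mul, one_mul, hee', sub_self, sub_zero]
          have h3 : (1 - e') * (1 - e) = (1 - e) * (1 - e') :=
            (adjoin_comm (sub_mem (one_mem _) he') (sub_mem (one_mem _) he)).eq
          calc (1 - e) * (1 - e') * ((1 - e) * (1 - e')) = (1 - e) * ((1 - e') * (1 - e)) * (1 - e') := by
                simp only [mul_assoc]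
            _ = (1 - e) * (1 - e) * ((1 - e') * (1 - e')) := by rw [h3]; simp only [mul_assoc]
            _ = (1 - e) * (1 - e') := by rw [h1, h2]
        · have h1 : f.Adj (1 - e) (1 - e') := Adj.one.sub hadj
          have h2 : f.Adj (1 - e') (1 - e) := Adj.one.sub hadj'
          exact h1.mul h2
  · left
    by_cases hc1 : e * e' = 1
    · exfalso
      apply he1
      have h2 : e * (e * e') = e * e' := by rw [← mul_assoc, hee]
      rwa [hc1, mul_one] at h2
    · apply key (e * e') (mul_mem he he') ?_ ?_ hc0 hc1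
      · calc e * e' * (e * e') = e * (e' * e) * e' := by simp only [mul_assoc]
          _ = (e * e) * (e' * e') := by rw [← hcomm]; simp only [mul_assoc]
          _ = e * e' := by rw [hee, hee']
      · exact hadj.mul hadj'

/-- the structure of semisimple isometries -/
theorem structure_isom [Finite K] [Module.Finite K V] [Nontrivial V] (hσ : ∀ c, σ (σ c) = c) {ε : K} (hε : σ ε = ε ∧ ε * ε = 1)
    (hsym : f.Sym ε) (hnd : f.ND) (s : (Module.End K V)ˣ) (hs : f.Isom s)
    (P : K[X]) (hP : Squarefree P) (hsP : aeval (s : Module.End K V) P = 0) :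
    (∃ W₁ W₂ : Submodule K V, IsCompl W₁ W₂ ∧ W₁ ≠ ⊥ ∧ W₂ ≠ ⊥ ∧ (∀ v ∈ W₁, ∀ w ∈ W₂, f.B v w = 0) ∧
      (∀ g : Module.End K V, Commute g s → (∀ v ∈ W₁, g v ∈ W₁) ∧ (∀ v ∈ W₂, g v ∈ W₂))) ∨
    Irreducible (minpoly K (s : Module.End K V)) ∨
    (∃ (W₁ W₂ : Submodule K V) (h : K[X]), IsCompl W₁ W₂ ∧ W₁ ≠ ⊥ ∧ W₂ ≠ ⊥ ∧ (∀ v ∈ W₁, ∀ w ∈ W₁, f.B v w = 0) ∧
      (∀ v ∈ W₂, ∀ w ∈ W₂, f.B v w = 0) ∧
      (∀ g : Module.End K V, Commute g s → (∀ v ∈ W₁, g v ∈ W₁) ∧ (∀ v ∈ W₂, g v ∈ W₂)) ∧
      Irreducible h ∧ (∀ v ∈ W₁, aeval (s : Module.End K V) h v = 0)) := by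
  set S : Module.End K V := (s : Module.End K V) with hS
  have hint : IsIntegral K S := Algebra.IsIntegral.isIntegral S
  have hμsq : Squarefree (minpoly K S) := hP.squarefree_of_dvd (minpoly.dvd K S hsP)
  have hμ0 : minpoly K S ≠ 0 := minpoly.ne_zero hint
  have hnu : ¬ IsUnit (minpoly K S) := minpoly.not_isUnit K S
  obtain ⟨h, hh, g, hg⟩ := WfDvdMonoid.exists_irreducible_factor hnu hμ0
  have hcop : IsCoprime h g := by
    rcases (EuclideanDomain.dvd_or_coprime h g hh) with h' | h'
    · exfalso
      have : h * h ∣ minpoly K S := hg ▸ mul_dvd_mul_left h h'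
      exact hh.not_isUnit (hμsq h this)
    · exact h'
  by_cases hgu : IsUnit g
  · right; left
    rw [hg]
    exact (irreducible_mul_isUnit hgu).mpr hh
  · obtain ⟨a, b, hab⟩ := hcop
    -- the idempotent b g
    set e : Module.End K V := aeval S (b * g) with he
    have hmem : ∀ p : K[X], aeval S p ∈ Algebra.adjoin K {S} := fun p => aeval_mem_adjoin_singleton K S
    have h1e : 1 - e = aeval S (a * h) := by
      rw [he, sub_eq_iff_eq_add, ← map_add, hab, map_one]
    have hprod : e * (1 - e) = 0 := by
      rw [h1e, he, ← map_mul]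
      have : b * g * (a * h) = (a * b) * (h * g) := by ring
      rw [this, ← hg, map_mul, minpoly.aeval, mul_zero]
    have hee : e * e = e := by
      have := hprod
      rw [mul_sub, mul_one, sub_eq_zero] at this
      exact this.symm
    have hdvd_absurd : ∀ p q : K[X], minpoly K S = p * q → ¬ IsUnit p → ¬ (minpoly K S ∣ q) := by
      intro p q hpq hp hdiv
      have hq0 : q ≠ 0 := by
        rintro rfl
        rw [mul_zero] at hpq
        exact hμ0 hpq
      rw [hpq] at hdiv
      obtain ⟨c, hc⟩ := hdiv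
      have h5 : p * c = 1 := by
        have : q * 1 = q * (p * c) := by
          rw [mul_one]
          calc q = p * q * c := hc
            _ = q * (p * c) := by ring
        exact (mul_left_cancel₀ hq0 this).symm
      exact hp (IsUnit.of_mul_eq_one c h5)
    have he0 : e ≠ 0 := by
      intro h0
      -- then aeval (a h) = 1, so aeval g = aeval (a h g) = 0
      have h2 : aeval S g = 0 := by
        have h3 : aeval S g = aeval S g * (1 - e) := by rw [h0, sub_zero, mul_one]
        rw [h3, h1e, ← map_mul]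
        have : g * (a * h) = a * (h * g) := by ring
        rw [this, ← hg, map_mul, minpoly.aeval, mul_zero]
      exact hdvd_absurd h g hg hh.not_isUnit (minpoly.dvd K S h2)
    have he1 : e ≠ 1 := by
      intro h0
      have h2 : aeval S h = 0 := by
        have h3 : aeval S h = aeval S h * e := by rw [h0, mul_one]
        rw [h3, he, ← map_mul]
        have : h * (b * g) = b * (h * g) := by ring
        rw [this, ← hg, map_mul, minpoly.aeval, mul_zero]
      exact hdvd_absurd g h (by rw [hg, mul_comm]) hgu (minpoly.dvd K S h2)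
    rcases idem_adj hσ hε hsym hnd s hs e (hmem _) hee he0 he1 with h3 | h3
    · left
      exact h3
    · right; right
      have hee' : ∀ v, e (e v) = e v := fun v => congrArg (fun g : Module.End K V => g v) hee
      refine ⟨LinearMap.range e, LinearMap.ker e, h, ?_, ?_, ?_, ?_, ?_, ?_, hh, ?_⟩
      · exact (LinearMap.IsIdempotentElem.isCompl (f := e) hee)
      · rw [Ne, LinearMap.range_eq_bot]; exact he0
      · intro hk
        apply he1
        rw [LinearMap.ker_eq_bot] at hk
        ext v
        apply hk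
        rw [hee']; rfl
      · rintro _ ⟨v, rfl⟩ _ ⟨w, rfl⟩
        rw [h3]
        have : (1 - e) (e w) = 0 := by
          rw [LinearMap.sub_apply, hee', Module.End.one_apply, sub_self]
        rw [this, f.zero_right]
      · intro v hv w hw
        rw [LinearMap.mem_ker] at hv hw
        have h4 : v = (1 - e) v := by rw [LinearMap.sub_apply, hv, sub_zero]; rfl
        have h5 : f.Adj (1 - e) e := by
          have := Adj.one.sub h3
          rwa [sub_sub_cancel] at this
        rw [h4, h5, hw, f.zero_right]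
      · intro g' hg'
        have hgc := adjoin_comm' (hmem (b * g)) hg'
        have hgc' : ∀ v, g' (e v) = e (g' v) := fun v => congrArg (fun g : Module.End K V => g v) hgc.eq
        constructor
        · rintro _ ⟨v, rfl⟩
          exact ⟨g' v, (hgc' v).symm⟩
        · intro v hv
          rw [LinearMap.mem_ker] at hv ⊢
          rw [← hgc', hv, map_zero]
      · rintro _ ⟨v, rfl⟩
        have h6 : aeval S h * e = 0 := by
          rw [he, ← map_mul]
          have : h * (b * g) = b * (h * g) := by ring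
          rw [this, ← hg, map_mul, minpoly.aeval, mul_zero]
        exact congrArg (fun g : Module.End K V => g v) h6

end H46.SForm
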