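import Mathlib
import Cfsg.Agent.Lib.H46.SForm

/-! Involutions of finite fields and semisimple isometries with irreducible minimal polynomial. -/

set_option autoImplicit false

namespace H46.FieldInv

open Module Polynomial H46.SForm H46.SForm.SForm

/-- a nontrivial involutory automorphism of a finite field is `x ↦ x ^ r` with `r ^ 2 = |E|` -/
theorem exists_pow_of_invol {E : Type*} [Field E] [Finite E] (τ : E →+* E) (h2 : ∀ x, τ (τ x) = x) (h1 : ∃ x, τ x ≠ x) :
    ∃ r : ℕ, r ^ 2 = Nat.card E ∧ ∀ x, τ x = x ^ r := by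
  have hft : Fintype E := Fintype.ofFinite E
  obtain ⟨p, hp⟩ := CharP.exists E
  have hpp : Fact p.Prime := ⟨CharP.char_is_prime E p⟩
  letI : Algebra (ZMod p) E := ZMod.algebra E p
  have hcomm : ∀ c : ZMod p, τ (algebraMap (ZMod p) E c) = algebraMap (ZMod p) E c := by
    intro c
    exact congrArg (fun f : ZMod p →+* E => f c) (Subsingleton.elim (τ.comp (algebraMap (ZMod p) E)) (algebraMap (ZMod p) E))
  let τ' : E ≃ₐ[ZMod p] E := AlgEquiv.ofBijective { τ with commutes' := hcomm }
    ⟨τ.injective, fun x => ⟨τ x, h2 x⟩⟩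
  have hτ' : ∀ x, τ' x = τ x := fun x => rfl
  obtain ⟨⟨j, hj⟩, hjτ⟩ := (FiniteField.bijective_frobeniusAlgEquivOfAlgebraic_pow (ZMod p) E).surjective τ'
  simp only at hjτ
  have hfr : ∀ x, τ x = x ^ (p ^ j) := by
    intro x
    rw [← hτ', ← hjτ]
    have := congrFun (FiniteField.coe_frobeniusAlgEquivOfAlgebraic_iterate (K := ZMod p) (L := E) j) x
    rw [ZMod.card] at this
    rw [← this, AlgEquiv.coe_pow]
  have hord := FiniteField.orderOf_frobeniusAlgEquivOfAlgebraic (K := ZMod p) (L := E)
  have hdvd : finrank (ZMod p) E ∣ 2 * j := by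
    rw [← hord, orderOf_dvd_iff_pow_eq_one, mul_comm, pow_mul, hjτ]
    ext x
    rw [pow_two]
    exact h2 x
  refine ⟨p ^ j, ?_, hfr⟩
  have hcard : Nat.card E = p ^ finrank (ZMod p) E := by
    rw [Nat.card_eq_fintype_card, Module.card_eq_pow_finrank (K := ZMod p), ZMod.card]
  rw [hcard, ← pow_mul]
  congr 1
  obtain ⟨c, hc⟩ := hdvd
  rcases Nat.eq_zero_or_pos j with h0 | h0
  · exfalso
    obtain ⟨x, hx⟩ := h1
    apply hx
    rw [hfr, h0, pow_zero, pow_one]
  · have hc1 : c = 1 := by
      rcases Nat.lt_or_ge c 1 with h | h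
      · interval_cases c
        omega
      · by_contra hcon
        have : 2 ≤ c := by omega
        have h3 : finrank (ZMod p) E * 2 ≤ finrank (ZMod p) E * c := Nat.mul_le_mul_left _ this
        omega
    rw [hc1, mul_one] at hc
    omega

/-- an endomorphism with irreducible minimal polynomial makes the space a vector space over `AdjoinRoot` -/
theorem field_act {K : Type*} [Field K] {V : Type*} [AddCommGroup V] [Module K V]
    [Module.Finite K V] [Nontrivial V] (s : Module.End K V) (μ : K[X]) (hμ : minpoly K s = μ) (hs : Irreducible μ) :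
    ∃ φ : AdjoinRoot μ →ₐ[K] Module.End K V, φ (AdjoinRoot.root _) = s ∧ Function.Injective φ := by
  have hfact : Fact (Irreducible μ) := ⟨hs⟩
  let φ : AdjoinRoot μ →ₐ[K] Module.End K V := Ideal.Quotient.liftₐ (Ideal.span {μ}) (aeval s) (by
    intro a ha
    rw [Ideal.mem_span_singleton] at ha
    obtain ⟨c, rfl⟩ := ha
    rw [map_mul, ← hμ, minpoly.aeval, zero_mul])
  have hφroot : φ (AdjoinRoot.root μ) = s := by
    show aeval s X = s
    simp
  exact ⟨φ, hφroot, φ.toRingHom.injective⟩

/-- dimension, determinant and nilpotency data for the action of `AdjoinRoot` -/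
theorem field_data {K : Type*} [Field K] {V : Type*} [AddCommGroup V] [Module K V]
    [Module.Finite K V] [Nontrivial V] (s : Module.End K V) (μ : K[X]) (hμ : minpoly K s = μ) (hs : Irreducible μ) :
    ∃ k : ℕ, 0 < k ∧ finrank K (AdjoinRoot μ) * k = finrank K V ∧
      (Nat.card (AdjoinRoot μ)) ^ k = Nat.card V ∧
      LinearMap.det s = (Algebra.norm K (AdjoinRoot.root μ)) ^ k ∧
      (∀ g : Module.End K V, Commute g s → IsNilpotent (g - 1) → (g - 1) ^ k = 0) := by
  obtain ⟨φ, hφ, hinj⟩ := field_act s μ hμ hs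
  have hfact : Fact (Irreducible μ) := ⟨hs⟩
  have hμ0 : μ ≠ 0 := hs.ne_zero
  letI : Module (AdjoinRoot μ) V := Module.compHom V φ.toRingHom
  have hsmul : ∀ (k : AdjoinRoot μ) (v : V), k • v = φ k v := fun k v => rfl
  haveI : IsScalarTower K (AdjoinRoot μ) V := by
    constructor
    intro c k v
    rw [hsmul, hsmul, map_smul]
    rfl
  haveI hfin0 : Module.Finite K (AdjoinRoot μ) := (AdjoinRoot.powerBasis hμ0).finite
  haveI : Module.Finite (AdjoinRoot μ) V := Module.Finite.of_restrictScalars_finite K (AdjoinRoot μ) V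
  refine ⟨finrank (AdjoinRoot μ) V, finrank_pos, Module.finrank_mul_finrank K (AdjoinRoot μ) V, ?_, ?_, ?_⟩
  · exact (Module.natCard_eq_pow_finrank (K := AdjoinRoot μ) (V := V)).symm
  · have h1 : s = (((AdjoinRoot.root μ) • (LinearMap.id : V →ₗ[AdjoinRoot μ] V)).restrictScalars K) := by
      ext v
      show s v = (AdjoinRoot.root μ) • v
      rw [hsmul, hφ]
    conv_lhs => rw [h1]
    rw [LinearMap.det_restrictScalars, LinearMap.det_smul, LinearMap.det_id, mul_one, map_pow]
  · intro g hg hnil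
    -- g commutes with all of φ
    have hcomm : ∀ a : AdjoinRoot μ, Commute g (φ a) := by
      intro a
      obtain ⟨P, rfl⟩ := AdjoinRoot.mk_surjective a
      have h1 : φ (AdjoinRoot.mk μ P) = aeval s P := by
        rw [← AdjoinRoot.aeval_eq, ← Polynomial.aeval_algHom_apply, hφ]
      rw [h1]
      exact H46.Decomp.commute_aeval hg P
    let g' : V →ₗ[AdjoinRoot μ] V :=
      { toFun := fun v => (g - 1) v
        map_add' := fun x y => map_add _ x y
        map_smul' := by
          intro a v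
          have h2 : (g - 1) * φ a = φ a * (g - 1) := by
            rw [sub_mul, mul_sub, (hcomm a).eq, one_mul, mul_one]
          exact congrArg (fun h : Module.End K V => h v) h2 }
    have hpow : ∀ (m : ℕ) (v : V), ((g' ^ m : Module.End (AdjoinRoot μ) V)) v = ((g - 1) ^ m) v := by
      intro m
      induction m with
      | zero => intro v; rfl
      | succ m ih =>
        intro v
        rw [pow_succ, pow_succ]
        exact ih _
    obtain ⟨m, hm⟩ := hnil
    have hg' : IsNilpotent (g' : Module.End (AdjoinRoot μ) V) := by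
      refine ⟨m, ?_⟩
      ext v
      rw [hpow, hm]; rfl
    have h1 : LinearMap.charpoly g' = X ^ finrank (AdjoinRoot μ) V := (LinearMap.isNilpotent_iff_charpoly g').mp hg'
    have h2 : g' ^ finrank (AdjoinRoot μ) V = 0 := by
      have := LinearMap.aeval_self_charpoly g'
      rw [h1] at this
      simpa using this
    ext v
    rw [← hpow, h2]; rfl

section

variable {K V : Type*} [Field K] [AddCommGroup V] [Module K V] {σ : K →+* K} {f : SForm K V σ}

theorem adj_aeval (hσ : ∀ c, σ (σ c) = c) {a a' : Module.End K V} (ha : f.Adj a a') (P : K[X]) :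
    f.Adj (aeval a P) (aeval a' (P.map σ)) := by
  induction P using Polynomial.induction_on' with
  | add p q hp hq =>
    rw [map_add, Polynomial.map_add, map_add]
    exact hp.add hq
  | monomial n c =>
    rw [Polynomial.map_monomial, aeval_monomial, aeval_monomial]
    have hpow : ∀ n : ℕ, f.Adj (a ^ n) (a' ^ n) := by
      intro n
      induction n with
      | zero => rw [pow_zero, pow_zero]; exact Adj.one
      | succ n ih => rw [pow_succ, pow_succ']; exact ih.mul ha
    have h1 := (Adj.algebraMap (f := f) hσ c).mul (hpow n)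
    have h2 : a' ^ n * (algebraMap K (Module.End K V)) (σ c) = (algebraMap K (Module.End K V)) (σ c) * a' ^ n :=
      (Algebra.commutes _ _).symm
    rwa [h2] at h1

/-- irreducible case -/
theorem irred_data [Finite K] [Module.Finite K V] [Nontrivial V] (hσ : ∀ c, σ (σ c) = c) (hndr : f.NDR)
    (s : (Module.End K V)ˣ) (hs : f.Isom s) (μ : K[X]) (hμ : minpoly K (s : Module.End K V) = μ) (hirr : Irreducible μ)
    (hne : (∃ c, σ c ≠ c) ∨ s ^ 2 ≠ 1) :
    ∃ r : ℕ, r ^ 2 = Nat.card (AdjoinRoot μ) ∧ s ^ (r + 1) = 1 ∧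
      (AdjoinRoot.root μ) ^ (r + 1) = 1 ∧
      (∀ c : K, σ c = c ^ r) := by
  obtain ⟨φ, hφ, hinj⟩ := field_act (s : Module.End K V) μ hμ hirr
  have hfact : Fact (Irreducible μ) := ⟨hirr⟩
  have hμ0 : μ ≠ 0 := hirr.ne_zero
  haveI hfin0 : Module.Finite K (AdjoinRoot μ) := (AdjoinRoot.powerBasis hμ0).finite
  haveI hfin1 : Finite (AdjoinRoot μ) := Module.finite_of_finite K
  set θ := AdjoinRoot.root μ with hθ
  have hθ0 : θ ≠ 0 := by
    intro h
    rw [h, map_zero] at hφ
    exact s.ne_zero hφ.symm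
  have hφinv : φ θ⁻¹ = ((s⁻¹ : (Module.End K V)ˣ) : Module.End K V) := by
    have h1 : φ θ⁻¹ * (s : Module.End K V) = 1 := by
      rw [← hφ, ← map_mul, inv_mul_cancel₀ hθ0, map_one]
    exact eq_comm.mp (Units.inv_eq_of_mul_eq_one_left (u := s) h1) ▸ rfl
  have hroot : eval₂ ((algebraMap K (AdjoinRoot μ)).comp σ) θ⁻¹ μ = 0 := by
    apply hinj
    rw [map_zero]
    have h1 : f.Adj (aeval (s : Module.End K V) μ) (aeval ((s⁻¹ : (Module.End K V)ˣ) : Module.End K V) (μ.map σ)) :=
      adj_aeval hσ hs.adj μ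
    have h2 : aeval (s : Module.End K V) μ = 0 := by rw [← hμ]; exact minpoly.aeval _ _
    have h3 : aeval ((s⁻¹ : (Module.End K V)ˣ) : Module.End K V) (μ.map σ) = 0 := by
      ext w
      apply hndr
      intro v
      rw [← h1, h2, LinearMap.zero_apply, f.zero_left]
    rw [← h3, ← hφinv, Polynomial.aeval_algHom_apply]
    congr 1
    rw [Polynomial.aeval_def, Polynomial.eval₂_map]
  let τ : AdjoinRoot μ →+* AdjoinRoot μ := AdjoinRoot.lift ((algebraMap K (AdjoinRoot μ)).comp σ) θ⁻¹ hroot
  have hτθ : τ θ = θ⁻¹ := AdjoinRoot.lift_root hroot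
  have hτc : ∀ c : K, τ (algebraMap K (AdjoinRoot μ) c) = algebraMap K (AdjoinRoot μ) (σ c) := by
    intro c
    exact AdjoinRoot.lift_of hroot
  have hττ : ∀ x, τ (τ x) = x := by
    have h1 : (τ.comp τ) = RingHom.id _ := by
      apply AdjoinRoot.ringHom_ext
      · ext c
        show τ (τ (algebraMap K (AdjoinRoot μ) c)) = _
        rw [hτc, hτc, hσ]; rfl
      · show τ (τ θ) = θ
        rw [hτθ, map_inv₀, hτθ, inv_inv]
    intro x
    exact congrArg (fun g : AdjoinRoot μ →+* AdjoinRoot μ => g x) h1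
  have hτne : ∃ x, τ x ≠ x := by
    by_contra hcon
    push Not at hcon
    rcases hne with ⟨c, hc⟩ | h2
    · apply hc
      apply (algebraMap K (AdjoinRoot μ)).injective
      rw [← hτc, hcon]
    · apply h2
      have h3 : θ ^ 2 = 1 := by
        have := hcon θ
        rw [hτθ] at this
        rw [pow_two]
        nth_rewrite 1 [← this]
        exact inv_mul_cancel₀ hθ0
      apply Units.ext
      rw [Units.val_pow_eq_pow_val, ← hφ, ← map_pow, h3, map_one]; rfl
  obtain ⟨r, hr, hrx⟩ := exists_pow_of_invol τ hττ hτne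
  have hθr : θ ^ (r + 1) = 1 := by
    rw [pow_succ, ← hrx, hτθ, inv_mul_cancel₀ hθ0]
  refine ⟨r, hr, ?_, hθr, ?_⟩
  · apply Units.ext
    rw [Units.val_pow_eq_pow_val, ← hφ, ← map_pow, hθr, map_one]; rfl
  · intro c
    apply (algebraMap K (AdjoinRoot μ)).injective
    rw [← hτc, hrx, map_pow]

end

end H46.FieldInv
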