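import Cfsg.Agent.Lib.H46.ProjOrder

/-! Units on a direct sum. -/

set_option autoImplicit false

namespace H46.ProdUnit

open Module H46.ProjOrder

section

variable {F : Type*} [Field F] {V₁ V₂ : Type*} [AddCommGroup V₁] [Module F V₁] [AddCommGroup V₂] [Module F V₂]

/-- block diagonal unit -/
def prodUnit (u₁ : (Module.End F V₁)ˣ) (u₂ : (Module.End F V₂)ˣ) : (Module.End F (V₁ × V₂))ˣ :=
  Units.map (LinearMap.prodMapAlgHom F V₁ V₂ : (Module.End F V₁ × Module.End F V₂) →* Module.End F (V₁ × V₂))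
    (MulEquiv.prodUnits.symm (u₁, u₂))

theorem prodUnit_val (u₁ : (Module.End F V₁)ˣ) (u₂ : (Module.End F V₂)ˣ) :
    (prodUnit u₁ u₂ : Module.End F (V₁ × V₂)) = LinearMap.prodMap (u₁ : Module.End F V₁) (u₂ : Module.End F V₂) := rfl

theorem prodUnit_apply (u₁ : (Module.End F V₁)ˣ) (u₂ : (Module.End F V₂)ˣ) (v : V₁ × V₂) :
    (prodUnit u₁ u₂ : Module.End F (V₁ × V₂)) v = ((u₁ : Module.End F V₁) v.1, (u₂ : Module.End F V₂) v.2) := rfl

theorem prodUnit_mul (u₁ w₁ : (Module.End F V₁)ˣ) (u₂ w₂ : (Module.End F V₂)ˣ) :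
    prodUnit u₁ u₂ * prodUnit w₁ w₂ = prodUnit (u₁ * w₁) (u₂ * w₂) := by
  ext <;> rfl

theorem prodUnit_pow (u₁ : (Module.End F V₁)ˣ) (u₂ : (Module.End F V₂)ˣ) (k : ℕ) :
    prodUnit u₁ u₂ ^ k = prodUnit (u₁ ^ k) (u₂ ^ k) := by
  induction k with
  | zero => ext <;> rfl
  | succ k ih => rw [pow_succ, ih, prodUnit_mul, pow_succ, pow_succ]

theorem det_prodUnit [Module.Finite F V₁] [Module.Finite F V₂] (u₁ : (Module.End F V₁)ˣ) (u₂ : (Module.End F V₂)ˣ) :
    LinearMap.det (prodUnit u₁ u₂ : Module.End F (V₁ × V₂)) =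
      LinearMap.det (u₁ : Module.End F V₁) * LinearMap.det (u₂ : Module.End F V₂) := by
  rw [prodUnit_val, LinearMap.det_prodMap]

/-- scalar unit -/
def scalarUnit (V : Type*) [AddCommGroup V] [Module F V] (c : Fˣ) : (Module.End F V)ˣ :=
  Units.map (algebraMap F (Module.End F V) : F →* Module.End F V) c

theorem scalarUnit_apply {V : Type*} [AddCommGroup V] [Module F V] (c : Fˣ) (v : V) :
    (scalarUnit V c : Module.End F V) v = (c : F) • v := rfl

theorem det_scalarUnit (V : Type*) [AddCommGroup V] [Module F V] (c : Fˣ) :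
    LinearMap.det (scalarUnit V c : Module.End F V) = (c : F) ^ finrank F V := by
  have : (scalarUnit V c : Module.End F V) = (c : F) • LinearMap.id := rfl
  rw [this, LinearMap.det_smul, LinearMap.det_id, mul_one]

theorem scalarUnit_commute {V : Type*} [AddCommGroup V] [Module F V] (c : Fˣ) (u : (Module.End F V)ˣ) :
    Commute (scalarUnit V c) u := by
  ext v
  show (c : F) • ((u : Module.End F V) v) = (u : Module.End F V) ((c : F) • v)
  rw [map_smul]

/-- an invariant decomposition gives a block diagonal form -/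
theorem exists_prodUnit {V : Type*} [AddCommGroup V] [Module F V] [Module.Finite F V]
    (u : (Module.End F V)ˣ) (W₁ W₂ : Submodule F V) (hW : IsCompl W₁ W₂)
    (h₁ : ∀ v ∈ W₁, (u : Module.End F V) v ∈ W₁) (h₂ : ∀ v ∈ W₂, (u : Module.End F V) v ∈ W₂) :
    ∃ (u₁ : (Module.End F W₁)ˣ) (u₂ : (Module.End F W₂)ˣ),
      LinearMap.det (u : Module.End F V) = LinearMap.det (u₁ : Module.End F W₁) * LinearMap.det (u₂ : Module.End F W₂) ∧
      u = Units.map (((Submodule.prodEquivOfIsCompl W₁ W₂ hW).conjAlgEquiv F : Module.End F (W₁ × W₂) →* Module.End F V)) (prodUnit u₁ u₂) := by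
  let a₁ : Module.End F W₁ := (u : Module.End F V).restrict h₁
  let a₂ : Module.End F W₂ := (u : Module.End F V).restrict h₂
  let e := Submodule.prodEquivOfIsCompl W₁ W₂ hW
  have hinj : Function.Injective (u : Module.End F V) := by
    intro x y hxy
    have := congrArg ((u⁻¹ : (Module.End F V)ˣ) : Module.End F V) hxy
    have h3 : ∀ z, ((u⁻¹ : (Module.End F V)ˣ) : Module.End F V) ((u : Module.End F V) z) = z := by
      intro z
      show (((u⁻¹ : (Module.End F V)ˣ) : Module.End F V) * (u : Module.End F V)) z = z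
      rw [Units.inv_mul]; rfl
    rwa [h3, h3] at this
  have hu₁ : IsUnit a₁ := by
    rw [Module.End.isUnit_iff]
    have : Function.Injective a₁ := by
      intro x y hxy
      apply Subtype.ext
      apply hinj
      exact congrArg Subtype.val hxy
    exact ⟨this, (LinearMap.injective_iff_surjective).mp this⟩
  have hu₂ : IsUnit a₂ := by
    rw [Module.End.isUnit_iff]
    have : Function.Injective a₂ := by
      intro x y hxy
      apply Subtype.ext
      apply hinj
      exact congrArg Subtype.val hxy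
    exact ⟨this, (LinearMap.injective_iff_surjective).mp this⟩
  obtain ⟨u₁, hu₁⟩ := hu₁
  obtain ⟨u₂, hu₂⟩ := hu₂
  have hconj : u = Units.map ((e.conjAlgEquiv F : Module.End F (W₁ × W₂) →* Module.End F V)) (prodUnit u₁ u₂) := by
    ext v
    obtain ⟨w, rfl⟩ := e.surjective v
    show (u : Module.End F V) (e w) = e ((prodUnit u₁ u₂ : Module.End F (W₁ × W₂)) (e.symm (e w)))
    rw [LinearEquiv.symm_apply_apply, prodUnit_apply, hu₁, hu₂]
    show (u : Module.End F V) ((w.1 : V) + (w.2 : V)) = (((a₁ w.1 : W₁) : V) + ((a₂ w.2 : W₂) : V))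
    rw [map_add]
    rfl
  refine ⟨u₁, u₂, ?_, hconj⟩
  rw [← det_prodUnit]
  conv_lhs => rw [hconj]
  exact LinearMap.det_conj (prodUnit u₁ u₂ : Module.End F (W₁ × W₂)) e

theorem projOrder_eq_of_conj {V : Type*} [AddCommGroup V] [Module F V] [Nontrivial V] {W : Type*} [AddCommGroup W] [Module F W]
    (e : W ≃ₗ[F] V) (u : (Module.End F V)ˣ) (w : (Module.End F W)ˣ)
    (h : u = Units.map ((e.conjAlgEquiv F : Module.End F W →* Module.End F V)) w) :
    projOrder F u = projOrder F w := by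
  rw [h]
  exact projOrder_map (e.conjAlgEquiv F : Module.End F W →ₐ[F] Module.End F V) (e.conjAlgEquiv F).injective w

end

/-- multiply a block diagonal element by an element of prime order `r ∣ q - 1` -/
theorem mul_prime_mem {F : Type*} [Field F] [Finite F] {V₁ V₂ : Type*} [AddCommGroup V₁] [Module F V₁]
    [AddCommGroup V₂] [Module F V₂] [Module.Finite F V₁] [Module.Finite F V₂] [Nontrivial V₁] [Nontrivial V₂]
    (u₁ : (Module.End F V₁)ˣ) (u₂ : (Module.End F V₂)ˣ)
    (hdet : LinearMap.det (u₁ : Module.End F V₁) * LinearMap.det (u₂ : Module.End F V₂) = 1)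
    (r : ℕ) (hr : r.Prime) (hrq : r ∣ Nat.card F - 1) (n : ℕ) (hn : n = finrank F V₁ + finrank F V₂) (hrn : ¬ r ∣ n)
    (hN : ¬ r ∣ projOrder F (prodUnit u₁ u₂)) :
    r * projOrder F (prodUnit u₁ u₂) ∈ Set.range (orderOf : Matrix.ProjectiveSpecialLinearGroup (Fin n) F → ℕ) := by
  have hpos1 : 0 < finrank F V₁ := Module.finrank_pos
  have hdim : finrank F (V₁ × V₂) = n := by rw [hn, finrank_prod]
  rw [mem_orders_iff_end (F := F) (n := n) (by omega) (V₁ × V₂) hdim]
  have hFt : Fintype F := Fintype.ofFinite F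
  obtain ⟨lam, hlam⟩ : ∃ x : Fˣ, orderOf x = r := by
    obtain ⟨g, hg⟩ := IsCyclic.exists_ofOrder_eq_natCard (α := Fˣ)
    have hcard : Nat.card Fˣ = Nat.card F - 1 := Nat.card_units F
    have hpos : 0 < Nat.card F - 1 := by
      rw [← hcard]; exact Nat.card_pos
    obtain ⟨e, he⟩ := hrq
    have he0 : e ≠ 0 := by
      rintro rfl
      rw [mul_zero] at he
      omega
    refine ⟨g ^ e, ?_⟩
    rw [orderOf_pow' g he0, hg, hcard, he, Nat.gcd_mul_left_left, Nat.mul_div_cancel _ (Nat.pos_of_ne_zero he0)]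
  set y : (Module.End F (V₁ × V₂))ˣ := prodUnit (scalarUnit V₁ (lam ^ finrank F V₂)) (scalarUnit V₂ ((lam⁻¹) ^ finrank F V₁)) with hy
  have hcomm : Commute (prodUnit u₁ u₂) y := by
    show prodUnit u₁ u₂ * y = y * prodUnit u₁ u₂
    rw [hy, prodUnit_mul, prodUnit_mul, (scalarUnit_commute _ u₁).eq, (scalarUnit_commute _ u₂).eq]
  have hydet : LinearMap.det (y : Module.End F (V₁ × V₂)) = 1 := by
    rw [hy, det_prodUnit, det_scalarUnit, det_scalarUnit]
    push_cast
    rw [← pow_mul, ← pow_mul, mul_comm (finrank F V₁), ← mul_pow, mul_inv_cancel₀ lam.ne_zero, one_pow]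
  have hyr : y ^ r = 1 := by
    rw [hy, prodUnit_pow]
    have h1 : (scalarUnit V₁ (lam ^ finrank F V₂)) ^ r = 1 := by
      unfold scalarUnit
      rw [← map_pow, ← pow_mul, mul_comm, pow_mul, ← hlam, pow_orderOf_eq_one, one_pow, map_one]
    have h2 : (scalarUnit V₂ (lam⁻¹ ^ finrank F V₁)) ^ r = 1 := by
      unfold scalarUnit
      rw [← map_pow, ← pow_mul, mul_comm, pow_mul, inv_pow, ← hlam, pow_orderOf_eq_one, inv_one, one_pow, map_one]
    rw [h1, h2]
    ext <;> rfl
  have hynot : ¬ (y ∈ scalars F (Module.End F (V₁ × V₂))) := by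
    rw [mem_scalars_iff]
    rintro ⟨c, hc⟩
    obtain ⟨v₁, hv₁⟩ := exists_ne (0 : V₁)
    obtain ⟨v₂, hv₂⟩ := exists_ne (0 : V₂)
    have h1 := congrArg (fun f : Module.End F (V₁ × V₂) => f (v₁, v₂)) hc
    simp only [hy, prodUnit_apply, scalarUnit_apply, Module.algebraMap_end_apply, Prod.smul_mk, Prod.mk.injEq] at h1
    have h2 : ((lam ^ finrank F V₂ : Fˣ) : F) = c := smul_left_injective F hv₁ h1.1
    have h3 : ((lam⁻¹ ^ finrank F V₁ : Fˣ) : F) = c := smul_left_injective F hv₂ h1.2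
    have h4 : lam ^ finrank F V₂ = lam⁻¹ ^ finrank F V₁ := Units.ext (h2.trans h3.symm)
    have h5 : lam ^ (finrank F V₁ + finrank F V₂) = 1 := by
      rw [pow_add, h4, ← mul_pow, mul_inv_cancel, one_pow]
    rw [← hn] at h5
    exact hrn (hlam ▸ orderOf_dvd_of_pow_eq_one h5)
  refine ⟨prodUnit u₁ u₂ * y, ?_, ?_⟩
  · rw [Units.val_mul, map_mul, det_prodUnit, hydet, hdet, mul_one]
  · have hY : orderOf (QuotientGroup.mk y : (Module.End F (V₁ × V₂))ˣ ⧸ scalars F (Module.End F (V₁ × V₂))) = r := by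
      have : Fact r.Prime := ⟨hr⟩
      apply orderOf_eq_prime
      · rw [← QuotientGroup.mk_pow, hyr]; rfl
      · rw [Ne, QuotientGroup.eq_one_iff]
        exact hynot
    unfold projOrder
    rw [QuotientGroup.mk_mul, Commute.orderOf_mul_eq_mul_orderOf_of_coprime, hY, mul_comm]
    · exact hcomm.map (QuotientGroup.mk' (scalars F (Module.End F (V₁ × V₂))))
    · rw [hY, Nat.coprime_comm]
      exact (Nat.Prime.coprime_iff_not_dvd hr).mpr hN

end H46.ProdUnit
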