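import Mathlib
import Cfsg.Agent.Lib.H46.FieldInv
import Cfsg.Agent.Lib.H46.ProdUnit

/-! Products and restrictions of sesquilinear forms, dual pairs of totally isotropic subspaces. -/

set_option autoImplicit false

namespace H46.SForm

open Module Polynomial H46.ProjOrder H46.ProdUnit

namespace SForm

section Ops

variable {K : Type*} [Field K] {σ : K →+* K}

/-- orthogonal sum -/
def prod {V₁ V₂ : Type*} [AddCommGroup V₁] [Module K V₁] [AddCommGroup V₂] [Module K V₂]
    (f₁ : SForm K V₁ σ) (f₂ : SForm K V₂ σ) : SForm K (V₁ × V₂) σ where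
  B := fun v w => f₁.B v.1 w.1 + f₂.B v.2 w.2
  add_left := by
    intro u v w
    simp only [Prod.fst_add, Prod.snd_add, f₁.add_left, f₂.add_left]
    ring
  add_right := by
    intro u v w
    simp only [Prod.fst_add, Prod.snd_add, f₁.add_right, f₂.add_right]
    ring
  smul_left := by
    intro c v w
    simp only [Prod.smul_fst, Prod.smul_snd, f₁.smul_left, f₂.smul_left]
    ring
  smul_right := by
    intro c v w
    simp only [Prod.smul_fst, Prod.smul_snd, f₁.smul_right, f₂.smul_right]
    ring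

/-- pullback along a linear map -/
def pull {V W : Type*} [AddCommGroup V] [Module K V] [AddCommGroup W] [Module K W] (f : SForm K V σ) (g : W →ₗ[K] V) :
    SForm K W σ where
  B := fun v w => f.B (g v) (g w)
  add_left := by
    intro u v w
    simp only [map_add, f.add_left]
  add_right := by
    intro u v w
    simp only [map_add, f.add_right]
  smul_left := by
    intro c v w
    simp only [map_smul, f.smul_left]
  smul_right := by
    intro c v w
    simp only [map_smul, f.smul_right]

variable {V₁ V₂ : Type*} [AddCommGroup V₁] [Module K V₁] [AddCommGroup V₂] [Module K V₂]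
    {f₁ : SForm K V₁ σ} {f₂ : SForm K V₂ σ}

theorem ND.prod (h₁ : f₁.ND) (h₂ : f₂.ND) : (f₁.prod f₂).ND := by
  intro v hv
  apply Prod.ext
  · apply h₁
    intro w
    have := hv (w, 0)
    have h : f₁.B v.1 w + f₂.B v.2 0 = 0 := this
    rwa [f₂.zero_right, add_zero] at h
  · apply h₂
    intro w
    have := hv (0, w)
    have h : f₁.B v.1 0 + f₂.B v.2 w = 0 := this
    rwa [f₁.zero_right, zero_add] at h

theorem Isom.prod {u₁ : (Module.End K V₁)ˣ} {u₂ : (Module.End K V₂)ˣ} (h₁ : f₁.Isom u₁) (h₂ : f₂.Isom u₂) :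
    (f₁.prod f₂).Isom (prodUnit u₁ u₂) := by
  intro v w
  rw [prodUnit_apply, prodUnit_apply]
  show f₁.B _ _ + f₂.B _ _ = f₁.B _ _ + f₂.B _ _
  rw [h₁, h₂]

/-- alternating forms -/
def Alt {V : Type*} [AddCommGroup V] [Module K V] (f : SForm K V σ) : Prop := ∀ v, f.B v v = 0

theorem Alt.prod (h₁ : f₁.Alt) (h₂ : f₂.Alt) : (f₁.prod f₂).Alt := by
  intro v
  show f₁.B _ _ + f₂.B _ _ = 0
  rw [h₁, h₂, add_zero]

theorem Alt.sym {V : Type*} [AddCommGroup V] [Module K V] {f : SForm K V (RingHom.id K)} (h : f.Alt) : f.Sym (-1) := by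
  intro v w
  have h1 := h (v + w)
  rw [f.add_left, f.add_right, f.add_right, h v, h w, zero_add, add_zero] at h1
  rw [RingHom.id_apply]
  linear_combination h1

end Ops

end SForm

open SForm

section Scal

variable {K V : Type*} [Field K] [AddCommGroup V] [Module K V] {σ : K →+* K} {f : SForm K V σ}

theorem exists_ne_zero_of_nd [Nontrivial V] (hnd : f.ND) : ∃ v w, f.B v w ≠ 0 := by
  by_contra hcon
  push Not at hcon
  obtain ⟨v, hv⟩ := exists_ne (0 : V)
  exact hv (hnd v (hcon v))

/-- scalar isometries have norm one -/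
theorem norm_one_of_scalar [Nontrivial V] (hnd : f.ND) {u : (Module.End K V)ˣ} (hu : f.Isom u) {c : K}
    (hc : (u : Module.End K V) = algebraMap K _ c) : c * σ c = 1 := by
  obtain ⟨v, w, hvw⟩ := exists_ne_zero_of_nd hnd
  have h := hu v w
  rw [hc, Module.algebraMap_end_apply, Module.algebraMap_end_apply, f.smul_left, f.smul_right, ← mul_assoc] at h
  exact mul_right_cancel₀ hvw (h.trans (one_mul _).symm)

theorem isom_scalarUnit {c : Kˣ} (hc : (c : K) * σ c = 1) : f.Isom (scalarUnit V c) := by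
  intro v w
  rw [scalarUnit_apply, scalarUnit_apply, f.smul_left, f.smul_right, ← mul_assoc, hc, one_mul]

end Scal

section Pair

variable {K V : Type*} [Field K] [AddCommGroup V] [Module K V] {σ : K →+* K} {f : SForm K V σ}

/-- a decomposition into two totally isotropic subspaces -/
structure Pair (f : SForm K V σ) (W₁ W₂ : Submodule K V) : Prop where
  compl : IsCompl W₁ W₂
  iso₁ : ∀ v ∈ W₁, ∀ w ∈ W₁, f.B v w = 0
  iso₂ : ∀ v ∈ W₂, ∀ w ∈ W₂, f.B v w = 0

theorem Pair.symm {W₁ W₂ : Submodule K V} (h : Pair f W₁ W₂) : Pair f W₂ W₁ := ⟨h.compl.symm, h.iso₂, h.iso₁⟩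

theorem mem_sup_of_compl {W₁ W₂ : Submodule K V} (h : IsCompl W₁ W₂) (v : V) : ∃ a ∈ W₁, ∃ b ∈ W₂, a + b = v := by
  have : v ∈ W₁ ⊔ W₂ := by rw [h.sup_eq_top]; trivial
  exact Submodule.mem_sup.mp this

theorem Pair.card_le [Finite K] [Module.Finite K V] (hndr : f.NDR) {W₁ W₂ : Submodule K V} (h : Pair f W₁ W₂) :
    Nat.card W₁ ≤ Nat.card W₂ := by
  have hV : Finite V := Module.finite_of_finite K
  let φ : W₁ → Module.Dual K W₂ := fun v =>
    { toFun := fun w => f.B (w : V) (v : V)
      map_add' := fun x y => f.add_left _ _ _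
      map_smul' := fun c x => f.smul_left _ _ _ }
  have hinj : Function.Injective φ := by
    intro x y hxy
    apply Subtype.ext
    apply sub_eq_zero.mp
    apply hndr
    intro v
    obtain ⟨a, ha, b, hb, rfl⟩ := mem_sup_of_compl h.compl v
    have h1 : f.B b x = f.B b y := congrArg (fun g : Module.Dual K W₂ => g ⟨b, hb⟩) hxy
    rw [f.add_left, h.iso₁ a ha _ (sub_mem x.2 y.2), zero_add, f.sub_right, h1, sub_self]
  have hfin : Finite (Module.Dual K W₂) := Module.finite_of_finite K
  have h1 := Nat.card_le_card_of_injective φ hinj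
  have h2 : Nat.card (Module.Dual K W₂) = Nat.card W₂ := by
    rw [Module.natCard_eq_pow_finrank (K := K), Module.natCard_eq_pow_finrank (K := K) (V := W₂), Subspace.dual_finrank_eq]
  omega

theorem Pair.card_eq [Finite K] [Module.Finite K V] (hndr : f.NDR) {W₁ W₂ : Submodule K V} (h : Pair f W₁ W₂) :
    Nat.card W₁ = Nat.card W₂ :=
  le_antisymm (h.card_le hndr) (h.symm.card_le hndr)

theorem Pair.card_sq [Finite K] [Module.Finite K V] (hndr : f.NDR) {W₁ W₂ : Submodule K V} (h : Pair f W₁ W₂) :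
    Nat.card W₁ * Nat.card W₁ = Nat.card V := by
  nth_rewrite 2 [h.card_eq hndr]
  rw [← Nat.card_prod]
  exact Nat.card_congr (Submodule.prodEquivOfIsCompl W₁ W₂ h.compl).toEquiv

theorem Pair.finrank_eq [Finite K] [Module.Finite K V] (hndr : f.NDR) {W₁ W₂ : Submodule K V} (h : Pair f W₁ W₂) :
    finrank K W₁ = finrank K W₂ := by
  have h1 := h.card_eq hndr
  rw [Module.natCard_eq_pow_finrank (K := K), Module.natCard_eq_pow_finrank (K := K) (V := W₂)] at h1
  exact Nat.pow_right_injective (Finite.one_lt_card (α := K)) h1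

/-- an isometry trivial on `W₁` is trivial -/
theorem Pair.eq_one (hndr : f.NDR) (hnd : f.ND) {W₁ W₂ : Submodule K V} (h : Pair f W₁ W₂) {u : (Module.End K V)ˣ} (hu : f.Isom u)
    (h₂ : ∀ v ∈ W₂, (u : Module.End K V) v ∈ W₂) (h1 : ∀ v ∈ W₁, (u : Module.End K V) v = v) : u = 1 := by
  apply Units.ext
  ext v
  obtain ⟨a, ha, b, hb, rfl⟩ := mem_sup_of_compl h.compl v
  have hb' : (u : Module.End K V) b = b := by
    apply sub_eq_zero.mp
    apply hnd
    intro w
    obtain ⟨a', ha', b', hb', rfl⟩ := mem_sup_of_compl h.compl w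
    have h3 : f.B ((u : Module.End K V) b - b) b' = 0 := h.iso₂ _ (sub_mem (h₂ b hb) hb) _ hb'
    rw [f.add_right, h3, add_zero, f.sub_left]
    nth_rewrite 1 [← h1 a' ha']
    rw [hu, sub_self]
  rw [map_add, h1 a ha, hb']
  rfl

/-- determinants on a dual pair -/
theorem Pair.det_mul [Finite K] [Module.Finite K V] (hσ : ∀ c, σ (σ c) = c) (hndr : f.NDR)
    {W₁ W₂ : Submodule K V} (h : Pair f W₁ W₂) {u : (Module.End K V)ˣ} (hu : f.Isom u)
    (h₁ : ∀ v ∈ W₁, (u : Module.End K V) v ∈ W₁) (h₂ : ∀ v ∈ W₂, (u : Module.End K V) v ∈ W₂) :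
    LinearMap.det ((u : Module.End K V).restrict h₁) * σ (LinearMap.det ((u : Module.End K V).restrict h₂)) = 1 := by
  let b₁ : Basis (Fin (finrank K W₁)) K W₁ := Module.finBasis K W₁
  let b₂ : Basis (Fin (finrank K W₁)) K W₂ := Module.finBasisOfFinrankEq K W₂ (h.finrank_eq hndr).symm
  let A := LinearMap.toMatrix b₁ b₁ ((u : Module.End K V).restrict h₁)
  let C := LinearMap.toMatrix b₂ b₂ ((u : Module.End K V).restrict h₂)
  let M : Matrix (Fin (finrank K W₁)) (Fin (finrank K W₁)) K := fun i j => f.B (b₁ i : V) (b₂ j : V)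
  have hBsum : ∀ (x y : Fin (finrank K W₁) → K),
      f.B (((∑ i, x i • b₁ i : W₁)) : V) (((∑ j, y j • b₂ j : W₂)) : V) = ∑ i, ∑ j, x i * M i j * σ (y j) := by
    intro x y
    have hl : ∀ (s : Finset (Fin (finrank K W₁))) (w : V), f.B (((∑ i ∈ s, x i • b₁ i : W₁)) : V) w = ∑ i ∈ s, x i * f.B (b₁ i : V) w := by
      classical
      intro s w
      induction s using Finset.induction_on with
      | empty => simp [f.zero_left]
      | insert a s ha ih =>
        rw [Finset.sum_insert ha, Finset.sum_insert ha, Submodule.coe_add, f.add_left, ih, Submodule.coe_smul, f.smul_left]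
    have hr : ∀ (s : Finset (Fin (finrank K W₁))) (v : V), f.B v (((∑ j ∈ s, y j • b₂ j : W₂)) : V) = ∑ j ∈ s, σ (y j) * f.B v (b₂ j : V) := by
      classical
      intro s v
      induction s using Finset.induction_on with
      | empty => simp [f.zero_right]
      | insert a s ha ih =>
        rw [Finset.sum_insert ha, Finset.sum_insert ha, Submodule.coe_add, f.add_right, ih, Submodule.coe_smul, f.smul_right]
    rw [hl]
    apply Finset.sum_congr rfl
    intro i _
    rw [hr, Finset.mul_sum]
    apply Finset.sum_congr rfl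
    intro j _
    show x i * (σ (y j) * f.B (b₁ i : V) (b₂ j : V)) = x i * f.B (b₁ i : V) (b₂ j : V) * σ (y j)
    ring
  have hA : ∀ j, (((u : Module.End K V).restrict h₁) (b₁ j)) = ∑ i, A i j • b₁ i := by
    intro j
    have := (Basis.sum_repr b₁ (((u : Module.End K V).restrict h₁) (b₁ j))).symm
    rw [this]
    apply Finset.sum_congr rfl
    intro i _
    congr 1
    exact (LinearMap.toMatrix_apply b₁ b₁ _ i j).symm
  have hC : ∀ j, (((u : Module.End K V).restrict h₂) (b₂ j)) = ∑ i, C i j • b₂ i := by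
    intro j
    have := (Basis.sum_repr b₂ (((u : Module.End K V).restrict h₂) (b₂ j))).symm
    rw [this]
    apply Finset.sum_congr rfl
    intro i _
    congr 1
    exact (LinearMap.toMatrix_apply b₂ b₂ _ i j).symm
  have hinv : A.transpose * M * (C.map σ) = M := by
    ext i j
    have h3 : f.B ((u : Module.End K V) (b₁ i : V)) ((u : Module.End K V) (b₂ j : V)) = M i j := hu _ _
    have h4 : ((u : Module.End K V) (b₁ i : V)) = ((∑ k, A k i • b₁ k : W₁) : V) := by
      rw [← hA]; rfl
    have h5 : ((u : Module.End K V) (b₂ j : V)) = ((∑ k, C k j • b₂ k : W₂) : V) := by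
      rw [← hC]; rfl
    rw [h4, h5, hBsum] at h3
    rw [← h3, Matrix.mul_apply]
    simp only [Matrix.mul_apply, Matrix.transpose_apply, Matrix.map_apply, Finset.sum_mul]
    rw [Finset.sum_comm]
  have hMdet : M.det ≠ 0 := by
    intro h0
    obtain ⟨x, hx0, hx⟩ := Matrix.exists_mulVec_eq_zero_iff.mpr h0
    apply hx0
    let w : W₂ := ∑ j, σ (x j) • b₂ j
    have hw : (w : V) = 0 := by
      apply hndr
      intro v
      obtain ⟨a, ha, b, hb, rfl⟩ := mem_sup_of_compl h.compl v
      rw [f.add_left, h.iso₂ b hb _ w.2, add_zero]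
      have h6 : (⟨a, ha⟩ : W₁) = ∑ i, b₁.repr ⟨a, ha⟩ i • b₁ i := (b₁.sum_repr _).symm
      have h7 : a = ((∑ i, b₁.repr ⟨a, ha⟩ i • b₁ i : W₁) : V) := congrArg Subtype.val h6
      rw [h7]
      show f.B _ ((∑ j, σ (x j) • b₂ j : W₂) : V) = 0
      rw [hBsum]
      apply Finset.sum_eq_zero
      intro i _
      have h8 := congrFun hx i
      simp only [Matrix.mulVec, dotProduct, Pi.zero_apply] at h8
      simp only [hσ, mul_assoc]
      rw [← Finset.mul_sum, h8, mul_zero]
    have hw' : w = 0 := Subtype.ext hw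
    have h9 : ∀ j, σ (x j) = 0 := by
      have := Fintype.linearIndependent_iff.mp b₂.linearIndependent (fun j => σ (x j)) hw'
      exact this
    funext j
    rw [Pi.zero_apply, ← hσ (x j), h9, map_zero]
  have h10 := congrArg Matrix.det hinv
  rw [Matrix.det_mul, Matrix.det_mul, Matrix.det_transpose] at h10
  have h11 : A.det * (C.map σ).det = 1 := by
    apply mul_right_cancel₀ hMdet
    rw [one_mul]
    linear_combination h10
  have h12 : (C.map σ).det = σ C.det := by
    rw [RingHom.map_det]; rfl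
  rw [h12] at h11
  have h13 : A.det = LinearMap.det ((u : Module.End K V).restrict h₁) := LinearMap.det_toMatrix b₁ _
  have h14 : C.det = LinearMap.det ((u : Module.End K V).restrict h₂) := LinearMap.det_toMatrix b₂ _
  rw [h13, h14] at h11
  exact h11

end Pair

end H46.SForm
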