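import Mathlib
import Cfsg.Prelude.Def_Classical
import Cfsg.Agent.Lib.H46.SFormOps
import Cfsg.Agent.Lib.H6.SympPerfect
import Cfsg.Agent.Lib.H99.Alt

/-! Element orders of `PSp(2n, F)` as projective orders of isometries of alternating spaces. -/

set_option autoImplicit false

universe u

namespace H46.OrdPSp

open Module H46.SForm H46.SForm.SForm H46.ProjOrder Matrix

variable {F : Type*} [Field F]

/-- the standard symplectic form -/
def stdForm (n : ℕ) (F : Type*) [Field F] : SForm F (Fin n ⊕ Fin n → F) (RingHom.id F) where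
  B := H6.Symp.bf
  add_left := H6.Symp.bf_add_left
  add_right := H6.Symp.bf_add_right
  smul_left := H6.Symp.bf_smul_left
  smul_right := fun c v w => H6.Symp.bf_smul_right c v w

theorem stdForm_alt (n : ℕ) : (stdForm n F).Alt := H6.Symp.bf_self

theorem stdForm_nd (n : ℕ) : (stdForm n F).ND := fun _ hv => H6.Symp.eq_zero_of_forall_bf hv

/-- a symplectic matrix as a unit -/
def toUnit {n : ℕ} (A : symplecticGroup (Fin n) F) : (Matrix (Fin n ⊕ Fin n) (Fin n ⊕ Fin n) F)ˣ :=
  ⟨A.1, (A⁻¹).1, congrArg Subtype.val (mul_inv_cancel A), congrArg Subtype.val (inv_mul_cancel A)⟩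

theorem toUnit_val {n : ℕ} (A : symplecticGroup (Fin n) F) : (toUnit A : Matrix _ _ F) = A.1 := rfl

theorem orderOf_mk {n : ℕ} (hn : 0 < n) (A : symplecticGroup (Fin n) F) :
    orderOf (QuotientGroup.mk A : Cfsg.PSp n F) = projOrder F (toUnit A) := by
  have hne : Nonempty (Fin n) := ⟨⟨0, hn⟩⟩
  rw [eq_projOrder_iff]
  intro k
  rw [orderOf_dvd_iff_pow_eq_one, ← QuotientGroup.mk_pow, QuotientGroup.eq_one_iff, H6.SympPerfect.mem_center_iff]
  have hpow : (A ^ k).1 = (A.1) ^ k := by
    induction k with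
    | zero => rfl
    | succ k ih => rw [pow_succ, pow_succ, ← ih]; rfl
  constructor
  · rintro ⟨c, hc⟩
    have hc' : (A ^ k).1 = algebraMap F _ c := by rw [hpow, ← hc]; rfl
    have hmul : ∀ u, (A ^ k).1 *ᵥ u = c • u := by
      intro u
      rw [hc', Algebra.algebraMap_eq_smul_one, Matrix.smul_mulVec, Matrix.one_mulVec]
    refine ⟨c, ?_, hmul⟩
    obtain ⟨i⟩ := hne
    have h1 := H6.Symp.bf_smul (A ^ k) (H6.Symp.e i) (H6.Symp.f i)
    rw [hmul, hmul, H6.Symp.bf_smul_left, H6.Symp.bf_smul_right, H6.Symp.bf_f_right] at h1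
    simp only [H6.Symp.e, Pi.single_eq_same, mul_neg, mul_one, neg_inj] at h1
    rw [sq]; exact h1
  · rintro ⟨c, _, hc⟩
    refine ⟨c, ?_⟩
    rw [toUnit_val, ← hpow, Algebra.algebraMap_eq_smul_one]
    apply Matrix.toLin'.injective
    ext1 x
    ext1
    have := hc (Pi.single x 1)
    simp only [LinearMap.comp_apply, LinearMap.single_apply, Matrix.toLin'_apply, this, Matrix.smul_mulVec, Matrix.one_mulVec]

theorem exists_isom {n : ℕ} (hn : 0 < n) (x : Cfsg.PSp n F) :
    ∃ u : (Module.End F (Fin n ⊕ Fin n → F))ˣ, (stdForm n F).Isom u ∧ projOrder F u = orderOf x := by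
  have hne : Nonempty (Fin n) := ⟨⟨0, hn⟩⟩
  obtain ⟨A, rfl⟩ := QuotientGroup.mk_surjective x
  let φ : Matrix (Fin n ⊕ Fin n) (Fin n ⊕ Fin n) F ≃ₐ[F] Module.End F (Fin n ⊕ Fin n → F) := Matrix.toLinAlgEquiv'
  refine ⟨Units.map (φ : Matrix (Fin n ⊕ Fin n) (Fin n ⊕ Fin n) F →* Module.End F (Fin n ⊕ Fin n → F)) (toUnit A), ?_, ?_⟩
  · intro v w
    exact H6.Symp.bf_smul A v w
  · rw [orderOf_mk hn]
    exact projOrder_map (φ : Matrix (Fin n ⊕ Fin n) (Fin n ⊕ Fin n) F →ₐ[F] Module.End F (Fin n ⊕ Fin n → F))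
      φ.injective (toUnit A)

/-- the bilinear form of an `SForm` with trivial involution -/
def toBilin {V : Type*} [AddCommGroup V] [Module F V] (f : SForm F V (RingHom.id F)) : LinearMap.BilinForm F V :=
  LinearMap.mk₂ F f.B f.add_left f.smul_left f.add_right f.smul_right

theorem toBilin_apply {V : Type*} [AddCommGroup V] [Module F V] (f : SForm F V (RingHom.id F)) (v w : V) :
    toBilin f v w = f.B v w := rfl

theorem mem_orders {n : ℕ} (hn : 0 < n) {V : Type u} [AddCommGroup V] [Module F V] (f : SForm F V (RingHom.id F))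
    (halt : f.Alt) (hnd : f.ND) (hV : finrank F V = 2 * n) (u : (Module.End F V)ˣ) (hu : f.Isom u) :
    projOrder F u ∈ Set.range (orderOf : Cfsg.PSp n F → ℕ) := by
  have hne : Nonempty (Fin n) := ⟨⟨0, hn⟩⟩
  haveI : FiniteDimensional F V := Module.finite_of_finrank_pos (by omega)
  obtain ⟨ι, _, _, bs, h1, h2, h3⟩ := H99.Alt.exists_symp_basis V (toBilin f) (fun v => halt v) (fun v hv => hnd v hv)
  have hcard : Fintype.card ι = n := by
    have := Module.finrank_eq_card_basis bs
    rw [hV, Fintype.card_prod, Fintype.card_fin] at this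
    omega
  obtain ⟨e⟩ : Nonempty (ι ≃ Fin n) := ⟨Fintype.equivFinOfCardEq hcard⟩
  let r : Fin 2 × ι ≃ Fin n ⊕ Fin n := ((Equiv.prodCongr finTwoEquiv e).trans (Equiv.boolProdEquivSum (Fin n)))
  have hr0 : ∀ i, r (0, i) = Sum.inl (e i) := fun i => rfl
  have hr1 : ∀ i, r (1, i) = Sum.inr (e i) := fun i => rfl
  let b : Basis (Fin n ⊕ Fin n) F V := bs.reindex r
  have hb0 : ∀ i, b (Sum.inl i) = bs (0, e.symm i) := by
    intro i
    rw [Basis.reindex_apply]
    exact congrArg bs (by rw [Equiv.symm_apply_eq, hr0, Equiv.apply_symm_apply])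
  have hb1 : ∀ i, b (Sum.inr i) = bs (1, e.symm i) := by
    intro i
    rw [Basis.reindex_apply]
    exact congrArg bs (by rw [Equiv.symm_apply_eq, hr1, Equiv.apply_symm_apply])
  -- the form in coordinates
  have hcoord : ∀ x y : Fin n ⊕ Fin n → F, f.B (b.equivFun.symm x) (b.equivFun.symm y) = - H6.Symp.bf x y := by
    have hbil : ∀ x y : Fin n ⊕ Fin n → F, toBilin f (b.equivFun.symm x) (b.equivFun.symm y) =
        ∑ i, ∑ j, x i * y j * toBilin f (b i) (b j) := by
      intro x y
      rw [Basis.equivFun_symm_apply, Basis.equivFun_symm_apply, LinearMap.BilinForm.sum_left]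
      apply Finset.sum_congr rfl
      intro i _
      rw [LinearMap.BilinForm.sum_right]
      apply Finset.sum_congr rfl
      intro j _
      rw [LinearMap.BilinForm.smul_left, LinearMap.BilinForm.smul_right, mul_assoc]
    intro x y
    rw [← toBilin_apply, hbil, H6.Symp.bf_eq_sum]
    have h4 : ∀ i j : Fin n, toBilin f (b (Sum.inl i)) (b (Sum.inl j)) = 0 := by
      intro i j; rw [hb0, hb0]; exact h1 _ _
    have h5 : ∀ i j : Fin n, toBilin f (b (Sum.inr i)) (b (Sum.inr j)) = 0 := by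
      intro i j; rw [hb1, hb1]; exact h2 _ _
    have h6 : ∀ i j : Fin n, toBilin f (b (Sum.inl i)) (b (Sum.inr j)) = if i = j then 1 else 0 := by
      intro i j; rw [hb0, hb1, h3]
      simp only [EmbeddingLike.apply_eq_iff_eq]
    have h7 : ∀ i j : Fin n, toBilin f (b (Sum.inr i)) (b (Sum.inl j)) = if i = j then -1 else 0 := by
      intro i j
      rw [H99.Alt.swap (fun v => halt v), h6]
      by_cases hij : i = j
      · subst hij; simp
      · rw [if_neg hij, if_neg (fun h => hij h.symm), neg_zero]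
    simp only [Fintype.sum_sum_type, h4, h5, h6, h7, mul_zero, Finset.sum_const_zero, zero_add, add_zero, mul_ite, mul_one,
      Finset.sum_ite_eq, Finset.mem_univ, if_true, mul_neg]
    rw [← Finset.sum_add_distrib, ← Finset.sum_neg_distrib]
    apply Finset.sum_congr rfl
    intro i _
    ring
  -- the matrix of u
  let φ : Module.End F V ≃ₐ[F] Matrix (Fin n ⊕ Fin n) (Fin n ⊕ Fin n) F := LinearMap.toMatrixAlgEquiv b
  have hφ : ∀ (x : Fin n ⊕ Fin n → F), b.equivFun.symm (φ (u : Module.End F V) *ᵥ x) = (u : Module.End F V) (b.equivFun.symm x) := by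
    intro x
    rw [LinearEquiv.symm_apply_eq]
    have := LinearMap.toMatrix_mulVec_repr b b (u : Module.End F V) (b.equivFun.symm x)
    have h8 : ((b.repr (b.equivFun.symm x) : (Fin n ⊕ Fin n) →₀ F) : Fin n ⊕ Fin n → F) = x := b.equivFun.apply_symm_apply x
    rw [h8] at this
    exact this
  have hmem : φ (u : Module.End F V) ∈ symplecticGroup (Fin n) F := by
    rw [H6.Symp.mem_iff_bf]
    intro x y
    have := hu (b.equivFun.symm x) (b.equivFun.symm y)
    rw [← hφ, ← hφ, hcoord, hcoord, neg_inj] at this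
    exact this
  refine ⟨QuotientGroup.mk ⟨φ (u : Module.End F V), hmem⟩, ?_⟩
  rw [orderOf_mk hn]
  have h9 : toUnit ⟨φ (u : Module.End F V), hmem⟩ = Units.map (φ : Module.End F V →* Matrix (Fin n ⊕ Fin n) (Fin n ⊕ Fin n) F) u := by
    apply Units.ext
    rfl
  rw [h9]
  exact projOrder_map (φ : Module.End F V →ₐ[F] Matrix (Fin n ⊕ Fin n) (Fin n ⊕ Fin n) F) φ.injective u

end H46.OrdPSp
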