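import Mathlib
import Cfsg.Agent.Lib.H46.SFormOps

/-! Isometries preserving an orthogonal decomposition, as block diagonal units. -/

set_option autoImplicit false

namespace H46.OrthDec

open Module Polynomial H46.SForm H46.SForm.SForm H46.ProjOrder H46.ProdUnit

variable {K V : Type*} [Field K] [AddCommGroup V] [Module K V] {σ : K →+* K} {f : SForm K V σ}

theorem orderOf_eq_of_conj {W : Type*} [AddCommGroup W] [Module K W]
    (e : W ≃ₗ[K] V) (u : (Module.End K V)ˣ) (w : (Module.End K W)ˣ)
    (h : u = Units.map ((e.conjAlgEquiv K : Module.End K W →* Module.End K V)) w) :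
    orderOf u = orderOf w := by
  rw [h]
  apply orderOf_injective
  exact Units.map_injective (e.conjAlgEquiv K).injective

theorem decomp_isom [Module.Finite K V] [Nontrivial V] {ε : K} (hsym : f.Sym ε) (hnd : f.ND) (W₁ W₂ : Submodule K V) (hW : IsCompl W₁ W₂)
    (horth : ∀ v ∈ W₁, ∀ w ∈ W₂, f.B v w = 0) (u : (Module.End K V)ˣ) (hu : f.Isom u)
    (h₁ : ∀ v ∈ W₁, (u : Module.End K V) v ∈ W₁) (h₂ : ∀ v ∈ W₂, (u : Module.End K V) v ∈ W₂) :
    ∃ (u₁ : (Module.End K W₁)ˣ) (u₂ : (Module.End K W₂)ˣ),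
      (f.pull W₁.subtype).Isom u₁ ∧ (f.pull W₂.subtype).Isom u₂ ∧
      (f.pull W₁.subtype).ND ∧ (f.pull W₂.subtype).ND ∧
      LinearMap.det (u : Module.End K V) = LinearMap.det (u₁ : Module.End K W₁) * LinearMap.det (u₂ : Module.End K W₂) ∧
      orderOf u = orderOf (prodUnit u₁ u₂) ∧ projOrder K u = projOrder K (prodUnit u₁ u₂) ∧
      (∀ w : W₁, (((u₁ : Module.End K W₁) w : W₁) : V) = (u : Module.End K V) w) ∧
      (∀ w : W₂, (((u₂ : Module.End K W₂) w : W₂) : V) = (u : Module.End K V) w) := by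
  have horth' : ∀ v ∈ W₂, ∀ w ∈ W₁, f.B v w = 0 := by
    intro v hv w hw
    rw [hsym w v, horth w hw v hv, map_zero, mul_zero]
  obtain ⟨u₁, u₂, hdet, hconj⟩ := exists_prodUnit u W₁ W₂ hW h₁ h₂
  have happ : ∀ w : W₁ × W₂, (u : Module.End K V) ((w.1 : V) + (w.2 : V)) =
      (((u₁ : Module.End K W₁) w.1 : W₁) : V) + (((u₂ : Module.End K W₂) w.2 : W₂) : V) := by
    intro w
    conv_lhs => rw [hconj]
    show (Submodule.prodEquivOfIsCompl W₁ W₂ hW) ((prodUnit u₁ u₂ : Module.End K (W₁ × W₂)) ((Submodule.prodEquivOfIsCompl W₁ W₂ hW).symm ((Submodule.prodEquivOfIsCompl W₁ W₂ hW) w))) = _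
    rw [LinearEquiv.symm_apply_apply]
    rfl
  have happ₁ : ∀ w : W₁, (((u₁ : Module.End K W₁) w : W₁) : V) = (u : Module.End K V) w := by
    intro w
    have := happ (w, 0)
    simpa using this.symm
  have happ₂ : ∀ w : W₂, (((u₂ : Module.End K W₂) w : W₂) : V) = (u : Module.End K V) w := by
    intro w
    have := happ (0, w)
    simpa using this.symm
  refine ⟨u₁, u₂, ?_, ?_, ?_, ?_, hdet, ?_, ?_, happ₁, happ₂⟩
  · intro v w
    show f.B _ _ = f.B _ _
    rw [Submodule.subtype_apply, Submodule.subtype_apply, happ₁, happ₁, hu]; rfl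
  · intro v w
    show f.B _ _ = f.B _ _
    rw [Submodule.subtype_apply, Submodule.subtype_apply, happ₂, happ₂, hu]; rfl
  · intro v hv
    apply Subtype.ext
    apply hnd
    intro w
    obtain ⟨a, ha, b, hb, rfl⟩ := mem_sup_of_compl hW w
    rw [f.add_right, horth v v.2 b hb, add_zero]
    exact hv ⟨a, ha⟩
  · intro v hv
    apply Subtype.ext
    apply hnd
    intro w
    obtain ⟨a, ha, b, hb, rfl⟩ := mem_sup_of_compl hW w
    rw [f.add_right, horth' v v.2 a ha, zero_add]
    exact hv ⟨b, hb⟩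
  · exact orderOf_eq_of_conj _ u (prodUnit u₁ u₂) hconj
  · exact projOrder_eq_of_conj (Submodule.prodEquivOfIsCompl W₁ W₂ hW) u (prodUnit u₁ u₂) hconj

theorem projOrder_neg {A : Type*} [Ring A] [Algebra K A] [Nontrivial A] (u : Aˣ) : projOrder K (-u) = projOrder K u := by
  rw [eq_projOrder_iff]
  intro k
  rw [projOrder_dvd_iff]
  constructor
  · rintro ⟨c, hc⟩
    refine ⟨(-1) ^ k * c, ?_⟩
    rw [Units.val_neg, neg_pow, hc, map_mul, map_pow, map_neg, map_one]
  · rintro ⟨c, hc⟩
    refine ⟨(-1) ^ k * c, ?_⟩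
    rw [map_mul, map_pow, map_neg, map_one, ← hc, Units.val_neg, ← neg_pow, neg_neg]

theorem isom_neg {u : (Module.End K V)ˣ} (hu : f.Isom u) : f.Isom (-u) := by
  intro v w
  rw [Units.val_neg, LinearMap.neg_apply, LinearMap.neg_apply, f.neg_left, f.neg_right, neg_neg, hu]

/-- multiply one block by `-1` -/
theorem projOrder_neg_block {V₁ V₂ : Type*} [AddCommGroup V₁] [Module K V₁] [AddCommGroup V₂] [Module K V₂]
    [Nontrivial V₁] [Nontrivial V₂] (hK : (2 : K) ≠ 0) {f₁ : SForm K V₁ (RingHom.id K)} (hnd₁ : f₁.ND)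
    (u₁ : (Module.End K V₁)ˣ) (u₂ : (Module.End K V₂)ˣ) (h₁ : f₁.Isom u₁)
    (N : ℕ) (hN : Odd N) (hord : orderOf (prodUnit u₁ u₂) = N) :
    projOrder K (prodUnit (-u₁) u₂) = 2 * N := by
  have hpow : u₁ ^ N = 1 ∧ u₂ ^ N = 1 := by
    have h := pow_orderOf_eq_one (prodUnit u₁ u₂)
    rw [hord, prodUnit_pow] at h
    constructor
    · apply Units.ext
      ext v
      have := congrArg (fun g : (Module.End K (V₁ × V₂))ˣ => ((g : Module.End K (V₁ × V₂)) (v, 0)).1) h
      simpa [prodUnit_apply] using this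
    · apply Units.ext
      ext v
      have := congrArg (fun g : (Module.End K (V₁ × V₂))ˣ => ((g : Module.End K (V₁ × V₂)) (0, v)).2) h
      simpa [prodUnit_apply] using this
  rw [eq_comm, eq_projOrder_iff]
  intro k
  rw [← Units.val_pow_eq_pow_val, prodUnit_pow]
  constructor
  · rintro ⟨c, hc⟩
    have hc1 : (((-u₁) ^ k : (Module.End K V₁)ˣ) : Module.End K V₁) = algebraMap K _ c := by
      ext v
      have := congrArg (fun g : Module.End K (V₁ × V₂) => (g (v, 0)).1) hc
      simpa [prodUnit_apply] using this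
    have hc2 : ((u₂ ^ k : (Module.End K V₂)ˣ) : Module.End K V₂) = algebraMap K _ c := by
      ext v
      have := congrArg (fun g : Module.End K (V₁ × V₂) => (g (0, v)).2) hc
      simpa [prodUnit_apply] using this
    have hcc : c * c = 1 := norm_one_of_scalar hnd₁ ((isom_neg h₁).pow k) hc1
    have hc3 : c ^ N = 1 := by
      apply (algebraMap K (Module.End K V₂)).injective
      rw [map_pow, ← hc2, ← Units.val_pow_eq_pow_val, ← pow_mul, mul_comm, pow_mul, hpow.2, one_pow, map_one]; rfl
    have hcN : c = 1 := by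
      obtain ⟨j, hj⟩ := hN
      rw [hj, pow_add, pow_mul, pow_two, hcc, one_pow, one_mul, pow_one] at hc3
      exact hc3
    have hkev : (-1 : K) ^ k = 1 := by
      have h3 : c ^ N = ((-1) ^ k) := by
        apply (algebraMap K (Module.End K V₁)).injective
        rw [map_pow, ← hc1, ← Units.val_pow_eq_pow_val, ← pow_mul, mul_comm k N, pow_mul, Odd.neg_pow hN, hpow.1,
          Units.val_pow_eq_pow_val, Units.val_neg, Units.val_one, map_pow, map_neg, map_one]
      rw [← h3, hc3]
    have hkeven : Even k := by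
      by_contra hodd
      rw [Nat.not_even_iff_odd] at hodd
      rw [hodd.neg_one_pow] at hkev
      apply hK
      linear_combination -hkev
    have h5 : (-u₁) ^ k = u₁ ^ k := hkeven.neg_pow u₁
    have h6 : N ∣ k := by
      rw [← hord, orderOf_dvd_iff_pow_eq_one, prodUnit_pow]
      rw [h5, hcN, map_one] at hc1
      rw [hcN, map_one] at hc2
      have h7 : u₁ ^ k = 1 := Units.ext hc1
      have h8 : u₂ ^ k = 1 := Units.ext hc2
      rw [h7, h8]
      ext <;> rfl
    exact Nat.Coprime.mul_dvd_of_dvd_of_dvd (Nat.coprime_two_left.mpr hN) hkeven.two_dvd h6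
  · intro hk
    refine ⟨1, ?_⟩
    obtain ⟨j, rfl⟩ := hk
    have h5 : (-u₁) ^ (2 * N * j) = 1 := by
      rw [pow_mul, pow_mul, neg_sq, ← pow_mul, ← pow_mul, show 2 * (N * j) = N * (2 * j) by ring, pow_mul, hpow.1, one_pow]
    have h6 : u₂ ^ (2 * N * j) = 1 := by
      rw [mul_comm 2 N, mul_assoc, pow_mul, hpow.2, one_pow]
    rw [h5, h6, map_one]
    ext <;> rfl

/-- restriction of a unit to an invariant subspace -/
theorem exists_res {K V : Type*} [Field K] [AddCommGroup V] [Module K V] [Module.Finite K V] (u : (Module.End K V)ˣ) (W : Submodule K V)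
    (h : ∀ v ∈ W, (u : Module.End K V) v ∈ W) :
    ∃ w : (Module.End K W)ˣ, (w : Module.End K W) = (u : Module.End K V).restrict h ∧
      ∀ x : W, (((w : Module.End K W) x : W) : V) = (u : Module.End K V) x := by
  let a : Module.End K W := (u : Module.End K V).restrict h
  have hu : IsUnit a := by
    rw [Module.End.isUnit_iff]
    have : Function.Injective a := by
      intro x y hxy
      apply Subtype.ext
      have h1 : (u : Module.End K V) x = (u : Module.End K V) y := congrArg Subtype.val hxy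
      rw [← unit_apply_inv u (x : V), h1, unit_apply_inv]
    exact ⟨this, (LinearMap.injective_iff_surjective).mp this⟩
  obtain ⟨w, hw⟩ := hu
  exact ⟨w, hw, fun x => by rw [hw]; rfl⟩

theorem res_pow {K V : Type*} [Field K] [AddCommGroup V] [Module K V] {W : Submodule K V} {g : Module.End K V} {w : Module.End K W}
    (h : ∀ x : W, ((w x : W) : V) = g x) (m : ℕ) (x : W) : (((w ^ m) x : W) : V) = (g ^ m) x := by
  induction m generalizing x with
  | zero => rfl
  | succ m ih =>
    rw [pow_succ, pow_succ]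
    show (((w ^ m) (w x) : W) : V) = (g ^ m) (g x)
    rw [ih, h]

theorem res_aeval {K V : Type*} [Field K] [AddCommGroup V] [Module K V] {W : Submodule K V} {g : Module.End K V} {w : Module.End K W}
    (h : ∀ x : W, ((w x : W) : V) = g x) (P : K[X]) (x : W) : (((aeval w P) x : W) : V) = (aeval g P) x := by
  induction P using Polynomial.induction_on' with
  | add p q hp hq =>
    rw [map_add, map_add, LinearMap.add_apply, LinearMap.add_apply, Submodule.coe_add, hp, hq]
  | monomial n c =>
    rw [aeval_monomial, aeval_monomial]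
    show ((c • ((w ^ n) x) : W) : V) = c • ((g ^ n) x)
    rw [Submodule.coe_smul, res_pow h]

end H46.OrthDec
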