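import Mathlib
import Cfsg.Agent.Lib.H46.ProdUnit
import Cfsg.Agent.Lib.H46.Decomp
import Cfsg.Agent.Lib.H46.Singer
import Cfsg.Agent.Lib.H53.Zsig

/-! Elements of order divisible by a primitive prime divisor act irreducibly. -/

set_option autoImplicit false

namespace H46.Irr

open Module Polynomial H46.ProjOrder H46.ExtElt H46.Decomp H46.ProdUnit H46.Singer

theorem orderOf_prodUnit {K V₁ V₂ : Type*} [Field K] [AddCommGroup V₁] [Module K V₁] [AddCommGroup V₂] [Module K V₂]
    (u₁ : (Module.End K V₁)ˣ) (u₂ : (Module.End K V₂)ˣ) :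
    orderOf (prodUnit u₁ u₂) = Nat.lcm (orderOf u₁) (orderOf u₂) := by
  have h1 : orderOf (prodUnit u₁ u₂) = orderOf (MulEquiv.prodUnits.symm (u₁, u₂)) := by
    apply orderOf_injective
    apply Units.map_injective
    intro a b hab
    have h : LinearMap.prodMap a.1 a.2 = LinearMap.prodMap b.1 b.2 := hab
    apply Prod.ext
    · ext v
      have := congrArg (fun g : Module.End K (V₁ × V₂) => (g (v, 0)).1) h
      simpa using this
    · ext v
      have := congrArg (fun g : Module.End K (V₁ × V₂) => (g (0, v)).2) h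
      simpa using this
  rw [h1, MulEquiv.orderOf_eq, Prod.orderOf_mk]

theorem orderOf_eq_of_conj {K V : Type*} [Field K] [AddCommGroup V] [Module K V] {W : Type*} [AddCommGroup W] [Module K W]
    (e : W ≃ₗ[K] V) (u : (Module.End K V)ˣ) (w : (Module.End K W)ˣ)
    (h : u = Units.map ((e.conjAlgEquiv K : Module.End K W →* Module.End K V)) w) :
    orderOf u = orderOf w := by
  rw [h]
  apply orderOf_injective
  exact Units.map_injective (e.conjAlgEquiv K).injective

/-- an endomorphism with irreducible minimal polynomial and determinant one has projective order in `ST` -/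
theorem projOrder_mem_ST {F : Type*} [Field F] [Finite F] {V : Type*} [AddCommGroup V] [Module F V]
    [Module.Finite F V] [Nontrivial V] (u : (Module.End F V)ˣ) (h : Irreducible (minpoly F (u : Module.End F V)))
    (hdet : LinearMap.det (u : Module.End F V) = 1) (K : Type*) [Field K] [Finite K] [Algebra F K] (hK : finrank F K = finrank F V) :
    projOrder F u ∈ ST F K := by
  obtain ⟨β, hβ₁, hβ₂⟩ := exists_ext_elt (u : Module.End F V) h K hK
  have hfin : Module.Finite F K := Module.finite_of_finrank_pos (by rw [hK]; exact finrank_pos)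
  have hβ0 : β ≠ 0 := by
    rintro rfl
    rw [hdet, Algebra.norm_zero] at hβ₁
    exact zero_ne_one hβ₁
  refine ⟨Units.mk0 β hβ0, ?_, ?_⟩
  · simp only [Units.val_mk0]
    rw [hβ₁, hdet]
  · rw [eq_comm, eq_projOrder_iff]
    intro k
    rw [projOrder_dvd_iff]
    have key : ∀ c : F, (β ^ k = algebraMap F K c ↔ (u : Module.End F V) ^ k = algebraMap F _ c) := by
      intro c
      have h1 : β ^ k = algebraMap F K c ↔ aeval β (X ^ k - C c : F[X]) = 0 := by
        simp [sub_eq_zero]
      have h2 : (u : Module.End F V) ^ k = algebraMap F _ c ↔ aeval (u : Module.End F V) (X ^ k - C c : F[X]) = 0 := by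
        simp [sub_eq_zero]
      rw [h1, h2, ← minpoly.dvd_iff, ← minpoly.dvd_iff, hβ₂]
    constructor
    · rintro ⟨c, hc⟩
      exact ⟨c, (key c).mp hc⟩
    · rintro ⟨c, hc⟩
      exact ⟨c, (key c).mpr hc⟩

/-- a primitive prime divisor forces irreducibility -/
theorem irreducible_of_zsig {F : Type*} [Field F] [Finite F] {V : Type*} [AddCommGroup V] [Module F V]
    [Module.Finite F V] [Nontrivial V] (u : (Module.End F V)ˣ) (N : ℕ) (hN : (N : F) ≠ 0) (c : F) (hc : (u : Module.End F V) ^ N = algebraMap F _ c)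
    (r : ℕ) (hr : r.Prime) (hrF : (r : F) ≠ 0) (hru : r ∣ orderOf u)
    (hz : ∀ d, 0 < d → d < finrank F V → ¬ r ∣ Nat.card F ^ d - 1) :
    Irreducible (minpoly F (u : Module.End F V)) := by
  have hc0 : c ≠ 0 := by
    rintro rfl
    rw [map_zero, ← Units.val_pow_eq_pow_val] at hc
    exact (u ^ N).ne_zero hc
  have hP : Squarefree (X ^ N - C c : F[X]) := (separable_X_pow_sub_C c hN hc0).squarefree
  rcases decomp_or_irreducible (u : Module.End F V) (X ^ N - C c) hP (by simp [hc]) with h | h
  · exfalso
    obtain ⟨W₁, W₂, hW, h₁, h₂, hinv⟩ := h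
    obtain ⟨hi₁, hi₂⟩ := hinv _ (Commute.refl _)
    obtain ⟨u₁, u₂, hdet, hconj⟩ := exists_prodUnit u W₁ W₂ hW hi₁ hi₂
    have ho := orderOf_eq_of_conj _ u (prodUnit u₁ u₂) hconj
    rw [orderOf_prodUnit] at ho
    have hnt₁ : Nontrivial W₁ := Submodule.nontrivial_iff_ne_bot.mpr h₁
    have hnt₂ : Nontrivial W₂ := Submodule.nontrivial_iff_ne_bot.mpr h₂
    have hp1 : 0 < finrank F W₁ := finrank_pos
    have hp2 : 0 < finrank F W₂ := finrank_pos
    have hsum := Submodule.finrank_add_eq_of_isCompl hW
    have key : ∀ (W : Type _) [AddCommGroup W] [Module F W] [Module.Finite F W] (w : (Module.End F W)ˣ), finrank F W < finrank F V →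
        r ∣ orderOf w → False := by
      intro W _ _ _ w hlt hrw
      have hfinW : Finite W := Module.finite_of_finite F
      have hfin2 : Finite (Module.End F W) := Finite.of_injective (fun g : Module.End F W => (g : W → W)) DFunLike.coe_injective
      have h3 : orderOf (w : Module.End F W) = orderOf w := orderOf_units
      obtain ⟨d, hd0, hdle, hdvd⟩ := exists_dvd_pow_sub_one' (w : Module.End F W) r 1 hr hrF one_pos (by rw [h3]; exact orderOf_pos w)
        (by rw [h3, pow_one]; exact hrw)
      rw [pow_one] at hdvd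
      exact hz d hd0 (by omega) hdvd
    rw [ho] at hru
    have h4 : r ∣ orderOf u₁ * orderOf u₂ := hru.trans (Nat.lcm_dvd_mul _ _)
    rcases (Nat.Prime.dvd_mul hr).mp h4 with h5 | h5
    · exact key W₁ u₁ (by omega) h5
    · exact key W₂ u₂ (by omega) h5
  · exact h

end H46.Irr
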