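import Mathlib
import Cfsg.Agent.Lib.H46.OrthDec
import Cfsg.Agent.Lib.H46.OrdPSp
import Cfsg.Agent.Lib.H46.ExtElt

/-! Odd element orders of `PSp(2n, q)`, `q` odd. -/

set_option autoImplicit false

namespace H46.SpDich

open Module Polynomial H46.SForm H46.SForm.SForm H46.ProjOrder H46.ProdUnit H46.OrthDec H46.FieldInv H46.ExtElt

/-- lifting an element of odd order -/
theorem exists_lift {F : Type*} [Field F] {n : ℕ} (hn : 0 < n) (x : Cfsg.PSp n F) (hx : Odd (orderOf x)) :
    ∃ u : (Module.End F (Fin n ⊕ Fin n → F))ˣ, (H46.OrdPSp.stdForm n F).Isom u ∧ orderOf u = orderOf x ∧ projOrder F u = orderOf x := by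
  have hne : Nonempty (Fin n ⊕ Fin n) := ⟨Sum.inl ⟨0, hn⟩⟩
  obtain ⟨u, hu, hux⟩ := H46.OrdPSp.exists_isom hn x
  obtain ⟨c, hc⟩ := (projOrder_dvd_iff u (orderOf x)).mp (by rw [hux])
  have hcc : c * c = 1 := by
    rw [← Units.val_pow_eq_pow_val] at hc
    exact norm_one_of_scalar (H46.OrdPSp.stdForm_nd n) (hu.pow _) hc
  have hc' : c = 1 ∨ c = -1 := by
    have : (c - 1) * (c + 1) = 0 := by linear_combination hcc
    rcases mul_eq_zero.mp this with h | h
    · left; linear_combination h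
    · right; linear_combination h
  have key : ∀ w : (Module.End F (Fin n ⊕ Fin n → F))ˣ, projOrder F w = orderOf x → (w : Module.End F (Fin n ⊕ Fin n → F)) ^ (orderOf x) = 1 →
      orderOf w = orderOf x := by
    intro w hw h1
    apply Nat.dvd_antisymm
    · rw [orderOf_dvd_iff_pow_eq_one]
      exact Units.ext (by rw [Units.val_pow_eq_pow_val, h1]; rfl)
    · rw [← hw]; exact projOrder_dvd_orderOf w
  rcases hc' with rfl | rfl
  · exact ⟨u, hu, key u hux (by rw [hc, map_one]), hux⟩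
  · refine ⟨-u, isom_neg hu, key (-u) (by rw [projOrder_neg, hux]) ?_, by rw [projOrder_neg, hux]⟩
    rw [Units.val_neg, Odd.neg_pow hx, hc, map_neg, map_one, neg_neg]

theorem pow_card_sub_one {K : Type*} [Field K] [Finite K] {V : Type*} [AddCommGroup V] [Module K V]
    [Module.Finite K V] [Nontrivial V] (s : (Module.End K V)ˣ) (μ : K[X]) (hμ : minpoly K (s : Module.End K V) = μ) (hs : Irreducible μ) :
    s ^ (Nat.card (AdjoinRoot μ) - 1) = 1 := by
  obtain ⟨φ, hφ, hinj⟩ := field_act (s : Module.End K V) μ hμ hs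
  have hfact : Fact (Irreducible μ) := ⟨hs⟩
  haveI hfin0 : Module.Finite K (AdjoinRoot μ) := (AdjoinRoot.powerBasis hs.ne_zero).finite
  haveI hfin1 : Finite (AdjoinRoot μ) := Module.finite_of_finite K
  letI := Fintype.ofFinite (AdjoinRoot μ)
  have hθ0 : AdjoinRoot.root μ ≠ 0 := by
    intro h
    rw [h, map_zero] at hφ
    exact s.ne_zero hφ.symm
  apply Units.ext
  rw [Units.val_pow_eq_pow_val, ← hφ, ← map_pow, Nat.card_eq_fintype_card, FiniteField.pow_card_sub_one_eq_one _ hθ0, map_one]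
  rfl

theorem irreducible_minpoly_restrict {K : Type*} [Field K] {V : Type*} [AddCommGroup V] [Module K V]
    [Module.Finite K V] [Nontrivial V] (s : Module.End K V) (h : K[X]) (hh : Irreducible h) (h0 : ∀ v, aeval s h v = 0) :
    Irreducible (minpoly K s) := by
  have h1 : aeval s h = 0 := LinearMap.ext h0
  have h2 : minpoly K s ∣ h := minpoly.dvd K s h1
  rcases hh.dvd_iff.mp h2 with h3 | h3
  · exact absurd h3 (minpoly.not_isUnit K s)
  · exact h3.irreducible hh

/-- the unipotent bound -/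
theorem unip_bound {K : Type*} [Field K] {V : Type*} [AddCommGroup V] [Module K V] [Nontrivial V] (p : ℕ) [Fact p.Prime] [CharP K p]
    (g : Module.End K V) (k i : ℕ) (h : (g - 1) ^ k = 0) (hg : g ^ p ^ (i - 1) ≠ 1) : p ^ (i - 1) < k := by
  by_contra hcon
  push Not at hcon
  apply hg
  have : CharP (Module.End K V) p := charP_of_injective_algebraMap (FaithfulSMul.algebraMap_injective K (Module.End K V)) p
  have h1 := pow_eq_zero_of_le hcon h
  rw [sub_pow_char_pow_of_commute p (i - 1) (Commute.one_right g), one_pow, sub_eq_zero] at h1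
  exact h1

theorem isNilpotent_sub_one {K : Type*} [Field K] {V : Type*} [AddCommGroup V] [Module K V] [Nontrivial V] (p : ℕ) [Fact p.Prime] [CharP K p]
    (g : Module.End K V) (i : ℕ) (hg : g ^ p ^ i = 1) : IsNilpotent (g - 1) := by
  have : CharP (Module.End K V) p := charP_of_injective_algebraMap (FaithfulSMul.algebraMap_injective K (Module.End K V)) p
  refine ⟨p ^ i, ?_⟩
  rw [sub_pow_char_pow_of_commute p i (Commute.one_right g), one_pow, hg, sub_self]

/-- if `c ^ r = c` on the field with `q = p ^ a` elements and `r` is a power of `p`, then `r` is a power of `q` -/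
theorem exists_pow_eq {F : Type*} [Field F] [Finite F] (p : ℕ) [Fact p.Prime] [CharP F p] (r m : ℕ) (hr : r ^ 2 = Nat.card F ^ m)
    (h : ∀ c : F, c = c ^ r) : ∃ e, r = Nat.card F ^ e := by
  have hp : p.Prime := Fact.out
  obtain ⟨a, ha0, ha⟩ : ∃ a, 0 < a ∧ Nat.card F = p ^ a := by
    letI := Fintype.ofFinite F
    obtain ⟨a, _, ha⟩ := FiniteField.card F p
    exact ⟨a, a.2, by rw [Nat.card_eq_fintype_card, ha]⟩
  obtain ⟨b, -, hb⟩ : ∃ b ≤ a * m, r = p ^ b := by
    rw [← Nat.dvd_prime_pow hp, pow_mul, ← ha, ← hr]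
    exact dvd_pow_self r (by norm_num)
  obtain ⟨g, hg⟩ := exists_unit_orderOf F (Nat.card F - 1) dvd_rfl
  have hr1 : 1 ≤ r := by rw [hb]; exact Nat.one_le_pow _ _ hp.pos
  have hdvd : Nat.card F - 1 ∣ r - 1 := by
    rw [← hg, orderOf_dvd_iff_pow_eq_one]
    have h1 : g * g ^ (r - 1) = g * 1 := by
      rw [← pow_succ', Nat.sub_add_cancel hr1, mul_one]
      apply Units.ext
      rw [Units.val_pow_eq_pow_val]
      exact (h g).symm
    exact mul_left_cancel h1
  have h2 := Nat.gcd_eq_left hdvd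
  rw [ha, hb, Nat.pow_sub_one_gcd_pow_sub_one] at h2
  have h3 : p ^ a.gcd b = p ^ a := by
    have h4 : 1 ≤ p ^ a.gcd b := Nat.one_le_pow _ _ hp.pos
    have h5 : 1 ≤ p ^ a := Nat.one_le_pow _ _ hp.pos
    omega
  have h6 : a.gcd b = a := Nat.pow_right_injective hp.two_le h3
  obtain ⟨e, he⟩ : a ∣ b := Nat.gcd_eq_left_iff_dvd.mp h6
  exact ⟨e, by rw [ha, hb, he, pow_mul]⟩

theorem sp_dichotomy {F : Type*} [Field F] [Finite F] (p : ℕ) [Fact p.Prime] [CharP F p] (h2F : (2 : F) ≠ 0) {n : ℕ} (hn : 0 < n)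
    (x : Cfsg.PSp n F) (hx : Odd (orderOf x)) :
    (2 * orderOf x ∈ Set.range (orderOf : Cfsg.PSp n F → ℕ)) ∨ (∃ i, orderOf x = p ^ i) ∨
      ∃ e k i t : ℕ, n = e * k ∧ orderOf x = p ^ i * t ∧ (t ∣ Nat.card F ^ e + 1 ∨ t ∣ Nat.card F ^ e - 1) ∧
        (i = 0 ∨ p ^ (i - 1) < k) := by
  have hp : p.Prime := Fact.out
  have hne : Nonempty (Fin n ⊕ Fin n) := ⟨Sum.inl ⟨0, hn⟩⟩
  obtain ⟨u, hu, huo, hup⟩ := exists_lift hn x hx
  obtain ⟨f, hf⟩ : ∃ f, f = H46.OrdPSp.stdForm n F := ⟨_, rfl⟩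
  have halt : f.Alt := hf ▸ H46.OrdPSp.stdForm_alt n
  have hnd : f.ND := hf ▸ H46.OrdPSp.stdForm_nd n
  rw [← hf] at hu
  have hsym := halt.sym
  have hndr : f.NDR := hsym.ndr hnd
  have hrank : finrank F (Fin n ⊕ Fin n → F) = 2 * n := by simp; omega
  obtain ⟨N, hN⟩ : ∃ N, N = orderOf x := ⟨_, rfl⟩
  rw [← hN] at huo hup hx ⊢
  have hNpos : 0 < N := hx.pos
  obtain ⟨e0, he0⟩ : ∃ e0, e0 = N.factorization p := ⟨_, rfl⟩
  obtain ⟨t, ht⟩ : ∃ t, t = N / p ^ e0 := ⟨_, rfl⟩
  have hpe : p ^ e0 ∣ N := he0 ▸ Nat.ordProj_dvd N p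
  have hNt : N = p ^ e0 * t := by rw [ht, Nat.mul_div_cancel' hpe]
  have htp : ¬ p ∣ t := by rw [ht, he0]; exact Nat.not_dvd_ordCompl hp hNpos.ne'
  have htpos : 0 < t := Nat.pos_of_ne_zero (by rintro rfl; exact htp (dvd_zero p))
  have htodd : Odd t := by
    have := hx
    rw [hNt] at this
    exact (Nat.odd_mul.mp this).2
  have htF : (t : F) ≠ 0 := by
    rw [Ne, CharP.cast_eq_zero_iff F p]
    exact htp
  obtain ⟨s, hs⟩ : ∃ s, s = u ^ p ^ e0 := ⟨_, rfl⟩
  obtain ⟨g, hg⟩ : ∃ g, g = u ^ t := ⟨_, rfl⟩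
  have hso : orderOf s = t := by
    rw [hs, orderOf_pow_of_dvd (pow_pos hp.pos e0).ne' (by rw [huo]; exact hpe), huo, ← ht]
  have hgo : orderOf g = p ^ e0 := by
    rw [hg, orderOf_pow_of_dvd htpos.ne' (by rw [huo, hNt]; exact dvd_mul_left _ _), huo, hNt, Nat.mul_div_cancel _ htpos]
  have hsu : f.Isom s := by rw [hs]; exact hu.pow _
  have hgu : f.Isom g := by rw [hg]; exact hu.pow _
  have hcomm : Commute (u : Module.End F (Fin n ⊕ Fin n → F)) (s : Module.End F (Fin n ⊕ Fin n → F)) := by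
    rw [hs, Units.val_pow_eq_pow_val]
    exact Commute.self_pow _ _
  have hcommg : Commute (g : Module.End F (Fin n ⊕ Fin n → F)) (s : Module.End F (Fin n ⊕ Fin n → F)) := by
    rw [hg, Units.val_pow_eq_pow_val]
    exact hcomm.pow_left _
  have hst : aeval (s : Module.End F (Fin n ⊕ Fin n → F)) (X ^ t - C 1 : F[X]) = 0 := by
    have h1 : (s : Module.End F (Fin n ⊕ Fin n → F)) ^ t = 1 := by
      rw [← Units.val_pow_eq_pow_val, ← hso, pow_orderOf_eq_one]; rfl
    simp [h1]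
  have hP : Squarefree (X ^ t - C 1 : F[X]) := (separable_X_pow_sub_C 1 htF one_ne_zero).squarefree
  rcases structure_isom (fun _ => rfl) (ε := (-1 : F)) ⟨rfl, by ring⟩ hsym hnd s hsu _ hP hst with h | h | h
  · left
    obtain ⟨W₁, W₂, hW, hW₁, hW₂, horth, hinv⟩ := h
    obtain ⟨hi₁, hi₂⟩ := hinv _ hcomm
    obtain ⟨u₁, u₂, hu₁, hu₂, hnd₁, hnd₂, -, hord, -, -, -⟩ := decomp_isom hsym hnd W₁ W₂ hW horth u hu hi₁ hi₂
    have hnt₁ : Nontrivial W₁ := Submodule.nontrivial_iff_ne_bot.mpr hW₁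
    have hnt₂ : Nontrivial W₂ := Submodule.nontrivial_iff_ne_bot.mpr hW₂
    rw [← projOrder_neg_block h2F hnd₁ u₁ u₂ hu₁ N hx (by rw [← hord, huo])]
    apply H46.OrdPSp.mem_orders hn ((f.pull W₁.subtype).prod (f.pull W₂.subtype))
    · exact Alt.prod (fun v => halt _) (fun v => halt _)
    · exact ND.prod hnd₁ hnd₂
    · rw [finrank_prod, Submodule.finrank_add_eq_of_isCompl hW, hrank]
    · exact Isom.prod (isom_neg hu₁) hu₂
  · right
    by_cases hs2 : s ^ 2 = 1
    · left
      have h1 : t ∣ 2 := by rw [← hso]; exact orderOf_dvd_of_pow_eq_one hs2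
      have h3 : t = 1 := by
        rcases (Nat.dvd_prime Nat.prime_two).mp h1 with h | h
        · exact h
        · rw [h] at htodd
          exact absurd htodd (by decide)
      exact ⟨e0, by rw [hNt, h3, mul_one]⟩
    · right
      obtain ⟨r, hr, hsr, -, hcr⟩ := irred_data (fun _ => rfl) hndr s hsu _ rfl h (Or.inr hs2)
      obtain ⟨k, hk0, hkdim, hkcard, -, hunip⟩ := field_data (s : Module.End F (Fin n ⊕ Fin n → F)) _ rfl h
      have hfact : Fact (Irreducible (minpoly F (s : Module.End F (Fin n ⊕ Fin n → F)))) := ⟨h⟩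
      haveI hfin0 : Module.Finite F (AdjoinRoot (minpoly F (s : Module.End F (Fin n ⊕ Fin n → F)))) := (AdjoinRoot.powerBasis h.ne_zero).finite
      obtain ⟨e, he⟩ := exists_pow_eq (F := F) p r _ (by rw [hr, Module.natCard_eq_pow_finrank (K := F)]) (fun c => hcr c)
      have hq1 : 1 < Nat.card F := Finite.one_lt_card
      refine ⟨e, k, e0, t, ?_, hNt, Or.inl ?_, ?_⟩
      · rw [← hr, he, Module.natCard_eq_pow_finrank (K := F) (V := Fin n ⊕ Fin n → F), hrank, ← pow_mul, ← pow_mul] at hkcard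
        have := Nat.pow_right_injective hq1 hkcard
        nlinarith
      · rw [← hso, ← he]
        exact orderOf_dvd_of_pow_eq_one hsr
      · rcases Nat.eq_zero_or_pos e0 with h0 | h0
        · exact Or.inl h0
        · right
          apply unip_bound p (g : Module.End F (Fin n ⊕ Fin n → F)) k e0 (hunip _ hcommg (isNilpotent_sub_one p _ e0 (by
            rw [← Units.val_pow_eq_pow_val, ← hgo, pow_orderOf_eq_one]; rfl)))
          intro h1
          have h3 : g ^ p ^ (e0 - 1) = 1 := Units.ext (by rw [Units.val_pow_eq_pow_val, h1]; rfl)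
          have h4 := orderOf_dvd_of_pow_eq_one h3
          rw [hgo] at h4
          have h5 := Nat.le_of_dvd (pow_pos hp.pos _) h4
          have h6 : p ^ (e0 - 1) < p ^ e0 := Nat.pow_lt_pow_right hp.one_lt (by omega)
          omega
  · right; right
    obtain ⟨W₁, W₂, h, hW, hW₁, hW₂, hiso₁, hiso₂, hinv, hirr, hker⟩ := h
    have hpair : Pair f W₁ W₂ := ⟨hW, hiso₁, hiso₂⟩
    have hnt₁ : Nontrivial W₁ := Submodule.nontrivial_iff_ne_bot.mpr hW₁
    obtain ⟨hs₁, hs₂⟩ := hinv _ (Commute.refl (s : Module.End F (Fin n ⊕ Fin n → F)))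
    obtain ⟨hg₁, hg₂⟩ := hinv _ hcommg
    obtain ⟨s₁, -, hs₁v⟩ := exists_res s W₁ hs₁
    obtain ⟨g₁, -, hg₁v⟩ := exists_res g W₁ hg₁
    have hirr₁ : Irreducible (minpoly F (s₁ : Module.End F W₁)) := by
      apply irreducible_minpoly_restrict _ h hirr
      intro w
      apply Subtype.ext
      rw [res_aeval hs₁v, hker w w.2]; rfl
    obtain ⟨k, hk0, hkdim, hkcard, -, hunip⟩ := field_data (s₁ : Module.End F W₁) _ rfl hirr₁
    have hfact : Fact (Irreducible (minpoly F (s₁ : Module.End F W₁))) := ⟨hirr₁⟩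
    haveI hfin0 : Module.Finite F (AdjoinRoot (minpoly F (s₁ : Module.End F W₁))) := (AdjoinRoot.powerBasis hirr₁.ne_zero).finite
    have hq1 : 1 < Nat.card F := Finite.one_lt_card
    have hdim₁ : finrank F W₁ = n := by
      have h1 := hpair.finrank_eq hndr
      have h2 := Submodule.finrank_add_eq_of_isCompl hW
      rw [hrank] at h2
      omega
    -- triviality on W₁ implies triviality
    have htriv : ∀ (w : (Module.End F (Fin n ⊕ Fin n → F))ˣ) (w₁ : (Module.End F W₁)ˣ), f.Isom w → (∀ v ∈ W₂, (w : Module.End F (Fin n ⊕ Fin n → F)) v ∈ W₂) →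
        (∀ x : W₁, (((w₁ : Module.End F W₁) x : W₁) : Fin n ⊕ Fin n → F) = (w : Module.End F (Fin n ⊕ Fin n → F)) x) → ∀ m : ℕ, w₁ ^ m = 1 → w ^ m = 1 := by
      intro w w₁ hw hw₂ hww m hm
      apply hpair.eq_one hndr hnd (hw.pow m)
      · intro v hv
        have : ∀ j : ℕ, ∀ v ∈ W₂, ((w ^ j : (Module.End F (Fin n ⊕ Fin n → F))ˣ) : Module.End F (Fin n ⊕ Fin n → F)) v ∈ W₂ := by
          intro j
          induction j with
          | zero => intro v hv; exact hv
          | succ j ih =>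
            intro v hv
            rw [pow_succ, Units.val_mul]
            exact ih _ (hw₂ v hv)
        exact this m v hv
      · intro v hv
        have h3 := res_pow hww m ⟨v, hv⟩
        rw [Units.val_pow_eq_pow_val, ← h3, ← Units.val_pow_eq_pow_val, hm]
        rfl
    refine ⟨finrank F (AdjoinRoot (minpoly F (s₁ : Module.End F W₁))), k, e0, t, ?_, hNt, Or.inr ?_, ?_⟩
    · rw [hkdim, hdim₁]
    · rw [← hso, ← Module.natCard_eq_pow_finrank (K := F)]
      exact orderOf_dvd_of_pow_eq_one (htriv s s₁ hsu hs₂ hs₁v _ (pow_card_sub_one s₁ _ rfl hirr₁))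
    · rcases Nat.eq_zero_or_pos e0 with h0 | h0
      · exact Or.inl h0
      · right
        have hgp : g₁ ^ p ^ e0 = 1 := by
          apply Units.ext
          ext1 x
          apply Subtype.ext
          rw [Units.val_pow_eq_pow_val, res_pow hg₁v, ← Units.val_pow_eq_pow_val, ← hgo, pow_orderOf_eq_one]
          rfl
        have hc₁ : Commute (g₁ : Module.End F W₁) (s₁ : Module.End F W₁) := by
          ext1 x
          apply Subtype.ext
          show (((g₁ : Module.End F W₁) ((s₁ : Module.End F W₁) x) : W₁) : Fin n ⊕ Fin n → F) = (((s₁ : Module.End F W₁) ((g₁ : Module.End F W₁) x) : W₁) : Fin n ⊕ Fin n → F)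
          rw [hg₁v, hs₁v, hs₁v, hg₁v]
          exact congrArg (fun φ : Module.End F (Fin n ⊕ Fin n → F) => φ x) hcommg.eq
        apply unip_bound p (g₁ : Module.End F W₁) k e0 (hunip _ hc₁ (isNilpotent_sub_one p _ e0 (by
          rw [← Units.val_pow_eq_pow_val, hgp]; rfl)))
        intro h1
        have h3 : g₁ ^ p ^ (e0 - 1) = 1 := Units.ext (by rw [Units.val_pow_eq_pow_val, h1]; rfl)
        have h4 := orderOf_dvd_of_pow_eq_one (htriv g g₁ hgu hg₂ hg₁v _ h3)
        rw [hgo] at h4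
        have h5 := Nat.le_of_dvd (pow_pos hp.pos _) h4
        have h6 : p ^ (e0 - 1) < p ^ e0 := Nat.pow_lt_pow_right hp.one_lt (by omega)
        omega

end H46.SpDich
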