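import Mathlib
import Cfsg.Agent.Lib.H46.SFormOps
import Cfsg.Agent.Lib.H46.ExtElt

/-! Model isometries: commutative algebras with involution. Tori and regular unipotent elements of symplectic groups. -/

set_option autoImplicit false

universe w

namespace H46.SpModels

open Module Polynomial H46.SForm H46.SForm.SForm H46.ProjOrder H46.ExtElt

section General

variable {K A : Type*} [Field K] [CommRing A] [Algebra K A] {σ : K →+* K}

/-- the form `(a, b) ↦ ℓ (a τ(b))` -/
def algForm (τ : A →+* A) (hτ : ∀ c, τ (algebraMap K A c) = algebraMap K A (σ c)) (ℓ : A →ₗ[K] K) : SForm K A σ where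
  B := fun a b => ℓ (a * τ b)
  add_left := fun u v w => by rw [add_mul, map_add]
  add_right := fun u v w => by rw [map_add, mul_add, map_add]
  smul_left := fun c v w => by rw [smul_mul_assoc, map_smul, smul_eq_mul]
  smul_right := fun c v w => by
    rw [Algebra.smul_def, map_mul τ, hτ, ← Algebra.smul_def, mul_smul_comm, map_smul, smul_eq_mul]

/-- multiplication by a unit -/
def mulUnit (K : Type*) {A : Type*} [Field K] [CommRing A] [Algebra K A] (β : Aˣ) : (Module.End K A)ˣ :=
  Units.map (Algebra.lmul K A : A →* Module.End K A) β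

theorem mulUnit_apply (β : Aˣ) (a : A) : (mulUnit K β : Module.End K A) a = β * a := rfl

theorem isom_mulUnit (τ : A →+* A) (hτ : ∀ c, τ (algebraMap K A c) = algebraMap K A (σ c)) (ℓ : A →ₗ[K] K) (β : Aˣ)
    (h : (β : A) * τ β = 1) : (algForm τ hτ ℓ).Isom (mulUnit K β) := by
  intro a b
  show ℓ ((β : A) * a * τ ((β : A) * b)) = ℓ (a * τ b)
  have h1 : (β : A) * a * τ ((β : A) * b) = a * τ b := by
    rw [map_mul τ]
    linear_combination (a * τ b) * h
  rw [h1]

theorem orderOf_mulUnit (β : Aˣ) : orderOf (mulUnit K β) = orderOf β := by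
  apply orderOf_injective
  exact Units.map_injective Algebra.lmul_injective

theorem projOrder_mulUnit [Nontrivial A] (β : Aˣ) : projOrder K (mulUnit K β) = projOrder K β :=
  projOrder_map (Algebra.lmul K A) Algebra.lmul_injective β

theorem det_mulUnit (β : Aˣ) : LinearMap.det (mulUnit K β : Module.End K A) = Algebra.norm K (β : A) := by
  rw [Algebra.norm_apply]; rfl

end General

section Torus

variable {F : Type*} [Field F] [Finite F]

/-- `x ↦ x ^ (q ^ e)` -/
noncomputable def frobPow (F A : Type*) [Field F] [Finite F] [Field A] [Algebra F A] [Algebra.IsAlgebraic F A] (e : ℕ) : A ≃ₐ[F] A :=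
  letI := Fintype.ofFinite F
  (FiniteField.frobeniusAlgEquivOfAlgebraic F A) ^ e

theorem frobPow_apply {A : Type*} [Field A] [Algebra F A] [Algebra.IsAlgebraic F A] (e : ℕ) (x : A) :
    frobPow F A e x = x ^ (Nat.card F ^ e) := by
  letI := Fintype.ofFinite F
  have := congrFun (FiniteField.coe_frobeniusAlgEquivOfAlgebraic_iterate (K := F) (L := A) e) x
  rw [Nat.card_eq_fintype_card, ← this]
  unfold frobPow
  rw [AlgEquiv.coe_pow]

theorem pow_card_finrank {A : Type*} [Field A] [Finite A] [Algebra F A] (x : A) : x ^ (Nat.card F ^ finrank F A) = x := by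
  letI := Fintype.ofFinite A
  have h : Nat.card F ^ finrank F A = Fintype.card A := by
    rw [← Nat.card_eq_fintype_card, Module.natCard_eq_pow_finrank (K := F) (V := A)]
  rw [h, FiniteField.pow_card]

theorem trace_eq_sum {A : Type*} [Field A] [Finite A] [Algebra F A] (x : A) :
    algebraMap F A (Algebra.trace F A x) = ∑ i ∈ Finset.range (finrank F A), x ^ (Nat.card F ^ i) :=
  FiniteField.algebraMap_trace_eq_sum_pow F A x

/-- the torus of order `q^e + 1` in `Sp_{2e}(q)` -/
theorem torus_plus (F : Type*) [Field F] [Finite F] (e : ℕ) (he : 0 < e) :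
    ∃ (A : Type) (_ : Field A) (_ : Finite A) (_ : Algebra F A) (f : SForm F A (RingHom.id F)),
      f.Alt ∧ f.ND ∧ finrank F A = 2 * e ∧ ∀ t, t ∣ Nat.card F ^ e + 1 → ∃ β : Aˣ, f.Isom (mulUnit F β) ∧ orderOf β = t := by
  obtain ⟨A, _, _, _, hA, hcard⟩ := exists_field_ext F (2 * e) (by omega)
  haveI : Module.Finite F A := Module.finite_of_finrank_pos (by omega)
  let τ := frobPow F A e
  have hτ : ∀ x, τ x = x ^ (Nat.card F ^ e) := frobPow_apply e
  have hττ : ∀ x, τ (τ x) = x := by
    intro x
    rw [hτ, hτ, ← pow_mul, ← pow_add, ← two_mul, ← hA]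
    exact pow_card_finrank x
  obtain ⟨y, hy⟩ : ∃ y : A, τ y ≠ y := by
    by_contra hcon
    push Not at hcon
    letI := Fintype.ofFinite F
    have h1 : (FiniteField.frobeniusAlgEquivOfAlgebraic F A) ^ e = 1 := by
      ext x
      rw [AlgEquiv.coe_pow]
      have := congrFun (FiniteField.coe_frobeniusAlgEquivOfAlgebraic_iterate (K := F) (L := A) e) x
      rw [this]
      have h2 := hcon x
      rw [hτ, Nat.card_eq_fintype_card] at h2
      exact h2
    have h2 := orderOf_dvd_of_pow_eq_one h1
    rw [FiniteField.orderOf_frobeniusAlgEquivOfAlgebraic, hA] at h2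
    have := Nat.le_of_dvd he h2
    omega
  let δ : A := y - τ y
  have hδ : δ ≠ 0 := fun h => hy (sub_eq_zero.mp h).symm
  have hτδ : τ δ = -δ := by
    show τ (y - τ y) = -(y - τ y)
    rw [map_sub, hττ, neg_sub]
  let ℓ : A →ₗ[F] F := (Algebra.trace F A).comp (LinearMap.mulLeft F δ)
  have hℓ : ∀ x, ℓ x = Algebra.trace F A (δ * x) := fun x => rfl
  have htr : ∀ x, τ x = -x → Algebra.trace F A x = 0 := by
    intro x hx
    apply (algebraMap F A).injective
    rw [trace_eq_sum, hA, two_mul, Finset.sum_range_add, map_zero]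
    rw [← Finset.sum_add_distrib]
    apply Finset.sum_eq_zero
    intro i _
    rw [pow_add, pow_mul, ← hτ, hx]
    have := frobPow_apply (F := F) (A := A) i (-x)
    rw [← this, map_neg, frobPow_apply, add_neg_cancel]
  refine ⟨A, inferInstance, inferInstance, inferInstance, algForm (τ : A →+* A) (fun c => τ.commutes c) ℓ, ?_, ?_, hA, ?_⟩
  · intro a
    show ℓ (a * τ a) = 0
    rw [hℓ]
    apply htr
    rw [map_mul, map_mul, hττ, hτδ]
    ring
  · intro a ha
    by_contra ha0
    obtain ⟨z, hz⟩ : ∃ z : A, Algebra.trace F A z ≠ 0 := by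
      by_contra hcon
      push Not at hcon
      obtain ⟨z, hz⟩ := Algebra.trace_surjective F A 1
      rw [hcon] at hz
      exact zero_ne_one hz
    apply hz
    have h1 : ℓ (a * τ (τ (z / (δ * a)))) = 0 := ha (τ (z / (δ * a)))
    rw [hττ, hℓ] at h1
    rw [← h1]
    congr 1
    field_simp
  · intro t ht
    obtain ⟨β, hβ⟩ := exists_unit_orderOf A t (by
      rw [hcard]
      have : Nat.card F ^ (2 * e) - 1 = (Nat.card F ^ e + 1) * (Nat.card F ^ e - 1) := by
        rw [mul_comm 2 e, pow_mul, ← Nat.sq_sub_sq, one_pow]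
      rw [this]
      exact ht.mul_right _)
    refine ⟨β, ?_, hβ⟩
    apply isom_mulUnit
    show (β : A) * τ β = 1
    rw [hτ, ← pow_succ', ← Units.val_pow_eq_pow_val, orderOf_dvd_iff_pow_eq_one.mp (hβ ▸ ht)]
    rfl

/-- the torus of order `q^e - 1` in `Sp_{2e}(q)` -/
theorem torus_minus (F : Type*) [Field F] [Finite F] (e : ℕ) (he : 0 < e) :
    ∃ (A : Type) (_ : CommRing A) (_ : Finite A) (_ : Algebra F A) (f : SForm F A (RingHom.id F)),
      f.Alt ∧ f.ND ∧ finrank F A = 2 * e ∧ ∀ t, t ∣ Nat.card F ^ e - 1 → ∃ β : Aˣ, f.Isom (mulUnit F β) ∧ orderOf β = t := by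
  obtain ⟨L, _, _, _, hL, hcard⟩ := exists_field_ext F e (by omega)
  haveI : Module.Finite F L := Module.finite_of_finrank_pos (by omega)
  let τ : L × L ≃+* L × L := RingEquiv.prodComm
  let ℓ : L × L →ₗ[F] F := (Algebra.trace F L).comp (LinearMap.fst F L L) - (Algebra.trace F L).comp (LinearMap.snd F L L)
  refine ⟨L × L, inferInstance, inferInstance, inferInstance, algForm (τ : L × L →+* L × L) (fun c => rfl) ℓ, ?_, ?_, ?_, ?_⟩
  · rintro ⟨a, b⟩
    show Algebra.trace F L (a * b) - Algebra.trace F L (b * a) = 0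
    rw [mul_comm, sub_self]
  · rintro ⟨a, b⟩ hab
    obtain ⟨z, hz⟩ : ∃ z : L, Algebra.trace F L z ≠ 0 := by
      by_contra hcon
      push Not at hcon
      obtain ⟨z, hz⟩ := Algebra.trace_surjective F L 1
      rw [hcon] at hz
      exact zero_ne_one hz
    have h1 : ∀ c d : L, Algebra.trace F L (a * d) - Algebra.trace F L (b * c) = 0 := fun c d => hab (c, d)
    apply Prod.ext
    · by_contra ha
      apply hz
      have := h1 0 (z / a)
      rwa [mul_zero, map_zero, sub_zero, mul_div_cancel₀ _ ha] at this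
    · by_contra hb
      apply hz
      have := h1 (z / b) 0
      rwa [mul_zero, map_zero, zero_sub, neg_eq_zero, mul_div_cancel₀ _ hb] at this
  · rw [finrank_prod, hL, two_mul]
  · intro t ht
    obtain ⟨x, hx⟩ := exists_unit_orderOf L t (by rw [hcard]; exact ht)
    refine ⟨MulEquiv.prodUnits.symm (x, x⁻¹), ?_, ?_⟩
    · apply isom_mulUnit
      show ((x : L), ((x⁻¹ : Lˣ) : L)) * (((x⁻¹ : Lˣ) : L), (x : L)) = 1
      rw [Prod.mk_mul_mk, Units.mul_inv, Units.inv_mul]; rfl
    · rw [MulEquiv.orderOf_eq, Prod.orderOf_mk, orderOf_inv, Nat.lcm_self, hx]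

end Torus

end H46.SpModels
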