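import Mathlib
import Cfsg.Agent.Lib.H46.SpModels

/-! Regular unipotent isometries: the algebra `K[X]/(X^d)` with the involution `X ↦ ±X`. -/

set_option autoImplicit false

universe w

namespace H46.UnipModel

open Module Polynomial H46.SForm H46.SForm.SForm H46.ProjOrder H46.SpModels

theorem exists_regular {K : Type w} [Field K] [Finite K] (p : ℕ) [Fact p.Prime] [CharP K p] (σ : K →+* K)
    (hσ : ∀ c, σ (σ c) = c) (ε : K) (hε : σ ε = ε ∧ ε * ε = 1) (α : K) (hα : α - ε * σ α ≠ 0) (d : ℕ) (hd : 0 < d) :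
    ∃ (A : Type w) (_ : CommRing A) (_ : Algebra K A) (τ : A →+* A)
      (hτ : ∀ c, τ (algebraMap K A c) = algebraMap K A (σ c)) (ℓ : A →ₗ[K] K) (β : Aˣ) (E : ℕ),
      (algForm τ hτ ℓ).ND ∧ (∀ a, τ (τ a) = a) ∧ (∀ a, ℓ (τ a) = ε ^ (d - 1) * σ (ℓ a)) ∧ finrank K A = d ∧
      (β : A) * τ β = 1 ∧ Algebra.norm K (β : A) = 1 ∧ orderOf β = p ^ E ∧ (∀ e : ℕ, (e = 0 ∨ p ^ (e - 1) < d) → e ≤ E) := by
  have hp : p.Prime := Fact.out
  let f : K[X] := X ^ d
  have hfm : f.Monic := monic_X_pow d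
  have hdeg : f.natDegree = d := natDegree_X_pow d
  let A := AdjoinRoot f
  have hfin : Module.Finite K A := (AdjoinRoot.powerBasis hfm.ne_zero).finite
  have hrank : finrank K A = d := by
    rw [(AdjoinRoot.powerBasis hfm.ne_zero).finrank, AdjoinRoot.powerBasis_dim hfm.ne_zero, hdeg]
  have hnt : Nontrivial A := Module.nontrivial_of_finrank_pos (R := K) (by omega)
  have hchar : CharP A p := charP_of_injective_algebraMap (FaithfulSMul.algebraMap_injective K A) p
  set N : A := AdjoinRoot.root f with hN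
  have hNd : N ^ d = 0 := by
    have h : AdjoinRoot.mk f (X ^ d) = 0 := AdjoinRoot.mk_self
    rw [map_pow, AdjoinRoot.mk_X] at h
    exact h
  have hNj : ∀ j < d, N ^ j ≠ 0 := by
    intro j hj h0
    have h1 : AdjoinRoot.mk f (X ^ j) = 0 := by simpa using h0
    rw [AdjoinRoot.mk_eq_zero] at h1
    have h2 := (pow_dvd_pow_iff (X_ne_zero (R := K)) not_isUnit_X).mp h1
    omega
  let τ : A →+* A := AdjoinRoot.lift ((algebraMap K A).comp σ) (algebraMap K A ε * N) (by
    show eval₂ ((algebraMap K A).comp σ) (algebraMap K A ε * N) (X ^ d) = 0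
    rw [eval₂_X_pow, mul_pow, hNd, mul_zero])
  have hτc : ∀ c : K, τ (algebraMap K A c) = algebraMap K A (σ c) := by
    intro c
    exact AdjoinRoot.lift_of _
  have hτN : τ N = algebraMap K A ε * N := AdjoinRoot.lift_root _
  have hττ : ∀ x, τ (τ x) = x := by
    have h1 : (τ.comp τ) = RingHom.id _ := by
      apply AdjoinRoot.ringHom_ext
      · ext c
        show τ (τ (algebraMap K A c)) = _
        rw [hτc, hτc, hσ]; rfl
      · show τ (τ N) = N
        rw [hτN, map_mul, hτc, hτN, hε.1, ← mul_assoc, ← map_mul, hε.2, map_one, one_mul]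
    intro x
    exact congrArg (fun g : A →+* A => g x) h1
  let ℓ : A →ₗ[K] K := (Polynomial.lcoeff K (d - 1)).comp (AdjoinRoot.modByMonicHom hfm)
  have hℓ : ∀ P : K[X], ℓ (AdjoinRoot.mk f P) = P.coeff (d - 1) := by
    intro P
    show (AdjoinRoot.modByMonicHom hfm (AdjoinRoot.mk f P)).coeff (d - 1) = P.coeff (d - 1)
    rw [AdjoinRoot.modByMonicHom_mk]
    conv_rhs => rw [← modByMonic_add_div P f]
    rw [coeff_add]
    have : (f * (P /ₘ f)).coeff (d - 1) = 0 := by
      show (X ^ d * (P /ₘ f)).coeff (d - 1) = 0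
      rw [coeff_X_pow_mul', if_neg (by omega)]
    rw [this, add_zero]
  have hℓτ : ∀ a, ℓ (τ a) = ε ^ (d - 1) * σ (ℓ a) := by
    intro a
    obtain ⟨P, rfl⟩ := AdjoinRoot.mk_surjective a
    induction P using Polynomial.induction_on' with
    | add p q hp hq =>
      rw [map_add, map_add, map_add, hp, hq, map_add, map_add]
      ring
    | monomial n c =>
      have h1' : ∀ c : K, AdjoinRoot.mk f (monomial n c) = algebraMap K A c * N ^ n := by
        intro c
        rw [← C_mul_X_pow_eq_monomial, map_mul, map_pow, AdjoinRoot.mk_X, AdjoinRoot.mk_C]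
        rfl
      have h1 := h1' c
      have h2 : τ (algebraMap K A c * N ^ n) = AdjoinRoot.mk f (monomial n (σ c * ε ^ n)) := by
        rw [h1', map_mul τ, hτc, map_pow τ, hτN, mul_pow, ← map_pow (algebraMap K A), ← mul_assoc, ← map_mul (algebraMap K A)]
      rw [h1, h2, hℓ, ← h1, hℓ, coeff_monomial, coeff_monomial]
      by_cases hn : n = d - 1
      · rw [if_pos hn, if_pos hn, hn]; ring
      · rw [if_neg hn, if_neg hn, map_zero, mul_zero]
  -- the units
  have hnil : IsNilpotent N := ⟨d, hNd⟩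
  have hv : IsUnit (1 + algebraMap K A α * N) := by
    have : IsNilpotent (algebraMap K A α * N) := (Commute.all _ _).isNilpotent_mul_left hnil
    exact this.isUnit_one_add
  have hw : IsUnit (1 + algebraMap K A (ε * σ α) * N) := by
    have : IsNilpotent (algebraMap K A (ε * σ α) * N) := (Commute.all _ _).isNilpotent_mul_left hnil
    exact this.isUnit_one_add
  obtain ⟨v, hv⟩ := hv
  obtain ⟨w, hw⟩ := hw
  have hτv : τ v = w := by
    rw [hv, hw, map_add, map_one, map_mul, hτc, hτN, ← mul_assoc, ← map_mul, mul_comm (σ α)]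
  have hτw : τ w = v := by rw [← hτv, hττ]
  have hτw' : τ ((w⁻¹ : Aˣ) : A) = ((v⁻¹ : Aˣ) : A) := by
    have h1 : τ ((w⁻¹ : Aˣ) : A) * (v : A) = 1 := by
      rw [← hτw, ← map_mul, Units.inv_mul, map_one]
    calc τ ((w⁻¹ : Aˣ) : A) = τ ((w⁻¹ : Aˣ) : A) * ((v : A) * ((v⁻¹ : Aˣ) : A)) := by rw [Units.mul_inv, mul_one]
      _ = ((v⁻¹ : Aˣ) : A) := by rw [← mul_assoc, h1, one_mul]
  let β : Aˣ := v * w⁻¹
  have hβ1 : (β : A) - 1 = algebraMap K A (α - ε * σ α) * N * ((w⁻¹ : Aˣ) : A) := by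
    have h1 : ((β : A) - 1) = ((v : A) - (w : A)) * ((w⁻¹ : Aˣ) : A) := by
      rw [sub_mul, Units.mul_inv]; rfl
    rw [h1, hv, hw, map_sub]
    ring
  have hβpow : ∀ j, ((β : A) - 1) ^ j = 0 → d ≤ j := by
    intro j hj
    by_contra hcon
    push Not at hcon
    apply hNj j hcon
    rw [hβ1, mul_pow, mul_pow] at hj
    have h2 : (algebraMap K A (α - ε * σ α)) ^ j * N ^ j = 0 := by
      have h3 : IsUnit (((w⁻¹ : Aˣ) : A) ^ j) := (Units.isUnit w⁻¹).pow j
      exact (h3.mul_left_eq_zero).mp hj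
    rw [← map_pow] at h2
    have h4 : IsUnit (algebraMap K A ((α - ε * σ α) ^ j)) := (IsUnit.mk0 _ (pow_ne_zero j hα)).map (algebraMap K A)
    exact (h4.mul_right_eq_zero).mp h2
  have hβnil : ((β : A) - 1) ^ d = 0 := by
    rw [hβ1, mul_pow, mul_pow, hNd, mul_zero, zero_mul]
  obtain ⟨E0, hE0⟩ : ∃ E0, d ≤ p ^ E0 := ⟨d, (Nat.lt_pow_self hp.one_lt).le⟩
  have hun : β ^ p ^ E0 = 1 := by
    apply Units.ext
    rw [Units.val_pow_eq_pow_val, Units.val_one, ← sub_eq_zero, ← one_pow (p ^ E0), ← sub_pow_char_pow]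
    exact pow_eq_zero_of_le hE0 hβnil
  obtain ⟨E, _, hE⟩ := (Nat.dvd_prime_pow hp).mp (orderOf_dvd_of_pow_eq_one hun)
  refine ⟨A, inferInstance, inferInstance, τ, hτc, ℓ, β, E, ?_, hττ, hℓτ, hrank, ?_, ?_, hE, ?_⟩
  · intro a ha
    obtain ⟨P, rfl⟩ := AdjoinRoot.mk_surjective a
    rw [AdjoinRoot.mk_eq_zero]
    show X ^ d ∣ P
    rw [X_pow_dvd_iff]
    intro j hj
    have h1 : ℓ (AdjoinRoot.mk f P * τ (τ (N ^ (d - 1 - j)))) = 0 := ha (τ (N ^ (d - 1 - j)))
    rw [hττ] at h1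
    have h2 : AdjoinRoot.mk f P * N ^ (d - 1 - j) = AdjoinRoot.mk f (P * X ^ (d - 1 - j)) := by
      rw [map_mul, map_pow, AdjoinRoot.mk_X]
    rw [h2, hℓ, coeff_mul_X_pow', if_pos (by omega)] at h1
    rwa [show d - 1 - (d - 1 - j) = j by omega] at h1
  · show ((v * w⁻¹ : Aˣ) : A) * τ ((v * w⁻¹ : Aˣ) : A) = 1
    rw [Units.val_mul, map_mul, hτv, hτw']
    calc (v : A) * ((w⁻¹ : Aˣ) : A) * ((w : A) * ((v⁻¹ : Aˣ) : A)) =
        ((v : A) * ((v⁻¹ : Aˣ) : A)) * ((w : A) * ((w⁻¹ : Aˣ) : A)) := by ring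
      _ = 1 := by rw [Units.mul_inv, Units.mul_inv, one_mul]
  · have h1 : (Algebra.norm K (β : A)) ^ p ^ E0 = 1 := by
      rw [← map_pow, ← Units.val_pow_eq_pow_val, hun, Units.val_one, map_one]
    have h2 : (Algebra.norm K (β : A) - 1) ^ p ^ E0 = 0 := by
      rw [sub_pow_char_pow, h1, one_pow, sub_self]
    exact sub_eq_zero.mp (pow_eq_zero_iff (pow_pos hp.pos _).ne' |>.mp h2)
  · intro e he
    rcases he with rfl | he
    · exact Nat.zero_le _
    · by_contra hcon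
      push Not at hcon
      have h1 : β ^ p ^ (e - 1) = 1 := by
        apply orderOf_dvd_iff_pow_eq_one.mp
        rw [hE]
        exact Nat.pow_dvd_pow p (by omega)
      have h2 : ((β : A) - 1) ^ p ^ (e - 1) = 0 := by
        rw [sub_pow_char_pow, ← Units.val_pow_eq_pow_val, h1, one_pow, Units.val_one, sub_self]
      have := hβpow _ h2
      omega

/-- regular unipotent elements in symplectic groups, odd characteristic -/
theorem exists_unip_sp {K : Type w} [Field K] [Finite K] (p : ℕ) [Fact p.Prime] [CharP K p] (h2 : (2 : K) ≠ 0) (m e : ℕ)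
    (hm : 0 < m) (he : e = 0 ∨ p ^ (e - 1) < 2 * m) :
    ∃ (A : Type w) (_ : AddCommGroup A) (_ : Module K A) (f : SForm K A (RingHom.id K)) (u : (Module.End K A)ˣ) (E : ℕ),
      f.Alt ∧ f.ND ∧ finrank K A = 2 * m ∧ f.Isom u ∧ orderOf u = p ^ E ∧ e ≤ E := by
  obtain ⟨A, _, _, τ, hτ, ℓ, β, E, hnd, hττ, hℓτ, hrank, hβ, -, hE, hle⟩ := exists_regular (K := K) p (RingHom.id K) (fun _ => rfl)
    (-1) ⟨rfl, by ring⟩ 1 (by
      rw [RingHom.id_apply]
      intro h
      apply h2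
      linear_combination h) (2 * m) (by omega)
  refine ⟨A, inferInstance, inferInstance, algForm τ hτ ℓ, mulUnit K β, E, ?_, hnd, hrank, isom_mulUnit τ hτ ℓ β hβ, ?_, hle e he⟩
  · intro a
    show ℓ (a * τ a) = 0
    have h3 := hℓτ (a * τ a)
    rw [map_mul, hττ, RingHom.id_apply, mul_comm (τ a), Odd.neg_one_pow ⟨m - 1, by omega⟩] at h3
    have h4 : (2 : K) * ℓ (a * τ a) = 0 := by linear_combination h3
    exact (mul_eq_zero.mp h4).resolve_left h2
  · rw [orderOf_mulUnit, hE]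

end H46.UnipModel
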