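import Mathlib
import Cfsg.Agent.Lib.H16.Forms
import Cfsg.Agent.Lib.H49.FormConj3

/-! Congruence of symmetric and alternating matrices over finite fields of odd characteristic. -/

set_option autoImplicit false

namespace H46.BlockCongr

open Matrix Module

variable {F : Type*} [Field F]

section abs
variable {V : Type*} [AddCommGroup V] [Module F V] [FiniteDimensional F V]

/-- there is an orthonormal basis -/
def Sq (f : LinearMap.BilinForm F V) : Prop := ∃ b : Basis (Fin (finrank F V)) F V, ∀ i j, f (b i) (b j) = if i = j then 1 else 0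

theorem equiv_of_basis {ι : Type*} [Fintype ι] (f f' : LinearMap.BilinForm F V) (b b' : Basis ι F V)
    (h : ∀ i j, f (b i) (b j) = f' (b' i) (b' j)) : ∃ y : V ≃ₗ[F] V, ∀ u v, f (y u) (y v) = f' u v := by
  refine ⟨b'.equiv b (Equiv.refl ι), ?_⟩
  have h1 : f.comp (b'.equiv b (Equiv.refl ι) : V →ₗ[F] V) (b'.equiv b (Equiv.refl ι) : V →ₗ[F] V) = f' := by
    apply LinearMap.BilinForm.ext_basis b'
    intro i j
    rw [LinearMap.BilinForm.comp_apply]
    show f (b'.equiv b (Equiv.refl ι) (b' i)) (b'.equiv b (Equiv.refl ι) (b' j)) = _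
    rw [Basis.equiv_apply, Basis.equiv_apply]
    exact h i j
  intro u v
  rw [← h1]; rfl

theorem exists_equiv_symm [Finite F] (h2 : (2 : F) ≠ 0) (f f' : LinearMap.BilinForm F V) (hs : f.IsSymm) (hs' : f'.IsSymm)
    (hn : f.Nondegenerate) (hn' : f'.Nondegenerate) (h : Sq f ↔ Sq f') : ∃ y : V ≃ₗ[F] V, ∀ u v, f (y u) (y v) = f' u v := by
  obtain ⟨α, hα⟩ := H48.FinFieldSq.exists_not_isSquare h2
  rcases Nat.eq_zero_or_pos (finrank F V) with h0 | h0
  · refine ⟨LinearEquiv.refl F V, fun u v => ?_⟩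
    haveI := Module.finrank_zero_iff.mp h0
    rw [Subsingleton.elim u 0]
    simp
  · obtain ⟨n, hnn⟩ : ∃ n, finrank F V = n + 1 := ⟨finrank F V - 1, by omega⟩
    obtain ⟨b, h1, h3, h4⟩ := H16.Forms.exists_orthogonal_basis_symm h2 f hs hn hnn α hα
    obtain ⟨b', h1', h3', h4'⟩ := H16.Forms.exists_orthogonal_basis_symm h2 f' hs' hn' hnn α hα
    have key : ∀ (g : LinearMap.BilinForm F V) (c : Basis (Fin (n + 1)) F V), (∀ i j, i ≠ j → g (c i) (c j) = 0) → (∀ i, i ≠ Fin.last n → g (c i) (c i) = 1) →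
        g (c (Fin.last n)) (c (Fin.last n)) = 1 → Sq g := by
      intro g c e1 e2 e3
      refine ⟨c.reindex (finCongr hnn.symm), ?_⟩
      intro i j
      rw [Basis.reindex_apply, Basis.reindex_apply]
      by_cases hij : i = j
      · subst hij
        rw [if_pos rfl]
        by_cases hl : (finCongr hnn.symm).symm i = Fin.last n
        · rw [hl]; exact e3
        · exact e2 _ hl
      · rw [if_neg hij]
        exact e1 _ _ (fun h => hij ((finCongr hnn.symm).symm.injective h))
    have hboth : Sq f → Sq f' → ∃ y : V ≃ₗ[F] V, ∀ u v, f (y u) (y v) = f' u v := by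
      rintro ⟨c, hc⟩ ⟨c', hc'⟩
      exact equiv_of_basis f f' c c' (fun i j => by rw [hc, hc'])
    rcases h4 with h4 | h4
    · have := key f b h1 h3 h4
      exact hboth this (h.mp this)
    · rcases h4' with h4' | h4'
      · have := key f' b' h1' h3' h4'
        exact hboth (h.mpr this) this
      · apply equiv_of_basis f f' b b'
        intro i j
        by_cases hij : i = j
        · subst hij
          by_cases hl : i = Fin.last n
          · subst hl; rw [h4, h4']
          · rw [h3 _ hl, h3' _ hl]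
        · rw [h1 _ _ hij, h1' _ _ hij]

end abs

variable {κ : Type*} [Fintype κ] [DecidableEq κ]

/-- matrix form of an equivalence -/
theorem matrix_of_equiv (B B' : Matrix κ κ F) (y : (κ → F) ≃ₗ[F] (κ → F))
    (h : ∀ u v, Matrix.toBilin' B (y u) (y v) = Matrix.toBilin' B' u v) : ∃ P : Matrix κ κ F, P.det ≠ 0 ∧ Pᵀ * B * P = B' := by
  refine ⟨LinearMap.toMatrix' (y : (κ → F) →ₗ[F] (κ → F)), ?_, ?_⟩
  · rw [LinearMap.det_toMatrix']
    exact (LinearEquiv.isUnit_det' y).ne_zero
  · have h1 : (Matrix.toBilin' B).comp (y : (κ → F) →ₗ[F] (κ → F)) (y : (κ → F) →ₗ[F] (κ → F)) = Matrix.toBilin' B' := by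
      apply LinearMap.ext
      intro u
      apply LinearMap.ext
      intro v
      exact h _ _
    have h2 := congrArg LinearMap.BilinForm.toMatrix' h1
    rw [LinearMap.BilinForm.toMatrix'_comp, LinearMap.BilinForm.toMatrix'_toBilin', LinearMap.BilinForm.toMatrix'_toBilin'] at h2
    exact h2

/-- congruent to the identity -/
def SqM (B : Matrix κ κ F) : Prop := Sq (Matrix.toBilin' B)

theorem nondeg_of_det {B : Matrix κ κ F} (h : B.det ≠ 0) : (Matrix.toBilin' B).Nondegenerate := by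
  exact LinearMap.BilinForm.nondegenerate_toBilin'_of_det_ne_zero' B h

theorem swap_form (B : Matrix κ κ F) (u v : κ → F) : Matrix.toBilin' B u v = Matrix.toBilin' Bᵀ v u := by
  rw [Matrix.toBilin'_apply', Matrix.toBilin'_apply', Matrix.mulVec_transpose, Matrix.dotProduct_mulVec, dotProduct_comm]

theorem congr_symm [Finite F] (h2 : (2 : F) ≠ 0) {B B' : Matrix κ κ F} (hs : Bᵀ = B) (hs' : B'ᵀ = B') (hd : B.det ≠ 0) (hd' : B'.det ≠ 0)
    (h : SqM B ↔ SqM B') : ∃ P : Matrix κ κ F, P.det ≠ 0 ∧ Pᵀ * B * P = B' := by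
  have hsym : ∀ {B : Matrix κ κ F}, Bᵀ = B → (Matrix.toBilin' B).IsSymm := by
    intro B hB
    constructor
    intro u v
    rw [swap_form, hB]
  obtain ⟨y, hy⟩ := exists_equiv_symm h2 _ _ (hsym hs) (hsym hs') (nondeg_of_det hd) (nondeg_of_det hd') h
  exact matrix_of_equiv B B' y hy

theorem congr_alt (h2 : (2 : F) ≠ 0) {B B' : Matrix κ κ F} (hs : Bᵀ = -B) (hs' : B'ᵀ = -B') (hd : B.det ≠ 0) (hd' : B'.det ≠ 0) :
    ∃ P : Matrix κ κ F, P.det ≠ 0 ∧ Pᵀ * B * P = B' := by
  have halt : ∀ {B : Matrix κ κ F}, Bᵀ = -B → (Matrix.toBilin' B).IsAlt := by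
    intro B hB u
    have h1 := swap_form B u u
    rw [hB, map_neg, LinearMap.neg_apply, LinearMap.neg_apply] at h1
    have h3 : (2 : F) * Matrix.toBilin' B u u = 0 := by
      rw [two_mul]
      nth_rw 1 [h1]
      exact neg_add_cancel _
    exact (mul_eq_zero.mp h3).resolve_left h2
  have hnd : ∀ {B : Matrix κ κ F}, B.det ≠ 0 → H49.FormConj2.NDB (Matrix.toBilin' B) := by
    intro B hB x hx
    exact (nondeg_of_det hB).1 x hx
  obtain ⟨y, hy⟩ := H49.FormConj3.alt_equiv _ _ (hnd hd) (hnd hd') (halt hs) (halt hs')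
  exact matrix_of_equiv B B' y hy

end H46.BlockCongr
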