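import Cfsg.Agent.Lib.H68.CAa
import Cfsg.Agent.S0075
import Cfsg.Agent.S1230

set_option autoImplicit false
set_option linter.unusedVariables false
set_option maxHeartbeats 400000

/-!
# S4369, piece K0, case (1): the Sylow 2-subgroup modulo the center is elementary abelian
-/

namespace H46.CAK

open Subgroup H4.CA

universe u

section basic

variable {G : Type u} [Group G]

theorem mem_ce {x y : G} : y ∈ centralizer ({x} : Set G) ↔ Commute x y := by
  rw [mem_centralizer_singleton_iff]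
  exact ⟨fun h => h.symm, fun h => h.symm⟩

theorem mk_one {x : G} : ((x : G ⧸ center G) = 1) ↔ x ∈ center G := QuotientGroup.eq_one_iff x

theorem cz {z : G} (hz : z ∈ center G) (y : G) : Commute z y := (mem_center_iff.1 hz y).symm

/-- commuting with a central multiple -/
theorem cm_mul {x z : G} (hz : z ∈ center G) (y : G) : Commute (x * z) y ↔ Commute x y := by
  constructor
  · intro h
    have h1 : x = (x * z) * z⁻¹ := by group
    rw [h1]
    exact h.mul_left (cz hz y).inv_left
  · intro h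
    exact h.mul_left (cz hz y)

theorem comm_center {S : Set G} (hmul : ∀ a ∈ S, ∀ b ∈ S, a * b ∈ S) (hel : ∀ y ∈ S, y * y ∈ center G)
    {y s : G} (hy : y ∈ S) (hs : s ∈ S) : y * s * y⁻¹ * s⁻¹ ∈ center G := by
  have h1 : (y : G ⧸ center G) * y = 1 := by
    rw [← QuotientGroup.mk_mul]; exact mk_one.2 (hel y hy)
  have h2 : (s : G ⧸ center G) * s = 1 := by
    rw [← QuotientGroup.mk_mul]; exact mk_one.2 (hel s hs)
  have h3 : (y : G ⧸ center G) * s * (y * s) = 1 := by
    rw [← QuotientGroup.mk_mul, ← QuotientGroup.mk_mul]; exact mk_one.2 (hel _ (hmul y hy s hs))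
  rw [← mk_one, QuotientGroup.mk_mul, QuotientGroup.mk_mul, QuotientGroup.mk_mul, QuotientGroup.mk_inv, QuotientGroup.mk_inv]
  have e1 : (y : G ⧸ center G)⁻¹ = y := inv_eq_of_mul_eq_one_right h1
  have e2 : (s : G ⧸ center G)⁻¹ = s := inv_eq_of_mul_eq_one_right h2
  rw [e1, e2]
  calc (y : G ⧸ center G) * s * y * s = y * s * (y * s) := by group
    _ = 1 := h3

/-- if `[g,s]` is central and `s²` is central then `g²` commutes with `s` -/
theorem sq_comm {g s : G} (hg : g * s * g⁻¹ * s⁻¹ ∈ center G) (hs : s * s ∈ center G) : Commute s (g * g) := by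
  set z := g * s * g⁻¹ * s⁻¹ with hz
  have e1 : g * s * g⁻¹ = z * s := by rw [hz]; group
  have zc : ∀ y, z * y = y * z := fun y => (cz hg y).eq
  have e2 : (g * s * g⁻¹) * (g * s * g⁻¹) = s * s := by
    calc (g * s * g⁻¹) * (g * s * g⁻¹) = g * (s * s) * g⁻¹ := by group
      _ = s * s := by rw [← (cz hs g).eq]; group
  have e3 : z * z = 1 := by
    rw [e1] at e2
    have : z * z * (s * s) = s * s := by
      calc z * z * (s * s) = z * (z * s) * s := by group
        _ = z * (s * z) * s := by rw [zc s]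
        _ = z * s * (z * s) := by group
        _ = s * s := e2
    exact mul_eq_right.1 this
  have e4 : g * g * s * (g * g)⁻¹ = s := by
    calc g * g * s * (g * g)⁻¹ = g * (g * s * g⁻¹) * g⁻¹ := by group
      _ = g * (z * s) * g⁻¹ := by rw [e1]
      _ = z * (g * s * g⁻¹) := by rw [← mul_assoc, ← zc g]; group
      _ = z * z * s := by rw [e1]; group
      _ = s := by rw [e3, one_mul]
  have e5 : g * g * s = s * (g * g) := by
    calc g * g * s = (g * g * s * (g * g)⁻¹) * (g * g) := by group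
      _ = s * (g * g) := by rw [e4]
  exact e5.symm

/-- the centralizer of `s` is a 2-group modulo the center -/
def P2 (s : G) : Prop := ∀ b : G, Commute s b → ∃ k : ℕ, b ^ 2 ^ k ∈ center G

theorem P2.mulz {s z : G} (hz : z ∈ center G) : P2 (s * z) ↔ P2 s := by
  unfold P2
  constructor
  · intro h b hb; exact h b ((cm_mul hz b).2 hb)
  · intro h b hb; exact h b ((cm_mul hz b).1 hb)

theorem P2.conj {s : G} (n : G) : P2 (n * s * n⁻¹) ↔ P2 s := by
  have key : ∀ (s n : G), P2 s → P2 (n * s * n⁻¹) := by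
    intro s n h b hb
    obtain ⟨k, hk⟩ := h (n⁻¹ * b * n) (by
      have h1 : n * s * n⁻¹ * b = b * (n * s * n⁻¹) := hb.eq
      show s * (n⁻¹ * b * n) = n⁻¹ * b * n * s
      calc s * (n⁻¹ * b * n) = n⁻¹ * (n * s * n⁻¹ * b) * n := by group
        _ = n⁻¹ * (b * (n * s * n⁻¹)) * n := by rw [h1]
        _ = n⁻¹ * b * n * s := by group)
    refine ⟨k, ?_⟩
    have h2 : (n⁻¹ * b * n) ^ 2 ^ k = n⁻¹ * b ^ 2 ^ k * n := by
      have := conj_pow (i := 2 ^ k) (a := n⁻¹) (b := b)
      rwa [inv_inv] at this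
    rw [h2] at hk
    have h3 : b ^ 2 ^ k = n * (n⁻¹ * b ^ 2 ^ k * n) * n⁻¹ := by group
    rw [h3]
    exact (inferInstance : (center G).Normal).conj_mem _ hk n
  constructor
  · intro h
    have := key _ n⁻¹ h
    have e : n⁻¹ * (n * s * n⁻¹) * n⁻¹⁻¹ = s := by group
    rwa [e] at this
  · exact key s n

theorem P2.bar {s : G} (h : P2 s) (hs : s * s ∈ center G) (g : G ⧸ center G) (hg : Commute (s : G ⧸ center G) g) :
    ∃ k : ℕ, g ^ 2 ^ k = 1 := by
  obtain ⟨g, rfl⟩ := QuotientGroup.mk_surjective g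
  have h1 : g * s * g⁻¹ * s⁻¹ ∈ center G := by
    rw [← mk_one, QuotientGroup.mk_mul, QuotientGroup.mk_mul, QuotientGroup.mk_mul, QuotientGroup.mk_inv, QuotientGroup.mk_inv,
      ← hg.eq]
    group
  obtain ⟨k, hk⟩ := h (g * g) (sq_comm h1 hs)
  refine ⟨k + 1, ?_⟩
  rw [← QuotientGroup.mk_pow, mk_one, pow_succ', pow_mul, pow_two]
  exact hk

end basic

section struct

variable {G : Type u} [Group G] [Finite G]

local notation "q2" => (QuotientGroup.mk' (center G))

/-- the image of `S` in `G/Z` -/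
noncomputable def Sb (S : Sylow 2 G) : Sylow 2 (G ⧸ center G) :=
  haveI : Fact (Nat.Prime 2) := ⟨Nat.prime_two⟩
  S.mapSurjective (QuotientGroup.mk'_surjective (center G))

theorem Sb_coe (S : Sylow 2 G) : ((Sb S : Sylow 2 (G ⧸ center G)) : Subgroup (G ⧸ center G)) =
    (S : Subgroup G).map (QuotientGroup.mk' (center G)) := by
  haveI : Fact (Nat.Prime 2) := ⟨Nat.prime_two⟩
  exact Sylow.coe_mapSurjective _ S

theorem two_pow_of_mem (S : Sylow 2 G) {s : G} (hs : s ∈ S) : ∃ k : ℕ, s ^ 2 ^ k = 1 := by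
  obtain ⟨k, hk⟩ := S.2 ⟨s, hs⟩
  exact ⟨k, congrArg Subtype.val hk⟩

theorem sq_bar (S : Sylow 2 G) (hel : ∀ y ∈ S, y * y ∈ center G) (x : G ⧸ center G) (hx : x ∈ Sb S) : x * x = 1 := by
  have hx' : x ∈ ((Sb S : Sylow 2 (G ⧸ center G)) : Subgroup (G ⧸ center G)) := hx
  rw [Sb_coe] at hx'
  obtain ⟨y, hy, rfl⟩ := hx'
  have := hel y hy
  rw [← mk_one, QuotientGroup.mk_mul] at this
  exact this

theorem comm_bar (S : Sylow 2 G) (hel : ∀ y ∈ S, y * y ∈ center G) (x y : G ⧸ center G) (hx : x ∈ Sb S) (hy : y ∈ Sb S) :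
    x * y = y * x := by
  have h1 := sq_bar S hel x hx
  have h2 := sq_bar S hel y hy
  have h3 := sq_bar S hel (x * y) (mul_mem hx hy)
  have e1 : x⁻¹ = x := inv_eq_of_mul_eq_one_right h1
  have e2 : y⁻¹ = y := inv_eq_of_mul_eq_one_right h2
  have e3 : (x * y)⁻¹ = x * y := inv_eq_of_mul_eq_one_right h3
  rw [mul_inv_rev, e1, e2] at e3
  exact e3.symm

/-- every 2-subgroup of `G/Z` is elementary abelian -/
theorem two_sub (S : Sylow 2 G) (hel : ∀ y ∈ S, y * y ∈ center G) (D : Subgroup (G ⧸ center G)) (hD : IsPGroup 2 D) :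
    (∀ x ∈ D, x * x = 1) ∧ ∀ x ∈ D, ∀ y ∈ D, x * y = y * x := by
  haveI : Fact (Nat.Prime 2) := ⟨Nat.prime_two⟩
  obtain ⟨P, hP⟩ := hD.exists_le_sylow
  obtain ⟨g, hg⟩ := MulAction.exists_smul_eq (G ⧸ center G) (Sb S) P
  have key : ∀ x ∈ D, g⁻¹ * x * g ∈ Sb S := by
    intro x hx
    have h1 : x ∈ P := hP hx
    rw [← hg] at h1
    have h2 : x ∈ ((g • Sb S : Sylow 2 (G ⧸ center G)) : Subgroup (G ⧸ center G)) := h1
    rw [Sylow.coe_subgroup_smul, Subgroup.mem_pointwise_smul_iff_inv_smul_mem] at h2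
    have h3 : (MulAut.conj g)⁻¹ • x = g⁻¹ * x * g := by
      rw [← map_inv, MulAut.smul_def, MulAut.conj_apply, inv_inv]
    rw [h3] at h2
    exact h2
  constructor
  · intro x hx
    have h1 := sq_bar S hel _ (key x hx)
    have h2 : x * x = g * (g⁻¹ * x * g * (g⁻¹ * x * g)) * g⁻¹ := by group
    rw [h2, h1]; group
  · intro x hx y hy
    have h1 := comm_bar S hel _ _ (key x hx) (key y hy)
    have h2 : x * y = g * (g⁻¹ * x * g * (g⁻¹ * y * g)) * g⁻¹ := by group
    rw [h2, h1]; group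

/-- alternative for the centralizer of `s` -/
theorem alt (h : Beta2 G) (S : Sylow 2 G) (hel : ∀ y ∈ S, y * y ∈ center G) {s : G} (hs : s ∈ S) (hz : s ∉ center G) :
    (∀ b, Commute s b → b * b ∈ center G) ∨
      ∀ y₁ ∈ S, ∀ y₂ ∈ S, ¬ Commute s y₁ → ¬ Commute s y₂ → Commute s (y₁ * y₂) := by
  by_contra hcon
  push Not at hcon
  obtain ⟨⟨b, hb, hbz⟩, y₁, hy₁, y₂, hy₂, n₁, n₂, n₃⟩ := hcon
  have hS : ∀ y ∈ S, y * s * y⁻¹ * s⁻¹ ∈ center G := fun y hy =>
    comm_center (S := (S : Set G)) (fun a ha b hb => (S : Subgroup G).mul_mem ha hb) hel hy hs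
  have i₁ := (H68.CA.inv h S hs hz (hel s hs) hS hy₁ n₁).2 b hb
  have i₂ := (H68.CA.inv h S hs hz (hel s hs) hS hy₂ n₂).2 b hb
  have i₃ := (H68.CA.inv h S hs hz (hel s hs) hS ((S : Subgroup G).mul_mem hy₁ hy₂) n₃).2 b hb
  apply hbz
  rw [← mk_one] at i₁ i₂ i₃ ⊢
  rw [QuotientGroup.mk_mul, QuotientGroup.mk_mul, QuotientGroup.mk_mul, QuotientGroup.mk_inv] at i₁ i₂ i₃
  rw [QuotientGroup.mk_mul] at i₃ ⊢
  set B : G ⧸ center G := ((b : G) : G ⧸ center G)
  set Y : G ⧸ center G := ((y₁ : G) : G ⧸ center G)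
  set W : G ⧸ center G := ((y₂ : G) : G ⧸ center G)
  have e1 : Y * B * Y⁻¹ = B⁻¹ := (inv_eq_of_mul_eq_one_right i₁).symm
  have e2 : W * B * W⁻¹ = B⁻¹ := (inv_eq_of_mul_eq_one_right i₂).symm
  have e3 : Y * W * B * (Y * W)⁻¹ = B := by
    calc Y * W * B * (Y * W)⁻¹ = Y * (W * B * W⁻¹) * Y⁻¹ := by group
      _ = Y * B⁻¹ * Y⁻¹ := by rw [e2]
      _ = (Y * B * Y⁻¹)⁻¹ := by group
      _ = B := by rw [e1, inv_inv]
  rw [e3] at i₃
  exact i₃

theorem mk_surj_S (S : Sylow 2 G) (x : (S : Subgroup G).map (QuotientGroup.mk' (center G))) :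
    ∃ y ∈ S, ((y : G) : G ⧸ center G) = x := by
  obtain ⟨y, hy, h⟩ := x.2
  exact ⟨y, hy, h⟩

/-- two "bad" centralizers meet outside the center -/
theorem meet (h : Beta2 G) (S : Sylow 2 G) (hel : ∀ y ∈ S, y * y ∈ center G)
    (h8 : 8 ≤ Nat.card ((S : Subgroup G).map (QuotientGroup.mk' (center G)))) {s t : G} (hs : s ∈ S) (hsz : s ∉ center G)
    (ht : t ∈ S) (hst : ¬ Commute s t)
    (as : ∀ y₁ ∈ S, ∀ y₂ ∈ S, ¬ Commute s y₁ → ¬ Commute s y₂ → Commute s (y₁ * y₂))
    (at' : ∀ y₁ ∈ S, ∀ y₂ ∈ S, ¬ Commute t y₁ → ¬ Commute t y₂ → Commute t (y₁ * y₂)) : False := by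
  classical
  choose r hr hr' using mk_surj_S S
  let f : (S : Subgroup G).map (QuotientGroup.mk' (center G)) → Bool × Bool :=
    fun x => (decide (Commute s (r x)), decide (Commute t (r x)))
  haveI : Fintype ((S : Subgroup G).map (QuotientGroup.mk' (center G))) := Fintype.ofFinite _
  obtain ⟨x, y, hxy, hf⟩ := Fintype.exists_ne_map_eq_of_card_lt f (by
    rw [← Nat.card_eq_fintype_card (α := (S : Subgroup G).map (QuotientGroup.mk' (center G)))]
    have : Fintype.card (Bool × Bool) = 4 := rfl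
    omega)
  have hf1 : Commute s (r x) ↔ Commute s (r y) := by
    have := congrArg Prod.fst hf
    simpa [f] using this
  have hf2 : Commute t (r x) ↔ Commute t (r y) := by
    have := congrArg Prod.snd hf
    simpa [f] using this
  have c1 : Commute s (r x * r y) := by
    by_cases hc : Commute s (r x)
    · exact hc.mul_right (hf1.1 hc)
    · exact as _ (hr x) _ (hr y) hc (fun h' => hc (hf1.2 h'))
  have c2 : Commute t (r x * r y) := by
    by_cases hc : Commute t (r x)
    · exact hc.mul_right (hf2.1 hc)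
    · exact at' _ (hr x) _ (hr y) hc (fun h' => hc (hf2.2 h'))
  have hnz : r x * r y ∉ center G := by
    intro hz
    apply hxy
    rw [← mk_one, QuotientGroup.mk_mul] at hz
    have h1 := hel _ (hr x)
    rw [← mk_one, QuotientGroup.mk_mul] at h1
    apply Subtype.ext
    rw [← hr' x, ← hr' y]
    exact mul_left_cancel (h1.trans hz.symm)
  have := ((H68.CA.cen h (two_pow_of_mem S hs) hsz).2 _ c1 hnz t).1 c2.symm
  exact hst this

/-- all centralizers of involutions are 2-groups modulo the center -/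
theorem all_P2 (h : Beta2 G) (S : Sylow 2 G) (hel : ∀ y ∈ S, y * y ∈ center G)
    (h8 : 8 ≤ Nat.card ((S : Subgroup G).map (QuotientGroup.mk' (center G)))) {s : G} (hs : s ∈ S) (hz : s ∉ center G) : P2 s := by
  haveI : Fact (Nat.Prime 2) := ⟨Nat.prime_two⟩
  by_contra hP
  have alt' : ∀ {t : G}, t ∈ S → t ∉ center G → ¬ P2 t →
      ∀ y₁ ∈ S, ∀ y₂ ∈ S, ¬ Commute t y₁ → ¬ Commute t y₂ → Commute t (y₁ * y₂) := by
    intro t ht htz hPt
    rcases alt h S hel ht htz with h1 | h1
    · exact absurd (fun b hb => ⟨1, by rw [pow_one, pow_two]; exact h1 b hb⟩) hPt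
    · exact h1
  have as := alt' hs hz hP
  have claim : ∀ t ∈ S, ¬ Commute s t → P2 t := by
    intro t ht hst
    by_contra hPt
    exact meet h S hel h8 hs hz ht hst as (alt' ht (fun h' => hst (cz h' s).symm) hPt)
  have char : ∀ x ∈ S, x ∉ center G → (Commute s x ↔ ¬ P2 x) := by
    intro x hx hxz
    constructor
    · intro hc hPx
      apply hP
      intro b hb
      exact hPx b (((H68.CA.cen h (two_pow_of_mem S hs) hz).2 x hc hxz b).2 hb)
    · intro hPx
      by_contra hc
      exact hPx (claim x hx hc)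
  -- the normalizer of the Sylow subgroup
  have hTc : IsMulCommutative ((Sb S : Sylow 2 (G ⧸ center G)) : Subgroup (G ⧸ center G)) :=
    ⟨⟨fun a b => Subtype.ext (comm_bar S hel a b a.2 b.2)⟩⟩
  have foc := Cfsg.Agent.S0075.result (Sb S) hTc
  let T : Subgroup G := (S : Subgroup G) ⊓ centralizer {s}
  have memT : ∀ x, x ∈ T ↔ x ∈ S ∧ Commute s x := by
    intro x
    rw [mem_inf, mem_ce]
    rfl
  have hle : ⁅((Sb S : Sylow 2 (G ⧸ center G)) : Subgroup (G ⧸ center G)), normalizer ((Sb S : Sylow 2 (G ⧸ center G)) : Set (G ⧸ center G))⁆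
      ≤ T.map (QuotientGroup.mk' (center G)) := by
    rw [commutator_le]
    intro a ha n hn
    have ha0 := ha
    rw [Sb_coe] at ha
    obtain ⟨x, hx, rfl⟩ := ha
    obtain ⟨n, rfl⟩ := QuotientGroup.mk_surjective n
    have h1 : (n : G ⧸ center G) * (QuotientGroup.mk' (center G) x) * (n : G ⧸ center G)⁻¹ ∈
        ((Sb S : Sylow 2 (G ⧸ center G)) : Subgroup (G ⧸ center G)) := (mem_normalizer_iff.1 hn _).1 ha0
    rw [Sb_coe] at h1
    obtain ⟨x', hx', hxx⟩ := h1
    -- x' = n x n⁻¹ z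
    have h2 : (n * x * n⁻¹)⁻¹ * x' ∈ center G := by
      rw [← mk_one, QuotientGroup.mk_mul, QuotientGroup.mk_inv, QuotientGroup.mk_mul, QuotientGroup.mk_mul, QuotientGroup.mk_inv]
      have : ((x' : G) : G ⧸ center G) = (n : G ⧸ center G) * x * (n : G ⧸ center G)⁻¹ := hxx
      rw [this]; group
    obtain ⟨z, hzz, hx'z⟩ : ∃ z ∈ center G, x' = n * x * n⁻¹ * z := ⟨_, h2, by group⟩
    have hcc : Commute s x ↔ Commute s x' := by
      by_cases hxz : x ∈ center G
      · have : x' ∈ center G := by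
          rw [hx'z]
          exact mul_mem ((inferInstance : (center G).Normal).conj_mem _ hxz n) hzz
        exact ⟨fun _ => (cz this s).symm, fun _ => (cz hxz s).symm⟩
      · have hxz' : x' ∉ center G := by
          intro h'
          apply hxz
          have e : x = n⁻¹ * (x' * z⁻¹) * n⁻¹⁻¹ := by rw [hx'z]; group
          rw [e]
          exact (inferInstance : (center G).Normal).conj_mem _ (mul_mem h' (inv_mem hzz)) n⁻¹
        rw [char x hx hxz, char x' hx' hxz', hx'z, P2.mulz hzz, P2.conj]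
    refine ⟨x * x'⁻¹, (memT _).2 ⟨(S : Subgroup G).mul_mem hx ((S : Subgroup G).inv_mem hx'), ?_⟩, ?_⟩
    · by_cases hc : Commute s x
      · exact hc.mul_right (hcc.1 hc).inv_right
      · refine as _ hx _ ((S : Subgroup G).inv_mem hx') hc fun h' => hc (hcc.2 ?_)
        have := h'.inv_right
        rwa [inv_inv] at this
    · rw [map_mul, map_inv, commutatorElement_def]
      have : QuotientGroup.mk' (center G) x' = (n : G ⧸ center G) * (QuotientGroup.mk' (center G) x) * (n : G ⧸ center G)⁻¹ := hxx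
      rw [this]; group
  have hres : Cfsg.pResidual 2 (G ⧸ center G) ≠ ⊤ := by
    intro htop
    rw [htop, inf_top_eq] at foc
    have h1 : ((Sb S : Sylow 2 (G ⧸ center G)) : Subgroup (G ⧸ center G)) ≤ T.map (QuotientGroup.mk' (center G)) := by
      rw [foc]; exact hle
    apply hz
    apply h.zs S s hs
    intro x hx
    have h2 : (QuotientGroup.mk' (center G)) x ∈ T.map (QuotientGroup.mk' (center G)) := by
      apply h1
      rw [Sb_coe]
      exact mem_map_of_mem _ hx
    obtain ⟨y, hy, hyx⟩ := h2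
    have h3 : y⁻¹ * x ∈ center G := by
      rw [← mk_one, QuotientGroup.mk_mul, QuotientGroup.mk_inv]
      have : ((y : G) : G ⧸ center G) = x := hyx
      rw [this]; group
    have h4 : x = y * (y⁻¹ * x) := by group
    rw [h4]
    exact ((memT y).1 hy).2.mul_right (cz h3 s).symm
  obtain ⟨k, hk⟩ := H2.Residual.exists_index_residual (G := G ⧸ center G) (p := 2)
  apply H68.CA.no_idx h ((Cfsg.pResidual 2 (G ⧸ center G)).comap (QuotientGroup.mk' (center G)))
  · intro htop
    apply hres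
    rw [eq_top_iff]
    intro x _
    obtain ⟨x, rfl⟩ := QuotientGroup.mk_surjective x
    have : x ∈ (Cfsg.pResidual 2 (G ⧸ center G)).comap (QuotientGroup.mk' (center G)) := by rw [htop]; exact mem_top x
    exact this
  · exact ⟨k, by rw [index_comap_of_surjective _ (QuotientGroup.mk'_surjective (center G)), hk]⟩

theorem case1 (h : H4.CA.Beta2 G) (S : Sylow 2 G) (hel : ∀ y ∈ S, y * y ∈ center G)
    (h8 : 8 ≤ Nat.card ((S : Subgroup G).map (QuotientGroup.mk' (center G)))) :
    ∃ (F : Type) (_ : Field F) (_ : Fintype F), CharP F 2 ∧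
      Nonempty (G ⧸ center G ≃* Matrix.ProjectiveSpecialLinearGroup (Fin 2) F) := by
  haveI : Fact (Nat.Prime 2) := ⟨Nat.prime_two⟩
  have hcard : 8 ≤ Nat.card ((Sb S : Sylow 2 (G ⧸ center G)) : Subgroup (G ⧸ center G)) := by rw [Sb_coe]; exact h8
  obtain ⟨F, iF, iFt, hF, e⟩ := Cfsg.Agent.S1230.result (Sb S) (by
      intro hcyc
      have h1 := IsCyclic.exponent_eq_card (α := ((Sb S : Sylow 2 (G ⧸ center G)) : Subgroup (G ⧸ center G)))
      have h2 : Monoid.exponent ((Sb S : Sylow 2 (G ⧸ center G)) : Subgroup (G ⧸ center G)) ∣ 2 := by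
        apply Monoid.exponent_dvd_of_forall_pow_eq_one
        intro x
        rw [pow_two]
        exact Subtype.ext (sq_bar S hel x x.2)
      rw [h1] at h2
      have := Nat.le_of_dvd (by norm_num) h2
      omega) (by
      intro hn
      have hsol : Group.IsSolvable (((Sb S : Sylow 2 (G ⧸ center G)) : Subgroup (G ⧸ center G)).comap (QuotientGroup.mk' (center G))) := by
        set R := ((Sb S : Sylow 2 (G ⧸ center G)) : Subgroup (G ⧸ center G)).comap (QuotientGroup.mk' (center G)) with hR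
        haveI : Group.IsSolvable ((Sb S : Sylow 2 (G ⧸ center G)) : Subgroup (G ⧸ center G)) := by
          haveI := (Sb S).2.isNilpotent
          infer_instance
        haveI : Group.IsSolvable (center G) := Group.isSolvable_of_comm fun a b => Subtype.ext (cz a.2 (b : G)).eq
        let g : R →* ((Sb S : Sylow 2 (G ⧸ center G)) : Subgroup (G ⧸ center G)) :=
          ((QuotientGroup.mk' (center G)).comp R.subtype).codRestrict _ (fun x => x.2)
        have hle : center G ≤ R := by
          intro z hz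
          rw [hR, mem_comap]
          have : (QuotientGroup.mk' (center G)) z = 1 := mk_one.2 hz
          rw [this]; exact one_mem _
        refine Group.isSolvable_of_ker_le_range (Subgroup.inclusion hle) g ?_
        intro x hx
        have hx1 : (QuotientGroup.mk' (center G)) (x : G) = 1 := congrArg Subtype.val hx
        exact ⟨⟨x, mk_one.1 hx1⟩, rfl⟩
      have hle := h.solv _ (hn.comap _) hsol
      have hbot : ((Sb S : Sylow 2 (G ⧸ center G)) : Subgroup (G ⧸ center G)) = ⊥ := by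
        rw [eq_bot_iff]
        intro x hx
        obtain ⟨x, rfl⟩ := QuotientGroup.mk_surjective x
        exact mk_one.2 (hle hx)
      rw [hbot, card_bot] at hcard
      omega) (by
      intro t ht
      have hPt : IsPGroup 2 (centralizer ({t} : Set (G ⧸ center G))) := by
        rintro ⟨c, hc⟩
        have hc' : Commute t c := by
          rw [mem_centralizer_singleton_iff] at hc
          exact hc.symm
        have hzp : IsPGroup 2 (zpowers t) := by
          rw [IsPGroup.iff_card]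
          exact ⟨1, by rw [Nat.card_zpowers, ht, pow_one]⟩
        obtain ⟨P, hP⟩ := hzp.exists_le_sylow
        obtain ⟨g, hg⟩ := MulAction.exists_smul_eq (G ⧸ center G) (Sb S) P
        have h1 : t ∈ P := hP (mem_zpowers t)
        rw [← hg] at h1
        have h2 : t ∈ ((g • Sb S : Sylow 2 (G ⧸ center G)) : Subgroup (G ⧸ center G)) := h1
        rw [Sylow.coe_subgroup_smul, Subgroup.mem_pointwise_smul_iff_inv_smul_mem] at h2
        have h3 : (MulAut.conj g)⁻¹ • t = g⁻¹ * t * g := by
          rw [← map_inv, MulAut.smul_def, MulAut.conj_apply, inv_inv]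
        rw [h3, Sb_coe] at h2
        obtain ⟨s, hs, hst⟩ := h2
        have hst' : ((s : G) : G ⧸ center G) = g⁻¹ * t * g := hst
        have hsz : s ∉ center G := by
          intro hz
          rw [← mk_one, hst'] at hz
          have : t = g * (g⁻¹ * t * g) * g⁻¹ := by group
          rw [hz] at this
          rw [mul_one, mul_inv_cancel] at this
          rw [this, orderOf_one] at ht
          omega
        obtain ⟨k, hk⟩ := (all_P2 h S hel h8 hs hsz).bar (hel s hs) (g⁻¹ * c * g) (by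
          rw [hst']
          show g⁻¹ * t * g * (g⁻¹ * c * g) = g⁻¹ * c * g * (g⁻¹ * t * g)
          calc g⁻¹ * t * g * (g⁻¹ * c * g) = g⁻¹ * (t * c) * g := by group
            _ = g⁻¹ * (c * t) * g := by rw [hc'.eq]
            _ = g⁻¹ * c * g * (g⁻¹ * t * g) := by group)
        refine ⟨k, Subtype.ext ?_⟩
        show c ^ 2 ^ k = 1
        have h4 : (g⁻¹ * c * g) ^ 2 ^ k = g⁻¹ * c ^ 2 ^ k * g := by
          have := conj_pow (i := 2 ^ k) (a := g⁻¹) (b := c)
          rwa [inv_inv] at this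
        rw [h4] at hk
        have h5 : c ^ 2 ^ k = g * (g⁻¹ * c ^ 2 ^ k * g) * g⁻¹ := by group
        rw [h5, hk]; group
      obtain ⟨a1, a2⟩ := two_sub S hel _ hPt
      refine ⟨⟨⟨fun a b => Subtype.ext (a2 a a.2 b b.2)⟩⟩, fun c hc => ?_⟩
      rw [pow_two]
      exact a1 c hc)
  refine ⟨F, iF, iFt, ?_, e⟩
  obtain ⟨m, hm⟩ := IsPGroup.iff_card.1 (Sb S).2
  exact charP_of_card_eq_prime_pow (f := m) (hF.trans hm)

end struct

end H46.CAK
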