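import Mathlib

/-! The conjugate reciprocal polynomial. -/

set_option autoImplicit false

namespace H46.StPoly

open Polynomial

variable {K : Type*} [Field K] (φ : K →+* K)

/-- monic polynomials with nonzero constant coefficient -/
def Good (f : K[X]) : Prop := f.Monic ∧ f.coeff 0 ≠ 0

/-- conjugate reciprocal polynomial -/
noncomputable def st (f : K[X]) : K[X] := C (φ (f.coeff 0))⁻¹ * (f.map φ).reverse

theorem good_one : Good (1 : K[X]) := ⟨monic_one, by simp⟩

theorem Good.mul {f g : K[X]} (hf : Good f) (hg : Good g) : Good (f * g) :=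
  ⟨hf.1.mul hg.1, by rw [mul_coeff_zero]; exact mul_ne_zero hf.2 hg.2⟩

theorem Good.pow {f : K[X]} (hf : Good f) (k : ℕ) : Good (f ^ k) := by
  induction k with
  | zero => rw [pow_zero]; exact good_one
  | succ k ih => rw [pow_succ]; exact ih.mul hf

theorem Good.ne_zero {f : K[X]} (hf : Good f) : f ≠ 0 := hf.1.ne_zero

theorem good_of_mul {f g : K[X]} (h : Good (f * g)) (hf : f.Monic) : Good f ∧ Good g := by
  have hg : g.Monic := hf.of_mul_monic_left h.1
  have h2 := h.2
  rw [mul_coeff_zero] at h2
  exact ⟨⟨hf, left_ne_zero_of_mul h2⟩, ⟨hg, right_ne_zero_of_mul h2⟩⟩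

variable {φ}

theorem coeff0_ne {f : K[X]} (hf : Good f) : φ (f.coeff 0) ≠ 0 := by
  exact (_root_.map_ne_zero φ).mpr hf.2

theorem st_natDegree {f : K[X]} (hf : Good f) : (st φ f).natDegree = f.natDegree := by
  unfold st
  rw [natDegree_C_mul (inv_ne_zero (coeff0_ne hf)), reverse_natDegree, natDegree_map]
  have h1 : (f.map φ).natTrailingDegree = 0 := by
    rw [natTrailingDegree_eq_zero]
    right
    rw [coeff_map]
    exact coeff0_ne hf
  rw [h1, Nat.sub_zero]

theorem st_coeff (f : K[X]) (i : ℕ) : (st φ f).coeff i = (φ (f.coeff 0))⁻¹ * φ (f.coeff (revAt f.natDegree i)) := by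
  unfold st
  rw [coeff_C_mul, coeff_reverse, natDegree_map, coeff_map]

theorem st_coeff_zero {f : K[X]} (hf : Good f) : (st φ f).coeff 0 = (φ (f.coeff 0))⁻¹ := by
  rw [st_coeff, revAt_le (Nat.zero_le _), Nat.sub_zero]
  have : f.coeff f.natDegree = 1 := hf.1
  rw [this, map_one, mul_one]

theorem good_st {f : K[X]} (hf : Good f) : Good (st φ f) := by
  refine ⟨?_, ?_⟩
  · unfold Monic leadingCoeff
    rw [st_natDegree hf, st_coeff, revAt_le le_rfl, Nat.sub_self]
    exact inv_mul_cancel₀ (coeff0_ne hf)
  · rw [st_coeff_zero hf]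
    exact inv_ne_zero (coeff0_ne hf)

theorem st_one : st φ 1 = 1 := by
  unfold st
  rw [Polynomial.map_one, coeff_one_zero, map_one, inv_one, C_1, one_mul, ← C_1, reverse_C]

theorem st_mul (f g : K[X]) : st φ (f * g) = st φ f * st φ g := by
  unfold st
  rw [Polynomial.map_mul, reverse_mul_of_domain, mul_coeff_zero, map_mul, mul_inv, C_mul]
  ring

theorem st_pow (f : K[X]) (k : ℕ) : st φ (f ^ k) = st φ f ^ k := by
  induction k with
  | zero => rw [pow_zero, pow_zero, st_one]
  | succ k ih => rw [pow_succ, st_mul, ih, pow_succ]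

theorem st_prod {ι : Type*} (s : Finset ι) (f : ι → K[X]) : st φ (∏ i ∈ s, f i) = ∏ i ∈ s, st φ (f i) := by
  classical
  induction s using Finset.induction_on with
  | empty => rw [Finset.prod_empty, Finset.prod_empty, st_one]
  | insert i s hi ih => rw [Finset.prod_insert hi, Finset.prod_insert hi, st_mul, ih]

theorem st_st (hφ : ∀ x, φ (φ x) = x) {f : K[X]} (hf : Good f) : st φ (st φ f) = f := by
  ext i
  rw [st_coeff, st_coeff_zero hf, map_inv₀, inv_inv, hφ, st_natDegree hf, st_coeff, map_mul, map_inv₀, hφ, hφ, revAt_invol,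
    mul_inv_cancel_left₀ hf.2]

theorem irreducible_st (hφ : ∀ x, φ (φ x) = x) {p : K[X]} (hp : Good p) (hpi : Irreducible p) : Irreducible (st φ p) := by
  have hg := good_st (φ := φ) hp
  refine ⟨?_, ?_⟩
  · intro h
    have h1 : st φ p = 1 := hg.1.eq_one_of_isUnit h
    have h2 := st_st hφ hp
    rw [h1, st_one] at h2
    exact hpi.not_isUnit (h2 ▸ isUnit_one)
  · intro a b hab
    -- normalise the factors
    have ha : a ≠ 0 := by
      rintro rfl
      rw [zero_mul] at hab
      exact hg.ne_zero hab
    have hb : b ≠ 0 := by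
      rintro rfl
      rw [mul_zero] at hab
      exact hg.ne_zero hab
    have hla : a.leadingCoeff ≠ 0 := leadingCoeff_ne_zero.mpr ha
    have hlb : b.leadingCoeff ≠ 0 := leadingCoeff_ne_zero.mpr hb
    have hlab : a.leadingCoeff * b.leadingCoeff = 1 := by
      rw [← leadingCoeff_mul, ← hab]; exact hg.1
    set a' : K[X] := C (b.leadingCoeff) * a with ha'
    set b' : K[X] := C (a.leadingCoeff) * b with hb'
    have h1 : st φ p = a' * b' := by
      rw [hab, ha', hb']
      have : C b.leadingCoeff * a * (C a.leadingCoeff * b) = C (a.leadingCoeff * b.leadingCoeff) * (a * b) := by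
        rw [C_mul]; ring
      rw [this, hlab, C_1, one_mul]
    have hma' : a'.Monic := by
      unfold Monic
      rw [ha', leadingCoeff_mul, leadingCoeff_C, mul_comm]; exact hlab
    have h2 := good_of_mul (h1 ▸ hg) hma'
    have h3 : p = st φ a' * st φ b' := by
      rw [← st_mul, ← h1, st_st hφ hp]
    have hu : ∀ {c d : K[X]}, c ≠ 0 → IsUnit (C d.leadingCoeff * c) → d.leadingCoeff ≠ 0 → IsUnit c := by
      intro c d _ h hd
      exact isUnit_of_mul_isUnit_right h
    rcases hpi.isUnit_or_isUnit h3 with h | h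
    · left
      have h4 := (good_st (φ := φ) h2.1).1.eq_one_of_isUnit h
      have h5 := st_st hφ h2.1
      rw [h4, st_one] at h5
      exact hu ha (ha' ▸ h5 ▸ isUnit_one) hlb
    · right
      have h4 := (good_st (φ := φ) h2.2).1.eq_one_of_isUnit h
      have h5 := st_st hφ h2.2
      rw [h4, st_one] at h5
      exact hu hb (hb' ▸ h5 ▸ isUnit_one) hla

/-- the polynomial `X` is the only monic irreducible polynomial with zero constant coefficient -/
theorem good_of_irreducible {p : K[X]} (hp : p.Monic) (hpi : Irreducible p) (h : p ≠ X) : Good p := by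
  refine ⟨hp, ?_⟩
  intro h0
  rw [← X_dvd_iff] at h0
  apply h
  exact (eq_of_monic_of_associated monic_X hp (irreducible_X.associated_of_dvd hpi h0)).symm

end H46.StPoly
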