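import Mathlib
import Cfsg.Agent.Lib.H46.TyGL
import Cfsg.Agent.Lib.H46.StPoly
import Cfsg.Agent.Lib.H49.RootMult

/-! The type of the conjugate transpose inverse of a matrix. -/

set_option autoImplicit false

namespace H46.StTy

open Polynomial H48.SimStruct H46.TyAlg H46.TyCount H46.TyGL H46.StPoly Matrix

variable {K : Type*} [Field K] (φ : K →+* K) {n : ℕ}

/-- conjugate transpose with respect to a field endomorphism -/
def cT (X : Matrix (Fin n) (Fin n) K) : Matrix (Fin n) (Fin n) K := (X.map φ)ᵀ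

theorem cT_apply (X : Matrix (Fin n) (Fin n) K) (i j : Fin n) : cT φ X i j = φ (X j i) := rfl

theorem cT_mul (X Y : Matrix (Fin n) (Fin n) K) : cT φ (X * Y) = cT φ Y * cT φ X := by
  unfold cT
  rw [Matrix.map_mul, Matrix.transpose_mul]

theorem cT_one : cT φ (1 : Matrix (Fin n) (Fin n) K) = 1 := by
  unfold cT
  rw [Matrix.map_one _ (map_zero φ) (map_one φ), Matrix.transpose_one]

theorem cT_add (X Y : Matrix (Fin n) (Fin n) K) : cT φ (X + Y) = cT φ X + cT φ Y := by
  ext i j
  simp [cT]

theorem cT_smul (a : K) (X : Matrix (Fin n) (Fin n) K) : cT φ (a • X) = φ a • cT φ X := by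
  ext i j
  simp [cT]

theorem cT_pow (X : Matrix (Fin n) (Fin n) K) (k : ℕ) : cT φ (X ^ k) = cT φ X ^ k := by
  induction k with
  | zero => rw [pow_zero, pow_zero, cT_one]
  | succ k ih => rw [pow_succ, cT_mul, ih, pow_succ']

theorem det_cT (X : Matrix (Fin n) (Fin n) K) : (cT φ X).det = φ X.det := by
  unfold cT
  rw [Matrix.det_transpose, RingHom.map_det]
  rfl

variable {φ}

theorem cT_cT (hφ : ∀ x, φ (φ x) = x) (X : Matrix (Fin n) (Fin n) K) : cT φ (cT φ X) = X := by
  ext i j
  rw [cT_apply, cT_apply, hφ]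

theorem rank_cT (X : Matrix (Fin n) (Fin n) K) : (cT φ X).rank = X.rank := by
  unfold cT
  rw [Matrix.rank_transpose, H49.RootMult.rank_map]

theorem aeval_cT (X : Matrix (Fin n) (Fin n) K) (g : K[X]) : aeval (cT φ X) (g.map φ) = cT φ (aeval X g) := by
  induction g using Polynomial.induction_on' with
  | add p q hp hq => rw [Polynomial.map_add, map_add, map_add, hp, hq, cT_add]
  | monomial i a =>
    rw [Polynomial.map_monomial, aeval_monomial, aeval_monomial, cT_mul, cT_pow, Algebra.algebraMap_eq_smul_one, Algebra.algebraMap_eq_smul_one, cT_smul, cT_one, smul_mul_assoc, one_mul,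
      mul_smul_comm, mul_one]

theorem aeval_reverse {Y Y' : Matrix (Fin n) (Fin n) K} (h : Y * Y' = 1) (r : K[X]) :
    aeval Y (reverse r) = Y ^ r.natDegree * aeval Y' r := by
  have hpow : ∀ i j, j ≤ i → Y ^ i * Y' ^ j = Y ^ (i - j) := by
    intro i j hij
    induction j with
    | zero => rw [pow_zero, mul_one, Nat.sub_zero]
    | succ j ih =>
      have h1 : i - j = (i - (j + 1)) + 1 := by omega
      rw [pow_succ, ← mul_assoc, ih (by omega), h1, pow_succ, mul_assoc, h, mul_one]
  rw [aeval_eq_sum_range (x := Y') (p := r), Finset.mul_sum,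
    aeval_eq_sum_range' (Nat.lt_succ_of_le (reverse_natDegree_le r)), Nat.succ_eq_add_one, ← Finset.sum_range_reflect]
  refine Finset.sum_congr rfl fun j hj => ?_
  rw [Finset.mem_range] at hj
  have h1 : r.natDegree + 1 - 1 - j = r.natDegree - j := by omega
  rw [h1, coeff_reverse, revAt_le (by omega), mul_smul_comm, hpow _ _ (by omega)]
  congr 2
  omega

theorem rank_aeval_dual (hφ : ∀ x, φ (φ x) = x) {X X' : Matrix (Fin n) (Fin n) K} (h : cT φ X * X' = 1) {r : K[X]} (hr : Good r) :
    (aeval X' r).rank = (aeval X (st φ r)).rank := by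
  have h1 := aeval_reverse h r
  have h2 : (aeval (cT φ X) (reverse r)).rank = (aeval X' r).rank := by
    rw [h1, rank_mul_eq_right_of_isUnit_det]
    rw [Matrix.det_pow]
    apply IsUnit.pow
    exact (Matrix.isUnit_iff_isUnit_det _).mp (IsUnit.of_mul_eq_one _ h)
  rw [← h2]
  -- `reverse r = (φ r₀)' • (st r)^φ`
  have h3 : reverse r = (C (φ (r.coeff 0)) * st φ r).map φ := by
    unfold st
    rw [← mul_assoc, ← C_mul, mul_inv_cancel₀ (coeff0_ne hr), C_1, one_mul]
    ext i
    rw [coeff_map, coeff_reverse, coeff_reverse, natDegree_map, coeff_map, hφ]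
  rw [h3, aeval_cT, rank_cT, map_mul, aeval_C, rank_mul_eq_right_of_isUnit_det]
  rw [Algebra.algebraMap_eq_smul_one, Matrix.det_smul, Matrix.det_one, mul_one]
  exact (IsUnit.mk0 _ (coeff0_ne hr)).pow _

/-- kernel dimensions by ranks -/
theorem finrank_ker_aeval (X : Matrix (Fin n) (Fin n) K) (r : K[X]) :
    Module.finrank K (LinearMap.ker (aeval (lin X) r)) + (aeval X r).rank = n := by
  have h1 : aeval (lin X) r = Matrix.toLin' (aeval X r) := by
    have := Polynomial.aeval_algHom_apply (Matrix.toLinAlgEquiv' : Matrix (Fin n) (Fin n) K ≃ₐ[K] _).toAlgHom X r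
    exact this
  have h2 := LinearMap.finrank_range_add_finrank_ker (Matrix.toLin' (aeval X r))
  rw [Module.finrank_fin_fun] at h2
  rw [h1]
  have h3 : (aeval X r).rank = Module.finrank K (LinearMap.range (Matrix.toLin' (aeval X r))) := rfl
  rw [h3]
  omega

theorem finrank_ker_dual (hφ : ∀ x, φ (φ x) = x) {X X' : Matrix (Fin n) (Fin n) K} (h : cT φ X * X' = 1) {r : K[X]} (hr : Good r) :
    Module.finrank K (LinearMap.ker (aeval (lin X') r)) = Module.finrank K (LinearMap.ker (aeval (lin X) (st φ r))) := by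
  have h1 := finrank_ker_aeval X' r
  have h2 := finrank_ker_aeval X (st φ r)
  rw [rank_aeval_dual hφ h hr] at h1
  omega

theorem st_tyf {ι : Type*} [Fintype ι] (g : ι → K[X] × ℕ) (e : ℕ) :
    st φ (tyf g e) = tyf (fun i => (st φ (g i).1, (g i).2)) e := by
  unfold tyf
  rw [st_prod]
  refine Finset.prod_congr rfl fun i _ => ?_
  simp only
  split_ifs
  · rfl
  · exact st_one

/-- no zero eigenvalue: labels are good -/
theorem good_labels {X : Matrix (Fin n) (Fin n) K} (hX : X.det ≠ 0) {ι : Type*} [Fintype ι] {g : ι → K[X] × ℕ} (hg : ∀ i, Adm (g i))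
    (E : Module.AEval' (lin X) ≃ₗ[K[X]] (∀ i, Cyc (g i))) (i : ι) : Good (g i).1 := by
  refine ⟨(hg i).1, ?_⟩
  intro h0
  apply hX
  have h1 := det_isTy hg E
  rw [LinearMap.det_toLin'] at h1
  rw [h1]
  apply Finset.prod_eq_zero (Finset.mem_univ i)
  have h2 : sc (g i).1 = 0 := by unfold sc; rw [h0, mul_zero]
  rw [h2, zero_pow (by have := (hg i).2.2; omega)]

/-- the type of the conjugate transpose inverse -/
theorem ty_dual (hφ : ∀ x, φ (φ x) = x) {A B : Matrix (Fin n) (Fin n) K} (h : cT φ A * B = 1) :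
    ty B = fun e => st φ (ty A e) := by
  classical
  have hdet : φ A.det * B.det = 1 := by
    rw [← det_cT, ← Matrix.det_mul, h, Matrix.det_one]
  have hX : A.det ≠ 0 := by
    intro h0
    rw [h0, map_zero, zero_mul] at hdet
    exact zero_ne_one hdet
  have hX' : B.det ≠ 0 := right_ne_zero_of_mul (hdet ▸ one_ne_zero)
  obtain ⟨ι, _, g, hg, ⟨E⟩, h1⟩ := isTy_ty A
  obtain ⟨κ, _, g', hg', ⟨E'⟩, h2⟩ := isTy_ty B
  have hgood := good_labels hX hg E
  have hgood' := good_labels hX' hg' E'
  let gs : ι → K[X] × ℕ := fun i => (st φ (g i).1, (g i).2)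
  have hgs : ∀ i, Adm (gs i) := fun i => ⟨(good_st (hgood i)).1, irreducible_st hφ (hgood i) (hg i).2.1, (hg i).2.2⟩
  have hc := card_fiber_eq g' gs hg' hgs (fun p hp hpi k => by
    by_cases hpX : p = X
    · subst hpX
      have e1 : ∀ {τ : Type _} [Fintype τ] (f : τ → K[X] × ℕ) (hf : ∀ i, Adm (f i)) (hfg : ∀ i, Good (f i).1),
          ∑ i, kd (Cyc (f i)) ((X : K[X]) ^ k) = 0 := by
        intro τ _ f hf hfg
        apply Finset.sum_eq_zero
        intro i _
        rw [kd_cyc (hf i) hp hpi, if_neg, zero_mul]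
        intro h3
        have := (hfg i).2
        rw [h3] at this
        exact this coeff_X_zero
      rw [e1 g' hg' hgood', e1 gs hgs (fun i => good_st (hgood i))]
    · have hpg := good_of_irreducible hp hpi hpX
      have hsg := good_st (φ := φ) hpg
      have hsi := irreducible_st hφ hpg hpi
      rw [kd_struct hg' E', finrank_ker_dual hφ h (hpg.pow k), st_pow, ← kd_struct hg E]
      refine Finset.sum_congr rfl fun i _ => ?_
      rw [kd_cyc (hg i) hsg.1 hsi, kd_cyc (hgs i) hp hpi, st_natDegree hpg]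
      congr 1
      apply if_congr _ rfl rfl
      constructor
      · intro h3
        show st φ (g i).1 = p
        rw [h3, st_st hφ hpg]
      · intro h3
        have h4 : st φ (st φ (g i).1) = st φ p := congrArg (st φ) h3
        rwa [st_st hφ (hgood i)] at h4)
  obtain ⟨e, he⟩ := equiv_of_fibers g' gs hc
  rw [h2, tyf_congr g' gs e he]
  funext k
  rw [h1, st_tyf]

end H46.StTy
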