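import Mathlib
import Cfsg.Agent.Lib.H46.StTy

/-! Realisation of types; block sums. -/

set_option autoImplicit false

namespace H46.TyReal

open Polynomial H48.SimStruct H46.TyAlg H46.TyCount H46.TyGL H46.StPoly Matrix

universe u v w

variable {F : Type u} [Field F]

/-- the type is invariant under conjugation -/
theorem isTy_of_conj {V : Type v} [AddCommGroup V] [Module F V] {W : Type w} [AddCommGroup W] [Module F W] [FiniteDimensional F W]
    {T : V →ₗ[F] V} {S : W →ₗ[F] W} {f : ℕ → F[X]} (hT : IsTy T f)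
    (e : V ≃ₗ[F] W) (he : ∀ v, e (T v) = S (e v)) : IsTy S f := by
  obtain ⟨f', hf'⟩ := exists_isTy S
  rw [isTy_unique hT hf' e he]
  exact hf'

/-- `AEval'` of a product -/
noncomputable def prodE {V : Type v} [AddCommGroup V] [Module F V] {W : Type w} [AddCommGroup W] [Module F W]
    (T : V →ₗ[F] V) (S : W →ₗ[F] W) : Module.AEval' (T.prodMap S) ≃ₗ[F[X]] (Module.AEval' T × Module.AEval' S) :=
  LinearEquiv.ofAEval (T.prodMap S) ((Module.AEval'.of T).prodCongr (Module.AEval'.of S)) (by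
    rintro ⟨v, w⟩
    apply Prod.ext
    · show Module.AEval'.of T (T v) = (X : F[X]) • Module.AEval'.of T v
      rw [Module.AEval'.X_smul_of]
    · show Module.AEval'.of S (S w) = (X : F[X]) • Module.AEval'.of S w
      rw [Module.AEval'.X_smul_of])

/-- the type of a direct sum -/
theorem isTy_prod {V : Type v} [AddCommGroup V] [Module F V] {W : Type w} [AddCommGroup W] [Module F W]
    {T : V →ₗ[F] V} {S : W →ₗ[F] W} {f f' : ℕ → F[X]} (hT : IsTy T f) (hS : IsTy S f') :
    IsTy (T.prodMap S) (fun e => f e * f' e) := by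
  obtain ⟨ι, _, g, hg, ⟨E⟩, rfl⟩ := hT
  obtain ⟨κ, _, g', hg', ⟨E'⟩, rfl⟩ := hS
  refine ⟨ι ⊕ κ, inferInstance, Sum.elim g g', ?_, ⟨?_⟩, ?_⟩
  · rintro (i | i)
    · exact hg i
    · exact hg' i
  · have e1 : Module.AEval' (T.prodMap S) ≃ₗ[F[X]] (Module.AEval' T × Module.AEval' S) := prodE T S
    have e2 : (Module.AEval' T × Module.AEval' S) ≃ₗ[F[X]] ((∀ i, Cyc (g i)) × (∀ i, Cyc (g' i))) := E.prodCongr E'
    have e3 : ((∀ i, Cyc (g i)) × (∀ i, Cyc (g' i))) ≃ₗ[F[X]] (∀ i : ι ⊕ κ, Cyc (Sum.elim g g' i)) :=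
      (LinearEquiv.sumPiEquivProdPi F[X] ι κ (fun i => Cyc (Sum.elim g g' i))).symm
    exact e1.trans (e2.trans e3)
  · funext e
    unfold tyf
    rw [Fintype.prod_sum_type]
    rfl

/-- the type of a cyclic block -/
theorem isTy_cyc {x : F[X] × ℕ} (hx : Adm x) :
    IsTy (((LinearMap.lsmul F[X] (Cyc x)) X).restrictScalars F) (fun e => if x.2 = e then x.1 else 1) := by
  refine ⟨PUnit, inferInstance, fun _ => x, fun _ => hx, ⟨?_⟩, ?_⟩
  · have e1 : Module.AEval' (((LinearMap.lsmul F[X] (Cyc x)) X).restrictScalars F) ≃ₗ[F[X]] Cyc x :=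
      LinearEquiv.ofAEval _ (LinearEquiv.refl F (Cyc x)) (by intro m; rfl)
    have e2 : Cyc x ≃ₗ[F[X]] (∀ _ : PUnit.{u+1}, Cyc x) := (LinearEquiv.funUnique PUnit F[X] (Cyc x)).symm
    exact e1.trans e2
  · funext e
    unfold tyf
    simp

/-- realisation by matrices -/
def Real (n : ℕ) (f : ℕ → F[X]) : Prop := ∃ A : Matrix (Fin n) (Fin n) F, ty A = f

theorem real_of_isTy {V : Type v} [AddCommGroup V] [Module F V] [FiniteDimensional F V] {T : V →ₗ[F] V} {f : ℕ → F[X]} (hT : IsTy T f)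
    {n : ℕ} (hn : Module.finrank F V = n) : Real n f := by
  let b := (Module.finBasisOfFinrankEq F V hn)
  let e : V ≃ₗ[F] (Fin n → F) := b.equivFun
  let S : (Fin n → F) →ₗ[F] (Fin n → F) := (e : V →ₗ[F] _) ∘ₗ T ∘ₗ (e.symm : _ →ₗ[F] V)
  have hS : IsTy S f := isTy_of_conj hT e (by intro v; simp [S])
  refine ⟨LinearMap.toMatrix' S, ?_⟩
  have h2 := isTy_ty (LinearMap.toMatrix' S)
  refine isTy_unique h2 hS (LinearEquiv.refl _ _) ?_
  intro v
  show lin (LinearMap.toMatrix' S) v = S v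
  unfold lin
  rw [Matrix.toLin'_toMatrix']

theorem isTy_lin {n : ℕ} {A : Matrix (Fin n) (Fin n) F} {f : ℕ → F[X]} : IsTy (lin A) f ↔ ty A = f := by
  constructor
  · intro h
    exact isTy_unique (isTy_ty A) h (LinearEquiv.refl _ _) (fun _ => rfl)
  · rintro rfl
    exact isTy_ty A

/-- block diagonal sum -/
def bd {m n : ℕ} (A : Matrix (Fin m) (Fin m) F) (B : Matrix (Fin n) (Fin n) F) : Matrix (Fin (m + n)) (Fin (m + n)) F :=
  Matrix.reindex finSumFinEquiv finSumFinEquiv (Matrix.fromBlocks A 0 0 B)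

theorem bd_mul {m n : ℕ} (A A' : Matrix (Fin m) (Fin m) F) (B B' : Matrix (Fin n) (Fin n) F) : bd A B * bd A' B' = bd (A * A') (B * B') := by
  unfold bd
  rw [Matrix.reindex_apply, Matrix.reindex_apply, Matrix.reindex_apply, Matrix.submatrix_mul_equiv, Matrix.fromBlocks_multiply]
  simp

theorem bd_one {m n : ℕ} : bd (1 : Matrix (Fin m) (Fin m) F) (1 : Matrix (Fin n) (Fin n) F) = 1 := by
  unfold bd
  rw [Matrix.fromBlocks_one, Matrix.reindex_apply, Matrix.submatrix_one_equiv]

theorem det_bd {m n : ℕ} (A : Matrix (Fin m) (Fin m) F) (B : Matrix (Fin n) (Fin n) F) : (bd A B).det = A.det * B.det := by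
  unfold bd
  rw [Matrix.det_reindex_self, Matrix.det_fromBlocks_zero₂₁]

theorem cT_bd (φ : F →+* F) {m n : ℕ} (A : Matrix (Fin m) (Fin m) F) (B : Matrix (Fin n) (Fin n) F) :
    H46.StTy.cT φ (bd A B) = bd (H46.StTy.cT φ A) (H46.StTy.cT φ B) := by
  unfold H46.StTy.cT bd
  rw [Matrix.reindex_apply, Matrix.reindex_apply, ← Matrix.submatrix_map, Matrix.transpose_submatrix, Matrix.fromBlocks_map, Matrix.fromBlocks_transpose]
  simp [Matrix.map_zero]

theorem ty_bd {m n : ℕ} (A : Matrix (Fin m) (Fin m) F) (B : Matrix (Fin n) (Fin n) F) :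
    ty (bd A B) = fun e => ty A e * ty B e := by
  have h := isTy_prod (isTy_ty A) (isTy_ty B)
  rw [← isTy_lin]
  let e : ((Fin m → F) × (Fin n → F)) ≃ₗ[F] (Fin (m + n) → F) :=
    (LinearEquiv.sumArrowLequivProdArrow (Fin m) (Fin n) F F).symm.trans (LinearEquiv.funCongrLeft F F finSumFinEquiv.symm)
  refine isTy_of_conj h e ?_
  rintro ⟨v, w⟩
  have he : ∀ (a : Fin m → F) (b : Fin n → F), e (a, b) = (Sum.elim a b) ∘ finSumFinEquiv.symm := fun a b => rfl
  show e (A *ᵥ v, B *ᵥ w) = (bd A B) *ᵥ (e (v, w))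
  rw [he, he]
  unfold bd
  rw [Matrix.reindex_apply, Matrix.submatrix_mulVec_equiv, Matrix.fromBlocks_mulVec]
  congr 1
  simp [Function.comp_assoc]

theorem Real.add {m n : ℕ} {f f' : ℕ → F[X]} (h : Real m f) (h' : Real n f') : Real (m + n) (fun e => f e * f' e) := by
  obtain ⟨A, rfl⟩ := h
  obtain ⟨B, rfl⟩ := h'
  exact ⟨bd A B, ty_bd A B⟩

/-- single types -/
noncomputable def sg (e : ℕ) (h : F[X]) : ℕ → F[X] := fun k => if k = e then h else 1

theorem real_single {p : F[X]} (hp : p.Monic) (hpi : Irreducible p) {e : ℕ} (he : 1 ≤ e) : Real (e * p.natDegree) (sg e p) := by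
  have hx : Adm (p, e) := ⟨hp, hpi, he⟩
  haveI := finite_cyc (x := (p, e)) hp
  have h1 := real_of_isTy (isTy_cyc hx) (finrank_cyc hp e)
  have h2 : (fun k => if (p, e).2 = k then (p, e).1 else 1) = sg e p := by
    funext k
    unfold sg
    by_cases h : k = e
    · rw [if_pos h, if_pos h.symm]
    · rw [if_neg h, if_neg (fun h' => h h'.symm)]
  rwa [h2] at h1

/-- splitting off a factor of a type -/
theorem split_TT {n : ℕ} {f : ℕ → F[X]} (hf : f ∈ TT F 1 n) {e : ℕ} {h k : F[X]} (hfe : f e = h * k) (hh : h.Monic) (he : f e ≠ 1) :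
    1 ≤ e ∧ e * h.natDegree ≤ n ∧ Function.update f e k ∈ TT F 1 (n - e * h.natDegree) ∧ f = (fun i => sg e h i * Function.update f e k i) := by
  have hk : k.Monic := hh.of_mul_monic_left (hfe ▸ (hf.1 e).1)
  have hk0 : k.coeff 0 ≠ 0 := by
    have := (hf.1 e).2
    rw [hfe, mul_coeff_zero] at this
    exact right_ne_zero_of_mul this
  have he1 : 1 ≤ e := by
    by_contra hcon
    exact he (hf.2.1 e (Or.inl (by omega)))
  have hen : e ≤ n := by
    by_contra hcon
    exact he (hf.2.1 e (Or.inr (by omega)))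
  have hmem : e ∈ Finset.range (n + 1) := Finset.mem_range.mpr (by omega)
  have hdeg : (f e).natDegree = h.natDegree + k.natDegree := by rw [hfe, hh.natDegree_mul hk]
  have hsum := hf.2.2
  rw [← Finset.add_sum_erase _ _ hmem, hdeg, mul_add] at hsum
  refine ⟨he1, by omega, ?_, ?_⟩
  · apply mem_TT_of_le (N := n)
    · intro i
      by_cases hi : i = e
      · subst hi; rw [Function.update_self]; exact ⟨hk, hk0⟩
      · rw [Function.update_of_ne hi]; exact hf.1 i
    · intro i hi
      rw [Function.update_of_ne (by omega)]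
      exact hf.2.1 i (Or.inl hi)
    · intro i hi
      rw [Function.update_of_ne (by omega)]
      exact hf.2.1 i (Or.inr hi)
    · rw [← Finset.add_sum_erase _ _ hmem, Function.update_self]
      have : ∑ x ∈ (Finset.range (n + 1)).erase e, x * (Function.update f e k x).natDegree = ∑ x ∈ (Finset.range (n + 1)).erase e, x * (f x).natDegree := by
        refine Finset.sum_congr rfl fun x hx => ?_
        rw [Function.update_of_ne (Finset.ne_of_mem_erase hx)]
      rw [this]
      omega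
  · funext i
    unfold sg
    by_cases hi : i = e
    · subst hi; rw [Function.update_self, if_pos rfl, hfe]
    · rw [Function.update_of_ne hi, if_neg hi, one_mul]

theorem ty_zero (A : Matrix (Fin 0) (Fin 0) F) : ty A = fun _ => 1 := by
  have h := (ty_mem (x := A) (by rw [Matrix.det_isEmpty]; exact one_ne_zero)).1
  rw [TT_zero le_rfl] at h
  exact h

/-- every type is realised -/
theorem real_of_mem {n : ℕ} {f : ℕ → F[X]} (hf : f ∈ TT F 1 n) : Real n f := by
  induction n using Nat.strong_induction_on generalizing f with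
  | _ n ih =>
  by_cases hall : ∀ e, f e = 1
  · have hn : n = 0 := by
      rw [← hf.2.2]
      apply Finset.sum_eq_zero
      intro e _
      rw [hall e, natDegree_one, mul_zero]
    subst hn
    refine ⟨1, ?_⟩
    rw [ty_zero]
    funext e
    rw [hall e]
  · push Not at hall
    obtain ⟨e, he⟩ := hall
    have hfe := hf.1 e
    obtain ⟨p, hpm, hpi, hpd⟩ : ∃ p : F[X], p.Monic ∧ Irreducible p ∧ p ∣ f e := by
      have hnu : ¬ IsUnit (f e) := fun h => he (hfe.1.eq_one_of_isUnit h)
      obtain ⟨p, h1, h2, h3⟩ := Polynomial.exists_monic_irreducible_factor (f e) hnu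
      exact ⟨p, h1, h2, h3⟩
    obtain ⟨k, hk⟩ := hpd
    obtain ⟨h1, h2, h3, h4⟩ := split_TT hf hk hpm he
    have hpos : 0 < e * p.natDegree := Nat.mul_pos h1 hpi.natDegree_pos
    have h5 := (real_single hpm hpi h1).add (ih _ (by omega) h3)
    rw [← h4] at h5
    have h6 : e * p.natDegree + (n - e * p.natDegree) = n := by omega
    rwa [h6] at h5

end H46.TyReal
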