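import Mathlib
import Cfsg.Agent.Lib.H49.GUUnip

/-! Invariant bilinear forms of a unipotent matrix: reduction to the blocks. -/

set_option autoImplicit false

namespace H46.UniForm

open Matrix H48.JTCent H49.GUUnip

variable {F : Type*} [Field F] {t : ℕ} (d : Fin t → ℕ) (hd : ∀ k, 1 ≤ d k)

/-- the first index of a block -/
abbrev z0 (k : Fin t) : I d := ⟨k, ⟨0, hd k⟩⟩

/-- the last index of a block -/
abbrev tp (k : Fin t) : I d := ⟨k, ⟨d k - 1, pred_lt' (hd k)⟩⟩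

/-- commuting with the Jordan matrix -/
def Cm (h : Matrix (I d) (I d) F) : Prop := h * Cfsg.jordanTypeMatrix d F = Cfsg.jordanTypeMatrix d F * h

/-- the block of a matrix -/
def BL (i : ℕ) (h : Matrix (I d) (I d) F) : Matrix {k : Fin t // d k = i} {k : Fin t // d k = i} F :=
  Matrix.of fun l k => h (z0 d hd l.1) (z0 d hd k.1)

/-- the block of a form -/
def BT (i : ℕ) (M : Matrix (I d) (I d) F) : Matrix {k : Fin t // d k = i} {k : Fin t // d k = i} F :=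
  Matrix.of fun l k => M (tp d hd l.1) (z0 d hd k.1)

variable {d}

theorem Cm.one : Cm d (1 : Matrix (I d) (I d) F) := by
  unfold Cm; rw [one_mul, mul_one]

theorem Cm.mul {g h : Matrix (I d) (I d) F} (hg : Cm d g) (hh : Cm d h) : Cm d (g * h) := by
  unfold Cm at *
  rw [mul_assoc, hh, ← mul_assoc, hg, mul_assoc]

theorem Cm.inv {g g' : Matrix (I d) (I d) F} (hg : Cm d g) (h : g * g' = 1) : Cm d g' := by
  have h' : g' * g = 1 := mul_eq_one_comm.mp h
  unfold Cm at *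
  calc g' * Cfsg.jordanTypeMatrix d F = g' * Cfsg.jordanTypeMatrix d F * (g * g') := by rw [h, mul_one]
    _ = g' * (Cfsg.jordanTypeMatrix d F * g) * g' := by simp only [mul_assoc]
    _ = (g' * g) * Cfsg.jordanTypeMatrix d F * g' := by rw [← hg]; simp only [mul_assoc]
    _ = _ := by rw [h', one_mul]

include hd in
theorem Cm.mat {h : Matrix (I d) (I d) F} (hc : Cm d h) :
    ∃ w ∈ X d F, mat d w = h ∧ ∀ (k l : Fin t) (j : Fin (d l)), w k l j = h ⟨l, j⟩ ⟨k, ⟨0, hd k⟩⟩ := by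
  obtain ⟨h1, h2⟩ := exists_mat d hd h ((commute_jt d h).mp hc)
  exact ⟨_, h1, h2, fun k l j => rfl⟩

theorem Cm.of_mat {w : (k l : Fin t) → Fin (d l) → F} (hw : w ∈ X d F) : Cm d (H48.JTCent.mat d w) :=
  (commute_jt d _).mpr (mat_commute d w hw)

theorem Cm.row_zero {h : Matrix (I d) (I d) F} (hc : Cm d h) (l m : Fin t) (j : Fin (d m)) (hj : 0 < (j : ℕ)) :
    h (z0 d hd l) ⟨m, j⟩ = 0 := by
  obtain ⟨w, hw, rfl, -⟩ := hc.mat hd
  unfold H48.JTCent.mat
  rw [Matrix.of_apply, dif_neg]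
  show ¬ (j : ℕ) ≤ 0
  omega

theorem Cm.col_zero {h : Matrix (I d) (I d) F} (hc : Cm d h) (l k : Fin t) (j : Fin (d l)) (hj : (j : ℕ) + d k < d l) :
    h ⟨l, j⟩ (z0 d hd k) = 0 := by
  obtain ⟨w, hw, h2, h3⟩ := hc.mat hd
  rw [← h3]
  exact hw k l j hj

theorem Cm.col_top {h : Matrix (I d) (I d) F} (hc : Cm d h) (k l : Fin t) (hkl : d k = d l) (i : Fin (d k)) :
    h ⟨k, i⟩ (tp d hd l) = if (i : ℕ) = d k - 1 then h (z0 d hd k) (z0 d hd l) else 0 := by
  obtain ⟨w, hw, rfl, -⟩ := hc.mat hd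
  unfold H48.JTCent.mat
  rw [Matrix.of_apply, Matrix.of_apply]
  have hi := i.2
  split_ifs with h1 h2 h3 h4
  · have e1 : (⟨(i : ℕ) - (d l - 1), by have := hd l; omega⟩ : Fin (d k)) = ⟨0, hd k⟩ := Fin.ext (by show (i : ℕ) - (d l - 1) = 0; omega)
    exact congrArg (w l k) e1
  · exact absurd (le_refl 0) h3
  · exfalso
    have : d l - 1 ≤ (i : ℕ) := h1
    omega
  · exfalso
    have : ¬ d l - 1 ≤ (i : ℕ) := h1
    omega
  · exfalso
    have : ¬ d l - 1 ≤ (i : ℕ) := h1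
    omega
  · rfl

theorem BL_mul {g h : Matrix (I d) (I d) F} (hg : Cm d g) (hh : Cm d h) (i : ℕ) : BL d hd i (g * h) = BL d hd i g * BL d hd i h := by
  classical
  ext ⟨l, hl⟩ ⟨k, hk⟩
  unfold BL
  rw [Matrix.of_apply, Matrix.mul_apply, Matrix.mul_apply]
  simp only [Matrix.of_apply]
  rw [← Finset.univ_sigma_univ, Finset.sum_sigma]
  have h1 : ∀ m : Fin t, ∑ j : Fin (d m), g (z0 d hd l) ⟨m, j⟩ * h ⟨m, j⟩ (z0 d hd k) =
      if d m = i then g (z0 d hd l) (z0 d hd m) * h (z0 d hd m) (z0 d hd k) else 0 := by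
    intro m
    rw [Finset.sum_eq_single (⟨0, hd m⟩ : Fin (d m))]
    · split_ifs with hm
      · rfl
      · rcases lt_or_gt_of_ne hm with h2 | h2
        · have := hg.col_zero hd l m ⟨0, hd l⟩ (by show 0 + d m < d l; omega)
          rw [this, zero_mul]
        · have := hh.col_zero hd m k ⟨0, hd m⟩ (by show 0 + d k < d m; omega)
          rw [this, mul_zero]
    · intro j _ hj
      rw [hg.row_zero hd l m j (by
        rcases Nat.eq_zero_or_pos (j : ℕ) with h0 | h0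
        · exact absurd (Fin.ext h0) hj
        · exact h0), zero_mul]
    · intro h; exact absurd (Finset.mem_univ _) h
  rw [Finset.sum_congr rfl (fun m _ => h1 m), ← Finset.sum_filter]
  exact (Finset.sum_subtype (Finset.univ.filter (fun m => d m = i)) (by simp) (fun m => g (z0 d hd l) (z0 d hd m) * h (z0 d hd m) (z0 d hd k)))

theorem BL_one (i : ℕ) : BL d hd i (1 : Matrix (I d) (I d) F) = 1 := by
  ext ⟨l, hl⟩ ⟨k, hk⟩
  unfold BL
  rw [Matrix.of_apply, Matrix.one_apply, Matrix.one_apply]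
  congr 1
  rw [eq_iff_iff]
  constructor
  · intro h
    exact Subtype.ext (congrArg Sigma.fst h)
  · intro h
    have : l = k := congrArg Subtype.val h
    subst this; rfl

/-- forms `G0 * g` -/
theorem BT_G0 {g : Matrix (I d) (I d) F} (hg : Cm d g) (i : ℕ) : BT d hd i (G0 d F * g) = BL d hd i g := by
  obtain ⟨w, hw, rfl, -⟩ := hg.mat hd
  ext ⟨l, hl⟩ ⟨k, hk⟩
  unfold BT BL
  rw [Matrix.of_apply, Matrix.of_apply]
  have h1 := entry_left d hd ⟨w, hw⟩ l k
  rw [Phi_coe] at h1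
  rw [h1]
  unfold H48.JTCent.mat
  rw [Matrix.of_apply, dif_pos (le_refl _)]
  rfl

include hd in
theorem exists_G0 {M : Matrix (I d) (I d) F} (hM : M ∈ Mf d F) : ∃ g, Cm d g ∧ M = G0 d F * g := by
  obtain ⟨w, hw⟩ := (Phi_bijective d hd).2 ⟨M, hM⟩
  refine ⟨H48.JTCent.mat d w.1, Cm.of_mat w.2, ?_⟩
  rw [← Phi_coe, hw]

theorem G0_mem {g : Matrix (I d) (I d) F} (hg : Cm d g) : G0 d F * g ∈ Mf d F := by
  rw [mem_Mf, ← mul_assoc, mul_assoc, hg, ← mul_assoc, G0_inv]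

theorem congr_mem {h M : Matrix (I d) (I d) F} (hh : Cm d h) (hM : M ∈ Mf d F) : hᵀ * M * h ∈ Mf d F := by
  rw [mem_Mf] at hM ⊢
  have h1 : (Cfsg.jordanTypeMatrix d F)ᵀ * hᵀ = hᵀ * (Cfsg.jordanTypeMatrix d F)ᵀ := by
    rw [← Matrix.transpose_mul, ← Matrix.transpose_mul, hh]
  calc (Cfsg.jordanTypeMatrix d F)ᵀ * (hᵀ * M * h) * Cfsg.jordanTypeMatrix d F
      = ((Cfsg.jordanTypeMatrix d F)ᵀ * hᵀ) * M * (h * Cfsg.jordanTypeMatrix d F) := by simp only [mul_assoc]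
    _ = hᵀ * ((Cfsg.jordanTypeMatrix d F)ᵀ * M * Cfsg.jordanTypeMatrix d F) * h := by rw [h1, hh]; simp only [mul_assoc]
    _ = _ := by rw [hM]

theorem tr_G0_mem {h : Matrix (I d) (I d) F} (hh : Cm d h) : hᵀ * G0 d F ∈ Mf d F := by
  rw [mem_Mf]
  have h1 : (Cfsg.jordanTypeMatrix d F)ᵀ * hᵀ = hᵀ * (Cfsg.jordanTypeMatrix d F)ᵀ := by
    rw [← Matrix.transpose_mul, ← Matrix.transpose_mul, hh]
  rw [← mul_assoc, h1, mul_assoc, mul_assoc, ← mul_assoc _ (G0 d F), G0_inv]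

theorem BT_tr_G0 {h : Matrix (I d) (I d) F} (hh : Cm d h) (i : ℕ) : BT d hd i (hᵀ * G0 d F) = (BL d hd i h)ᵀ := by
  classical
  ext ⟨l, hl⟩ ⟨k, hk⟩
  unfold BT BL
  rw [Matrix.of_apply, Matrix.transpose_apply, Matrix.of_apply, Matrix.mul_apply]
  rw [Finset.sum_eq_single (tp d hd k)]
  · have hG : (G0 d F) (tp d hd k) (z0 d hd k) = 1 := by
      show (if k = k then ((H48.JTForm.bz (d k) (d k - 1) 0 : ℤ) : F) else 0) = 1
      rw [if_pos rfl, H48.JTForm.bz_anti (by have := hd k; omega)]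
      simp
    rw [Matrix.transpose_apply, hh.col_top hd k l (hk.trans hl.symm), if_pos rfl, hG, mul_one]
  · rintro ⟨m, j⟩ _ hne
    unfold G0 H48.JTForm.G
    rw [Matrix.of_apply, Matrix.transpose_apply]
    split_ifs with h1
    · have h2 : k = m := h1
      subst h2
      rw [hh.col_top hd k l (hk.trans hl.symm), if_neg, zero_mul]
      intro h3
      apply hne
      show (⟨k, j⟩ : I d) = ⟨k, ⟨d k - 1, _⟩⟩
      congr 1
      exact Fin.ext h3
    · rw [mul_zero]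
  · intro h; exact absurd (Finset.mem_univ _) h

theorem BT_congr {h M : Matrix (I d) (I d) F} (hh : Cm d h) (hM : M ∈ Mf d F) (i : ℕ) :
    BT d hd i (hᵀ * M * h) = (BL d hd i h)ᵀ * BT d hd i M * BL d hd i h := by
  obtain ⟨g, hg, rfl⟩ := exists_G0 hd hM
  obtain ⟨g', hg', hgg⟩ := exists_G0 hd (tr_G0_mem hh)
  have h1 : hᵀ * (G0 d F * g) * h = G0 d F * (g' * g * h) := by
    rw [← mul_assoc, hgg]; simp only [mul_assoc]
  rw [h1, BT_G0 hd ((hg'.mul hg).mul hh), BL_mul hd (hg'.mul hg) hh, BL_mul hd hg' hg, BT_G0 hd hg]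
  have h2 := BT_tr_G0 hd hh i
  rw [hgg, BT_G0 hd hg'] at h2
  rw [h2]

/-- symmetry of the blocks -/
theorem BT_symm {M : Matrix (I d) (I d) F} (hM : M ∈ Mf d F) {ε : F} (hε : Mᵀ = ε • M) (i : ℕ) :
    (BT d hd i M)ᵀ = (ε * (-1) ^ (i - 1)) • BT d hd i M := by
  ext ⟨l, hl⟩ ⟨k, hk⟩
  unfold BT
  rw [Matrix.transpose_apply, Matrix.smul_apply, Matrix.of_apply, Matrix.of_apply]
  obtain ⟨w, hw⟩ := (Phi_bijective d hd).2 ⟨M, hM⟩
  have h0 : (Phi d w : Matrix (I d) (I d) F) = M := congrArg Subtype.val hw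
  have h1 := entry_left d hd w
  have h2 := entry_right d hd w
  rw [h0] at h1 h2
  have h3 : M (tp d hd k) (z0 d hd l) = ε * M (z0 d hd l) (tp d hd k) := by
    have := congrFun (congrFun hε (z0 d hd l)) (tp d hd k)
    rw [Matrix.transpose_apply, Matrix.smul_apply, smul_eq_mul] at this
    exact this
  show M (tp d hd k) (z0 d hd l) = (ε * (-1) ^ (i - 1)) • M (tp d hd l) (z0 d hd k)
  have e : ((-1 : F)) ^ (d l - 1) = (-1) ^ (i - 1) := by rw [hl]
  rw [h3, h2 l k (hl.trans hk.symm), h1 l k, smul_eq_mul, e]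
  ring

/-- non-degeneracy by blocks -/
theorem det_BT {M : Matrix (I d) (I d) F} (hM : M ∈ Mf d F) : M.det ≠ 0 ↔ ∀ i, (BT d hd i M).det ≠ 0 := by
  classical
  have hD : ∀ k, d k < Finset.univ.sup d + 1 := fun k => Nat.lt_succ_of_le (Finset.le_sup (Finset.mem_univ k))
  rw [det_iff d hd _ hD ⟨M, hM⟩]
  constructor
  · intro h i
    by_cases hi : i < Finset.univ.sup d + 1
    · exact h ⟨i, hi⟩
    · haveI : IsEmpty {k : Fin t // d k = i} := ⟨fun k => hi (k.2 ▸ hD k.1)⟩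
      rw [Matrix.det_isEmpty]
      exact one_ne_zero
  · intro h i
    exact h i

theorem det_BL {g : Matrix (I d) (I d) F} (hg : Cm d g) : g.det ≠ 0 ↔ ∀ i, (BL d hd i g).det ≠ 0 := by
  have h1 := det_BT hd (G0_mem hg)
  rw [Matrix.det_mul, mul_ne_zero_iff, and_iff_right (G0_det d)] at h1
  rw [h1]
  refine forall_congr' fun i => ?_
  rw [BT_G0 hd hg]

/-- prescribed blocks -/
theorem exists_BL (P : (i : ℕ) → Matrix {k : Fin t // d k = i} {k : Fin t // d k = i} F) :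
    ∃ g, Cm d g ∧ ∀ i, BL d hd i g = P i := by
  classical
  have hD : ∀ k, d k < Finset.univ.sup d + 1 := fun k => Nat.lt_succ_of_le (Finset.le_sup (Finset.mem_univ k))
  obtain ⟨w, hw⟩ := beta_surjective d hd _ hD (fun i => P i)
  refine ⟨H48.JTCent.mat d w.1, Cm.of_mat w.2, ?_⟩
  intro i
  by_cases hi : i < Finset.univ.sup d + 1
  · have h1 := congrFun hw ⟨i, hi⟩
    ext ⟨l, hl⟩ ⟨k, hk⟩
    have h2 := congrFun (congrFun h1 ⟨l, hl⟩) ⟨k, hk⟩
    unfold BL
    rw [Matrix.of_apply]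
    unfold H48.JTCent.mat
    rw [Matrix.of_apply, dif_pos (le_refl _)]
    exact h2
  · haveI : IsEmpty {k : Fin t // d k = i} := ⟨fun k => hi (k.2 ▸ hD k.1)⟩
    ext a
    exact isEmptyElim a

end H46.UniForm
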