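import Mathlib
import Cfsg.Agent.Lib.H46.TyReal
import Cfsg.Agent.Lib.H48.Unip
import Cfsg.Agent.Lib.H48.Jordan
import Cfsg.Agent.Lib.H46.UniForm

/-! The type of a scalar multiple of a Jordan matrix. -/

set_option autoImplicit false

namespace H46.JordTy

open Polynomial H48.SimStruct H46.TyAlg H46.TyCount H46.TyReal Matrix H49.GUUnip

universe u

variable {F : Type u} [Field F] {t : ℕ} (d : Fin t → ℕ)

/-- labels -/
noncomputable def lab (c : F) (k : ULift.{u} (Fin t)) : F[X] × ℕ := (X - C c, d k.down)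

theorem adm_lab (hd : ∀ k, 1 ≤ d k) (c : F) (k : ULift.{u} (Fin t)) : Adm (lab d c k) := ⟨monic_X_sub_C c, irreducible_X_sub_C c, hd _⟩

/-- number of blocks -/
def mu (e : ℕ) : ℕ := Fintype.card {k : Fin t // d k = e}

theorem tyf_lab (c : F) (e : ℕ) : tyf (lab d c) e = (X - C c) ^ mu d e := by
  classical
  unfold tyf lab
  simp only
  rw [Finset.prod_ite, Finset.prod_const_one, mul_one, Finset.prod_const]
  congr 1
  unfold mu
  rw [← Fintype.card_subtype]
  exact Fintype.card_congr (Equiv.subtypeEquiv Equiv.ulift (fun a => Iff.rfl))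

/-- multiplication by `X` on the sum of cyclic modules -/
noncomputable def SX (c : F) : (∀ k, Cyc (lab d c k)) →ₗ[F] (∀ k, Cyc (lab d c k)) :=
  (LinearMap.lsmul F[X] (∀ k, Cyc (lab d c k)) X).restrictScalars F

theorem isTy_SX (hd : ∀ k, 1 ≤ d k) (c : F) : IsTy (SX d c) (fun e => (X - C c) ^ mu d e) := by
  refine ⟨ULift.{u} (Fin t), inferInstance, lab d c, adm_lab d hd c, ⟨?_⟩, ?_⟩
  · exact LinearEquiv.ofAEval _ (LinearEquiv.refl F (∀ k, Cyc (lab d c k))) (by intro m; rfl)
  · funext e; exact (tyf_lab d c e).symm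

theorem finrank_SX (hd : ∀ k, 1 ≤ d k) (c : F) {p : F[X]} (hp : p.Monic) (hpi : Irreducible p) (k : ℕ) [DecidableEq F[X]] :
    Module.finrank F (LinearMap.ker (aeval (SX d c) (p ^ k))) = (if X - C c = p then ∑ j, min k (d j) else 0) := by
  have E : Module.AEval' (SX d c) ≃ₗ[F[X]] (∀ k, Cyc (lab d c k)) := LinearEquiv.ofAEval _ (LinearEquiv.refl F (∀ k, Cyc (lab d c k))) (by intro m; rfl)
  rw [← kd_struct (adm_lab d hd c) E]
  have h1 : ∀ i, kd (Cyc (lab d c i)) (p ^ k) = if X - C c = p then min k (d i.down) else 0 := by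
    intro i
    have h2 := kd_cyc (adm_lab d hd c i) hp hpi k
    rw [h2]
    by_cases h : X - C c = p
    · subst h
      rw [if_pos (show (lab d c i).1 = X - C c from rfl), if_pos rfl, natDegree_X_sub_C, mul_one]; rfl
    · rw [if_neg (show ¬ (lab d c i).1 = p from h), if_neg h, zero_mul]
  rw [Finset.sum_congr rfl (fun i _ => h1 i)]
  split_ifs
  · exact Fintype.sum_equiv Equiv.ulift _ _ (fun i => rfl)
  · exact Finset.sum_const_zero

theorem finrank_ker_add {n : Type*} [Fintype n] [DecidableEq n] (A : Matrix n n F) (r : F[X]) :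
    Module.finrank F (LinearMap.ker (aeval (Matrix.toLin' A) r)) + (aeval A r).rank = Fintype.card n := by
  have h1 : aeval (Matrix.toLin' A) r = Matrix.toLin' (aeval A r) := by
    have := Polynomial.aeval_algHom_apply (Matrix.toLinAlgEquiv' : Matrix n n F ≃ₐ[F] _).toAlgHom A r
    exact this
  have h2 := LinearMap.finrank_range_add_finrank_ker (Matrix.toLin' (aeval A r))
  rw [Module.finrank_fintype_fun_eq_card] at h2
  rw [h1]
  have h3 : (aeval A r).rank = Module.finrank F (LinearMap.range (Matrix.toLin' (aeval A r))) := rfl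
  rw [h3]
  omega

theorem rank_jord {c : F} (hc : c ≠ 0) (k : ℕ) : (aeval (c • Cfsg.jordanTypeMatrix d F) ((X - C c) ^ k)).rank = ∑ j, (d j - k) := by
  rw [← H48.Jordan.rank_jordanType (F := F) d k]
  have h1 : aeval (c • Cfsg.jordanTypeMatrix d F) ((X - C c) ^ k) = c ^ k • (Cfsg.jordanTypeMatrix d F - 1) ^ k := by
    rw [map_pow, map_sub, aeval_X, aeval_C, Algebra.algebraMap_eq_smul_one, ← smul_sub, _root_.smul_pow]
  rw [h1]
  have h2 : c ^ k • (Cfsg.jordanTypeMatrix d F - 1) ^ k = (c ^ k • (1 : Matrix (I d) (I d) F)) * (Cfsg.jordanTypeMatrix d F - 1) ^ k := by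
    rw [smul_mul_assoc, one_mul]
  rw [h2, rank_mul_eq_right_of_isUnit_det]
  rw [Matrix.det_smul, Matrix.det_one, mul_one]
  exact ((IsUnit.mk0 c hc).pow k).pow _

theorem card_I : Fintype.card (I d) = ∑ j, d j := by
  rw [Fintype.card_sigma]
  simp

/-- the type of a scalar multiple of a Jordan matrix -/
theorem isTy_jord (hd : ∀ k, 1 ≤ d k) {c : F} (hc : c ≠ 0) :
    IsTy (Matrix.toLin' (c • Cfsg.jordanTypeMatrix d F)) (fun e => (X - C c) ^ mu d e) := by
  classical
  haveI : ∀ k, FiniteDimensional F (Cyc (lab d c k)) := fun k => finite_cyc (adm_lab d hd c k).1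
  obtain ⟨e, he⟩ := exists_conj_of_finrank_ker (T := SX d c) (S := Matrix.toLin' (c • Cfsg.jordanTypeMatrix d F)) (fun p hp hpi k => by
    rw [finrank_SX d hd c hp hpi k]
    have h1 : Module.finrank F (LinearMap.ker (aeval (Matrix.toLin' (c • Cfsg.jordanTypeMatrix d F)) (p ^ k))) +
      (aeval (c • Cfsg.jordanTypeMatrix d F) (p ^ k)).rank = Fintype.card (I d) := finrank_ker_add (c • Cfsg.jordanTypeMatrix d F) (p ^ k)
    by_cases h : X - C c = p
    · rw [if_pos h]
      rw [← h] at h1 ⊢
      rw [rank_jord d hc, card_I] at h1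
      have h2 : ∑ j, d j = ∑ j, min k (d j) + ∑ j, (d j - k) := by
        rw [← Finset.sum_add_distrib]
        refine Finset.sum_congr rfl fun j _ => ?_
        omega
      omega
    · rw [if_neg h]
      have hz : aeval (c • Cfsg.jordanTypeMatrix d F) ((X - C c) ^ (∑ j, d j)) = 0 := by
        have h3 := rank_jord (F := F) d hc (∑ j, d j)
        have h4 : ∑ j, (d j - ∑ j, d j) = 0 := by
          apply Finset.sum_eq_zero
          intro j _
          have := Finset.single_le_sum (f := d) (fun _ _ => Nat.zero_le _) (Finset.mem_univ j)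
          omega
        rw [h4] at h3
        exact H48.Jordan.eq_zero_of_rank h3
      have hu := H48.Unip.isUnit_aeval_of_coprime (A := c • Cfsg.jordanTypeMatrix d F) (r := p ^ k) (s := (X - C c) ^ (∑ j, d j))
        ((isCoprime_of_ne hp (monic_X_sub_C c) hpi (irreducible_X_sub_C c) (fun h' => h h'.symm)).pow) hz
      have h3 : (aeval (c • Cfsg.jordanTypeMatrix d F) (p ^ k)).rank = Fintype.card (I d) :=
        Matrix.rank_of_isUnit _ hu
      omega)
  exact isTy_of_conj (isTy_SX d hd c) e he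

end H46.JordTy
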