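import Mathlib
import Cfsg.Agent.Lib.H46.UniForm

/-! Invariant bilinear forms of a unipotent matrix: equivalence. -/

set_option autoImplicit false

namespace H46.UniForm

open Matrix H48.JTCent H49.GUUnip

variable {F : Type*} [Field F] {t : ℕ} {d : Fin t → ℕ} (hd : ∀ k, 1 ≤ d k)

/-- commuting matrices with trivial blocks -/
def K1 (F : Type*) [Field F] : Subgroup (GL (I d) F) where
  carrier := {a | Cm d (a : Matrix (I d) (I d) F) ∧ ∀ i, BL d hd i (a : Matrix (I d) (I d) F) = 1}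
  one_mem' := ⟨Cm.one, fun i => BL_one hd i⟩
  mul_mem' := by
    rintro a b ⟨ha1, ha2⟩ ⟨hb1, hb2⟩
    refine ⟨ha1.mul hb1, fun i => ?_⟩
    rw [Units.val_mul, BL_mul hd ha1 hb1, ha2, hb2, one_mul]
  inv_mem' := by
    rintro a ⟨ha1, ha2⟩
    have h1 : (a : Matrix (I d) (I d) F) * ((a⁻¹ : GL (I d) F) : Matrix (I d) (I d) F) = 1 := by
      rw [← Units.val_mul, mul_inv_cancel]; rfl
    have h2 := ha1.inv h1
    refine ⟨h2, fun i => ?_⟩
    have h3 := BL_mul hd ha1 h2 i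
    rw [h1, BL_one, ha2, one_mul] at h3
    exact h3.symm

theorem BL_mat (w : (k l : Fin t) → Fin (d l) → F) (i : ℕ) : BL d hd i (H48.JTCent.mat d w) = blk d hd w i := by
  ext ⟨l, hl⟩ ⟨k, hk⟩
  unfold BL blk
  rw [Matrix.of_apply, Matrix.of_apply]
  unfold H48.JTCent.mat
  rw [Matrix.of_apply, dif_pos (le_refl _)]
  rfl

theorem odd_card_K1 [Finite F] (hodd : Odd (Nat.card F)) : Odd (Nat.card (K1 hd F)) := by
  classical
  haveI : Fintype F := Fintype.ofFinite F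
  have hD : ∀ k, d k < Finset.univ.sup d + 1 := fun k => Nat.lt_succ_of_le (Finset.le_sup (Finset.mem_univ k))
  set D := Finset.univ.sup d + 1 with hDdef
  have h1 := card_fiber (beta (F := F) d hd D) (beta_surjective d hd D hD) (fun y => y = 1)
  have h2 : Nat.card {y : (i : Fin D) → Matrix {k : Fin t // d k = i} {k : Fin t // d k = i} F // y = 1} = 1 := by
    rw [Nat.card_unique]
  rw [h2, mul_one] at h1
  have hall : ∀ w : X d F, beta d hd D w = 1 → ∀ i, BL d hd i (H48.JTCent.mat d w.1) = 1 := by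
    intro w hw i
    rw [BL_mat]
    by_cases hi : i < D
    · exact congrFun hw ⟨i, hi⟩
    · haveI : IsEmpty {k : Fin t // d k = i} := ⟨fun k => hi (k.2 ▸ hD k.1)⟩
      ext a
      exact isEmptyElim a
  have h3 : Nat.card (K1 hd F) = Nat.card {x : X d F // beta d hd D x = 1} := by
    symm
    refine Nat.card_congr (Equiv.ofBijective (fun w => (⟨GeneralLinearGroup.mkOfDetNeZero (H48.JTCent.mat d w.1.1) ?_, ?_⟩ : K1 hd F)) ⟨?_, ?_⟩)
    · rw [det_BL hd (Cm.of_mat w.1.2)]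
      intro i
      rw [hall w.1 w.2 i, Matrix.det_one]
      exact one_ne_zero
    · exact ⟨Cm.of_mat w.1.2, hall w.1 w.2⟩
    · intro w w' h
      have h4 : H48.JTCent.mat d w.1.1 = H48.JTCent.mat d w'.1.1 := congrArg (fun g : K1 hd F => ((g : GL (I d) F) : Matrix (I d) (I d) F)) h
      apply Subtype.ext
      apply Subtype.ext
      funext k l j
      have h5 := congrFun (congrFun h4 ⟨l, j⟩) ⟨k, ⟨0, hd k⟩⟩
      simpa [H48.JTCent.mat] using h5
    · rintro ⟨g, hg1, hg2⟩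
      obtain ⟨w, hw, h4, h5⟩ := hg1.mat hd
      refine ⟨⟨⟨w, hw⟩, ?_⟩, ?_⟩
      · funext i
        show blk d hd w i = 1
        rw [← BL_mat hd w i, h4]
        exact hg2 i
      · apply Subtype.ext
        apply Units.ext
        exact h4
  rw [h3]
  have h4 : Nat.card {x : X d F // beta d hd D x = 1} ∣ Nat.card (X d F) := Dvd.intro _ h1
  rw [card_X, ← Nat.card_eq_fintype_card] at h4
  exact Odd.of_dvd_nat (hodd.pow) h4

/-- unipotent elements of the commutant have odd order -/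
theorem exists_odd [Finite F] (hodd : Odd (Nat.card F)) {a : Matrix (I d) (I d) F} (ha : Cm d a) (h1 : ∀ i, BL d hd i a = 1) :
    ∃ n, a ^ (2 * n + 1) = 1 := by
  have hdet : a.det ≠ 0 := by
    rw [det_BL hd ha]
    intro i
    rw [h1, Matrix.det_one]; exact one_ne_zero
  let g : K1 hd F := ⟨GeneralLinearGroup.mkOfDetNeZero a hdet, ha, h1⟩
  have hfin : Finite (K1 hd F) := inferInstance
  obtain ⟨n, hn⟩ := odd_card_K1 hd hodd
  refine ⟨n, ?_⟩
  have h2 : g ^ Nat.card (K1 hd F) = 1 := pow_card_eq_one'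
  rw [hn] at h2
  exact congrArg (fun g : K1 hd F => ((g : GL (I d) F) : Matrix (I d) (I d) F)) h2

/-- square roots of odd order elements -/
theorem congr_of_odd {ι : Type*} [Fintype ι] [DecidableEq ι] {M M' a : Matrix ι ι F} {ε : F} (hε : ε ≠ 0) (hM : Mᵀ = ε • M) (hM' : M'ᵀ = ε • M')
    (h : M * a = M') {n : ℕ} (ha : a ^ (2 * n + 1) = 1) : (a ^ (n + 1))ᵀ * M * a ^ (n + 1) = M' := by
  have h1 : aᵀ * M = M * a := by
    have h2 := congrArg Matrix.transpose h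
    rw [Matrix.transpose_mul, hM, hM', ← h, mul_smul_comm] at h2
    exact smul_right_injective _ hε h2
  have h3 : ∀ k, (a ^ k)ᵀ * M = M * a ^ k := by
    intro k
    induction k with
    | zero => rw [pow_zero, Matrix.transpose_one, one_mul, mul_one]
    | succ k ih =>
      rw [pow_succ, Matrix.transpose_mul, mul_assoc, ih, ← mul_assoc, h1, mul_assoc, ← pow_succ', pow_succ]
  rw [h3, mul_assoc, ← pow_add]
  have h4 : n + 1 + (n + 1) = (2 * n + 1) + 1 := by ring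
  rw [h4, pow_succ, ha, one_mul, h]

/-- equivalence of forms whose blocks are congruent -/
theorem exists_congr [Finite F] (hodd : Odd (Nat.card F)) {M M' : Matrix (I d) (I d) F} {ε : F} (hε : ε ≠ 0) (hM : M ∈ Mf d F) (hM' : M' ∈ Mf d F)
    (hs : Mᵀ = ε • M) (hs' : M'ᵀ = ε • M') (hdet : M.det ≠ 0) (hdet' : M'.det ≠ 0)
    (h : ∀ i, ∃ P : Matrix {k : Fin t // d k = i} {k : Fin t // d k = i} F, P.det ≠ 0 ∧ Pᵀ * BT d hd i M * P = BT d hd i M') :
    ∃ g : Matrix (I d) (I d) F, Cm d g ∧ g.det ≠ 0 ∧ gᵀ * M * g = M' := by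
  choose P hP1 hP2 using h
  obtain ⟨g, hg, hgP⟩ := exists_BL hd P
  have hgdet : g.det ≠ 0 := by
    rw [det_BL hd hg]
    intro i
    rw [hgP]; exact hP1 i
  obtain ⟨M₁, hM₁⟩ : ∃ M₁, M₁ = gᵀ * M * g := ⟨_, rfl⟩
  have h1 : M₁ ∈ Mf d F := hM₁ ▸ congr_mem hg hM
  have h2 : ∀ i, BT d hd i M₁ = BT d hd i M' := by
    intro i
    rw [hM₁, BT_congr hd hg hM, hgP, hP2]
  have hdet₁ : M₁.det ≠ 0 := by
    rw [hM₁, Matrix.det_mul, Matrix.det_mul, Matrix.det_transpose]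
    exact mul_ne_zero (mul_ne_zero hgdet hdet) hgdet
  have hs₁ : M₁ᵀ = ε • M₁ := by
    rw [hM₁, Matrix.transpose_mul, Matrix.transpose_mul, Matrix.transpose_transpose, hs, smul_mul_assoc, mul_smul_comm, mul_assoc]
  obtain ⟨g₁, hg₁, e₁⟩ := exists_G0 hd h1
  obtain ⟨g₂, hg₂, e₂⟩ := exists_G0 hd hM'
  have hg₁det : IsUnit g₁.det := by
    rw [e₁, Matrix.det_mul] at hdet₁
    exact IsUnit.mk0 _ (right_ne_zero_of_mul hdet₁)
  have hinv : g₁ * g₁⁻¹ = 1 := Matrix.mul_nonsing_inv _ hg₁det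
  have hc : Cm d (g₁⁻¹ * g₂) := (hg₁.inv hinv).mul hg₂
  have ha : M₁ * (g₁⁻¹ * g₂) = M' := by
    rw [e₁, e₂]
    calc G0 d F * g₁ * (g₁⁻¹ * g₂) = G0 d F * (g₁ * g₁⁻¹) * g₂ := by simp only [mul_assoc]
      _ = _ := by rw [hinv, mul_one]
  have hBL : ∀ i, BL d hd i (g₁⁻¹ * g₂) = 1 := by
    intro i
    have h3 := h2 i
    rw [e₁, e₂, BT_G0 hd hg₁, BT_G0 hd hg₂] at h3
    rw [BL_mul hd (hg₁.inv hinv) hg₂, ← h3, ← BL_mul hd (hg₁.inv hinv) hg₁, mul_eq_one_comm.mp hinv, BL_one]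
  obtain ⟨n, hn⟩ := exists_odd hd hodd hc hBL
  have h4 := congr_of_odd hε hs₁ hs' ha hn
  have hcp : Cm d ((g₁⁻¹ * g₂) ^ (n + 1)) := by
    have : ∀ k, Cm d ((g₁⁻¹ * g₂) ^ k) := by
      intro k
      induction k with
      | zero => rw [pow_zero]; exact Cm.one
      | succ k ih => rw [pow_succ]; exact ih.mul hc
    exact this _
  refine ⟨g * (g₁⁻¹ * g₂) ^ (n + 1), hg.mul hcp, ?_, ?_⟩
  · rw [Matrix.det_mul, Matrix.det_pow]
    refine mul_ne_zero hgdet (pow_ne_zero _ ?_)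
    rw [det_BL hd hc]
    intro i
    rw [hBL, Matrix.det_one]; exact one_ne_zero
  · rw [Matrix.transpose_mul]
    calc ((g₁⁻¹ * g₂) ^ (n + 1))ᵀ * gᵀ * M * (g * (g₁⁻¹ * g₂) ^ (n + 1))
        = ((g₁⁻¹ * g₂) ^ (n + 1))ᵀ * (gᵀ * M * g) * (g₁⁻¹ * g₂) ^ (n + 1) := by simp only [mul_assoc]
      _ = _ := by rw [← hM₁, h4]

end H46.UniForm
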