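import Mathlib
import Cfsg.Agent.Lib.H46.UniForm2
import Cfsg.Agent.Lib.H46.BlockCongr
import Cfsg.Agent.Lib.H46.JordTy

/-! Invariant bilinear forms: splitting off the eigenvalues `1`, `-1`. -/

set_option autoImplicit false

namespace H46.FormSplit

open Matrix Module H49.FormConj2 H49.FormConj3 H46.UniForm H46.BlockCongr H49.GUUnip

variable {F : Type*} [Field F]

/-- non-degenerate `ε`-symmetric forms invariant under `T` -/
structure IF {V : Type*} [AddCommGroup V] [Module F V] (T : V →ₗ[F] V) (ε : F) (f : LinearMap.BilinForm F V) : Prop where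
  nd : NDB f
  symm : ∀ u v, f u v = ε * f v u
  inv : ∀ u v, f (T u) (T v) = f u v

section prod
variable {V W : Type*} [AddCommGroup V] [Module F V] [AddCommGroup W] [Module F W]

/-- restriction to the first factor -/
def r1 (f : LinearMap.BilinForm F (V × W)) : LinearMap.BilinForm F V := f.comp (LinearMap.inl F V W) (LinearMap.inl F V W)

/-- restriction to the second factor -/
def r2 (f : LinearMap.BilinForm F (V × W)) : LinearMap.BilinForm F W := f.comp (LinearMap.inr F V W) (LinearMap.inr F V W)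

theorem r1_apply (f : LinearMap.BilinForm F (V × W)) (u v : V) : r1 f u v = f (u, 0) (v, 0) := rfl

theorem r2_apply (f : LinearMap.BilinForm F (V × W)) (u v : W) : r2 f u v = f (0, u) (0, v) := rfl

theorem apply_eq (f : LinearMap.BilinForm F (V × W)) (h : ∀ v w, f (v, 0) (0, w) = 0) (h' : ∀ v w, f (0, w) (v, 0) = 0) (x y : V × W) :
    f x y = r1 f x.1 y.1 + r2 f x.2 y.2 := by
  obtain ⟨a, b⟩ := x
  obtain ⟨c, d⟩ := y
  have e1 : ((a, b) : V × W) = (a, 0) + (0, b) := by simp
  have e2 : ((c, d) : V × W) = (c, 0) + (0, d) := by simp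
  have e3 : f ((a, 0) + (0, b)) ((c, 0) + (0, d)) = f (a, 0) (c, 0) + f (0, b) (0, d) := by
    rw [LinearMap.map_add₂, map_add, map_add, h, h', add_zero, zero_add]
  rw [← e1, ← e2] at e3
  exact e3

theorem eqv_prod {A : V →ₗ[F] V} {B : W →ₗ[F] W} {f f' : LinearMap.BilinForm F (V × W)}
    (h : ∀ v w, f (v, 0) (0, w) = 0) (h' : ∀ v w, f (0, w) (v, 0) = 0)
    (k : ∀ v w, f' (v, 0) (0, w) = 0) (k' : ∀ v w, f' (0, w) (v, 0) = 0)
    (h1 : Eqv A (r1 f) (r1 f')) (h2 : Eqv B (r2 f) (r2 f')) : Eqv (A.prodMap B) f f' := by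
  obtain ⟨y, hy1, hy2⟩ := h1
  obtain ⟨z, hz1, hz2⟩ := h2
  refine ⟨y.prodCongr z, ?_, ?_⟩
  · rintro ⟨a, b⟩
    apply Prod.ext
    · exact hy1 a
    · exact hz1 b
  · intro u v
    rw [apply_eq f h h', apply_eq f' k k', ← hy2, ← hz2]
    rfl

/-- orthogonality of the two factors -/
theorem cross_zero {A : V →ₗ[F] V} {B : W →ₗ[F] W} {f : LinearMap.BilinForm F (V × W)} (hinv : ∀ u v, f (A.prodMap B u) (A.prodMap B v) = f u v)
    {c : F} (hc : c * c = 1) (N : ℕ) (hA : ∀ v, ((A - c • LinearMap.id : V →ₗ[F] V) ^ N) v = 0) (hB : Function.Surjective (B - c • (LinearMap.id : W →ₗ[F] W))) (v : V) (w : W) :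
    f (v, 0) (0, w) = 0 := by
  have key : ∀ (N : ℕ) (v : V), ((A - c • LinearMap.id : V →ₗ[F] V) ^ N) v = 0 → ∀ w, f (v, 0) (0, w) = 0 := by
    intro N
    induction N with
    | zero =>
      intro v hv w
      have : v = 0 := hv
      rw [this]
      have h0 : ((0, 0) : V × W) = 0 := rfl
      rw [h0, map_zero, LinearMap.zero_apply]
    | succ N ih =>
      intro v hv w
      have h1 : ∀ w, f ((A - c • LinearMap.id : V →ₗ[F] V) v, 0) (0, w) = 0 := by
        apply ih
        rw [pow_succ] at hv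
        exact hv
      obtain ⟨w', rfl⟩ := hB w
      have h2 := hinv (v, 0) (0, w')
      have e1 : A.prodMap B (v, 0) = ((A - c • LinearMap.id : V →ₗ[F] V) v, 0) + c • (v, 0) := by
        apply Prod.ext
        · simp
        · simp
      have e2 : A.prodMap B (0, w') = (0, B w') := by
        apply Prod.ext
        · simp
        · simp
      rw [e1, e2, map_add, LinearMap.add_apply, h1, zero_add, map_smul, LinearMap.smul_apply, smul_eq_mul] at h2
      have e3 : ((0, (B - c • (LinearMap.id : W →ₗ[F] W)) w') : V × W) = (0, B w') - c • (0, w') := by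
        apply Prod.ext
        · simp
        · simp
      rw [e3, map_sub, map_smul, smul_eq_mul, ← h2, ← mul_assoc, hc, one_mul, sub_self]
  exact key N v (hA v) w

theorem IF.r1 {A : V →ₗ[F] V} {B : W →ₗ[F] W} {ε : F} {f : LinearMap.BilinForm F (V × W)} (hf : IF (A.prodMap B) ε f)
    (h : ∀ v w, f (v, 0) (0, w) = 0) : IF A ε (r1 f) where
  nd := by
    intro x hx
    have h1 : ((x, 0) : V × W) = 0 := by
      apply hf.nd
      rintro ⟨a, b⟩
      have e2 : ((a, b) : V × W) = (a, 0) + (0, b) := by simp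
      rw [e2, map_add, h, add_zero]
      exact hx a
    exact congrArg Prod.fst h1
  symm u v := hf.symm _ _
  inv u v := by
    have := hf.inv (u, 0) (v, 0)
    have e : ∀ u, A.prodMap B (u, 0) = (A u, 0) := by intro u; apply Prod.ext <;> simp
    rw [e, e] at this
    exact this

theorem IF.r2 {A : V →ₗ[F] V} {B : W →ₗ[F] W} {ε : F} {f : LinearMap.BilinForm F (V × W)} (hf : IF (A.prodMap B) ε f)
    (h : ∀ v w, f (0, w) (v, 0) = 0) : IF B ε (r2 f) where
  nd := by
    intro x hx
    have h1 : ((0, x) : V × W) = 0 := by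
      apply hf.nd
      rintro ⟨a, b⟩
      have e2 : ((a, b) : V × W) = (a, 0) + (0, b) := by simp
      rw [e2, map_add, h, zero_add]
      exact hx b
    exact congrArg Prod.snd h1
  symm u v := hf.symm _ _
  inv u v := by
    have := hf.inv (0, u) (0, v)
    have e : ∀ u, A.prodMap B (0, u) = (0, B u) := by intro u; apply Prod.ext <;> simp
    rw [e, e] at this
    exact this

end prod

section unip
variable {t : ℕ} {d : Fin t → ℕ} (hd : ∀ k, 1 ≤ d k)

/-- the linear map of a scalar multiple of a Jordan matrix -/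
noncomputable abbrev TJ (d : Fin t → ℕ) (c : F) : (I d → F) →ₗ[F] (I d → F) := Matrix.toLin' (c • Cfsg.jordanTypeMatrix d F)

/-- the matrix of a form -/
noncomputable def mt (f : LinearMap.BilinForm F (I d → F)) : Matrix (I d) (I d) F := LinearMap.BilinForm.toMatrix' f

theorem mt_facts {c ε : F} (hc : c * c = 1) (hε : ε ≠ 0) {f : LinearMap.BilinForm F (I d → F)} (hf : IF (TJ d c) ε f) :
    mt f ∈ Mf d F ∧ (mt f)ᵀ = ε • mt f ∧ (mt f).det ≠ 0 := by
  refine ⟨?_, ?_, ?_⟩
  · have h1 : f.comp (TJ d c) (TJ d c) = f := by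
      apply LinearMap.ext
      intro u
      apply LinearMap.ext
      intro v
      exact hf.inv u v
    have h2 := congrArg LinearMap.BilinForm.toMatrix' h1
    rw [LinearMap.BilinForm.toMatrix'_comp] at h2
    unfold TJ at h2
    rw [LinearMap.toMatrix'_toLin', Matrix.transpose_smul, Matrix.smul_mul, Matrix.smul_mul, Matrix.mul_smul, smul_smul, hc, one_smul] at h2
    exact h2
  · ext i j
    rw [Matrix.transpose_apply, Matrix.smul_apply]
    unfold mt
    rw [LinearMap.BilinForm.toMatrix'_apply, LinearMap.BilinForm.toMatrix'_apply, smul_eq_mul]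
    exact hf.symm _ _
  · have h1 := (LinearMap.BilinForm.nondegenerate_iff_det_ne_zero (B := f) (Pi.basisFun F (I d))).mp ?_
    · exact h1
    · refine ⟨fun x hx => hf.nd x hx, fun x hx => hf.nd x fun y => ?_⟩
      rw [hf.symm, hx y, mul_zero]

end unip

end H46.FormSplit
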