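import Mathlib
import Cfsg.Agent.Lib.H46.OrthDec

/-! Elements of prime order acting without fixed vectors. -/

set_option autoImplicit false

namespace H46.Fpf

open Module H46.ProdUnit H46.ProjOrder

variable {F : Type*} [Field F] {V : Type*} [AddCommGroup V] [Module F V]

/-- fixed vectors -/
def fix (g : Module.End F V) : Submodule F V := LinearMap.ker (g - 1)

/-- commutators -/
def com (g : Module.End F V) : Submodule F V := LinearMap.range (g - 1)

theorem mem_fix {g : Module.End F V} {v : V} : v ∈ fix g ↔ g v = v := by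
  unfold fix
  rw [LinearMap.mem_ker, LinearMap.sub_apply, Module.End.one_apply, sub_eq_zero]

theorem eq_zero_of_mem {g : Module.End F V} {m : ℕ} (hm : (m : F) ≠ 0) (hg : g ^ m = 1) {v : V} (h1 : g v = v) (h2 : v ∈ com g) : v = 0 := by
  obtain ⟨w, rfl⟩ := h2
  have h3 : (∑ i ∈ Finset.range m, g ^ i) * (g - 1) = 0 := by
    rw [geom_sum_mul, hg, sub_self]
  have h4 : (∑ i ∈ Finset.range m, g ^ i) ((g - 1) w) = 0 := by
    rw [← Module.End.mul_apply, h3, LinearMap.zero_apply]
  have h5 : ∀ i : ℕ, (g ^ i) ((g - 1) w) = (g - 1) w := by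
    intro i
    induction i with
    | zero => rfl
    | succ i ih => rw [pow_succ, Module.End.mul_apply, h1, ih]
  rw [LinearMap.sum_apply, Finset.sum_congr rfl (fun i _ => h5 i), Finset.sum_const, Finset.card_range, ← Nat.cast_smul_eq_nsmul F] at h4
  exact (smul_eq_zero.mp h4).resolve_left hm

theorem isCompl [Module.Finite F V] {g : Module.End F V} {m : ℕ} (hm : (m : F) ≠ 0) (hg : g ^ m = 1) : IsCompl (fix g) (com g) := by
  have hd : Disjoint (fix g) (com g) := by
    rw [Submodule.disjoint_def]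
    intro v h1 h2
    exact eq_zero_of_mem hm hg (mem_fix.mp h1) h2
  refine ⟨hd, ?_⟩
  rw [codisjoint_iff]
  refine Submodule.eq_top_of_disjoint (fix g) (com g) (ge_of_eq ?_) hd
  unfold fix com
  rw [add_comm]
  exact LinearMap.finrank_range_add_finrank_ker (g - 1)

theorem com_ne_bot {g : Module.End F V} (hg : g ≠ 1) : com g ≠ ⊥ := by
  intro h
  apply hg
  unfold com at h
  rw [LinearMap.range_eq_bot, sub_eq_zero] at h
  exact h

theorem com_inv {g h : Module.End F V} (hc : Commute h g) : ∀ v ∈ com g, h v ∈ com g := by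
  rintro _ ⟨w, rfl⟩
  refine ⟨h w, ?_⟩
  have : Commute h (g - 1) := hc.sub_right (Commute.one_right h)
  rw [← Module.End.mul_apply, ← Module.End.mul_apply, this.eq]

theorem fix_inv {g h : Module.End F V} (hc : Commute h g) : ∀ v ∈ fix g, h v ∈ fix g := by
  intro v hv
  rw [mem_fix] at hv ⊢
  rw [← Module.End.mul_apply, ← hc.eq, Module.End.mul_apply, hv]

/-- an element of prime order without fixed vectors -/
theorem dvd_card_sub_one [Finite V] (g : (Module.End F V)ˣ) {r : ℕ} (hr : r.Prime) (hg : g ^ r = 1)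
    (hfix : ∀ v, (g : Module.End F V) v = v → v = 0) : r ∣ Nat.card V - 1 := by
  haveI : Fact r.Prime := ⟨hr⟩
  have hP : IsPGroup r (Subgroup.zpowers g) := by
    rintro ⟨_, i, rfl⟩
    refine ⟨1, ?_⟩
    apply Subtype.ext
    show (g ^ i) ^ (r ^ 1) = 1
    rw [pow_one, ← zpow_natCast, ← zpow_mul, mul_comm, zpow_mul, zpow_natCast, hg, one_zpow]
  have h1 := hP.card_modEq_card_fixedPoints V
  have h2 : MulAction.fixedPoints (Subgroup.zpowers g) V = {0} := by
    ext v
    rw [Set.mem_singleton_iff]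
    constructor
    · intro hv
      apply hfix
      exact hv ⟨g, Subgroup.mem_zpowers g⟩
    · rintro rfl
      intro h
      exact map_zero ((h : (Module.End F V)ˣ) : Module.End F V)
  have h3 : Nat.card ({0} : Set V) = 1 := by simp
  rw [h2, h3] at h1
  have hpos : 1 ≤ Nat.card V := Nat.card_pos
  exact (Nat.modEq_iff_dvd' hpos).mp h1.symm

variable [Finite F] [Module.Finite F V]

theorem dvd_of_fpf (g : (Module.End F V)ˣ) {r : ℕ} (hr : r.Prime) (hg : g ^ r = 1)
    (hfix : ∀ v, (g : Module.End F V) v = v → v = 0) : r ∣ Nat.card F ^ finrank F V - 1 := by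
  haveI : Finite V := Module.finite_of_finite F
  rw [← Module.natCard_eq_pow_finrank]
  exact dvd_card_sub_one g hr hg hfix

/-- invariant submodules without fixed vectors -/
theorem dvd_of_inv (g : (Module.End F V)ˣ) {r : ℕ} (hr : r.Prime) (hg : g ^ r = 1) (W : Submodule F V)
    (hW : ∀ v ∈ W, (g : Module.End F V) v ∈ W)
    (hfix : ∀ v ∈ W, (g : Module.End F V) v = v → v = 0) : r ∣ Nat.card F ^ finrank F W - 1 := by
  obtain ⟨w, -, hw⟩ := H46.OrthDec.exists_res g W hW
  apply dvd_of_fpf w hr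
  · apply Units.ext
    rw [Units.val_pow_eq_pow_val]
    ext x
    rw [H46.OrthDec.res_pow hw, ← Units.val_pow_eq_pow_val, hg]
    rfl
  · intro x hx
    apply Subtype.ext
    apply hfix x x.2
    rw [← hw, hx]

theorem orderOf_dvd {r : ℕ} (q d : ℕ) (hq : 0 < q) (h : r ∣ q ^ d - 1) : orderOf (q : ZMod r) ∣ d := by
  rw [orderOf_dvd_iff_pow_eq_one]
  have h1 : 1 ≤ q ^ d := Nat.one_le_pow _ _ hq
  have h2 : ((q ^ d - 1 : ℕ) : ZMod r) = 0 := (ZMod.natCast_eq_zero_iff _ _).mpr h
  rw [Nat.cast_sub h1, Nat.cast_pow, Nat.cast_one, sub_eq_zero] at h2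
  exact h2

theorem dvd_of_orderOf {r : ℕ} (q d : ℕ) (hq : 0 < q) (h : orderOf (q : ZMod r) ∣ d) : r ∣ q ^ d - 1 := by
  rw [orderOf_dvd_iff_pow_eq_one] at h
  have h1 : 1 ≤ q ^ d := Nat.one_le_pow _ _ hq
  rw [← ZMod.natCast_eq_zero_iff, Nat.cast_sub h1, Nat.cast_pow, Nat.cast_one, sub_eq_zero]
  exact h

/-- dimensions of submodules of `com g` -/
theorem orderOf_dvd_finrank (g : (Module.End F V)ˣ) {r : ℕ} (hr : r.Prime) (hrF : (r : F) ≠ 0) (hg : g ^ r = 1) (W : Submodule F V)
    (hW : ∀ v ∈ W, (g : Module.End F V) v ∈ W) (hWc : W ≤ com (g : Module.End F V)) : orderOf ((Nat.card F : ℕ) : ZMod r) ∣ finrank F W := by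
  apply orderOf_dvd _ _ Finite.card_pos
  apply dvd_of_inv g hr hg W hW
  intro v hv h1
  exact eq_zero_of_mem hrF (by rw [← Units.val_pow_eq_pow_val, hg]; rfl) h1 (hWc hv)

end H46.Fpf
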