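import Mathlib
import Cfsg.Agent.Lib.H46.FormSplit

/-! Equivalence of invariant forms: the unipotent parts and the general case. -/

set_option autoImplicit false

namespace H46.SigU

open Matrix Module H49.FormConj2 H49.FormConj3 H46.UniForm H46.BlockCongr H49.GUUnip H46.FormSplit

variable {F : Type*} [Field F]

section unip
variable {t : ℕ} {d : Fin t → ℕ} (hd : ∀ k, 1 ≤ d k)

/-- the sign of a block -/
def sgn (i : ℕ) (f : LinearMap.BilinForm F (I d → F)) : Prop := SqM (BT d hd i (mt f))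

theorem cm_of_smul {c : F} (hc : c ≠ 0) (g : Matrix (I d) (I d) F) (hg : Cm d g) (v : I d → F) :
    TJ d c (Matrix.toLin' g v) = Matrix.toLin' g (TJ d c v) := by
  unfold TJ
  rw [← Matrix.toLin'_mul_apply, ← Matrix.toLin'_mul_apply, Matrix.smul_mul, Matrix.mul_smul, hg]

/-- two invariant forms with the same signs are equivalent -/
theorem unip_eqv [Finite F] (hodd : Odd (Nat.card F)) (h2 : (2 : F) ≠ 0) {c ε : F} (hc : c * c = 1) (hε : ε * ε = 1)
    {f f' : LinearMap.BilinForm F (I d → F)} (hf : IF (TJ d c) ε f) (hf' : IF (TJ d c) ε f')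
    (hs : ∀ i, ε * (-1) ^ (i - 1) = 1 → (∃ k, d k = i) → (sgn hd i f ↔ sgn hd i f')) : Eqv (TJ d c) f f' := by
  have hc0 : c ≠ 0 := by rintro rfl; simp at hc
  have hε0 : ε ≠ 0 := by rintro rfl; simp at hε
  obtain ⟨a1, a2, a3⟩ := mt_facts hc hε0 hf
  obtain ⟨b1, b2, b3⟩ := mt_facts hc hε0 hf'
  obtain ⟨g, hg, hgd, hgM⟩ := exists_congr hd hodd hε0 a1 b1 a2 b2 a3 b3 (by
    intro i
    have e1 := BT_symm hd a1 a2 i
    have e2 := BT_symm hd b1 b2 i
    have n1 := (det_BT hd a1).mp a3 i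
    have n2 := (det_BT hd b1).mp b3 i
    have hu : ε * (-1) ^ (i - 1) = 1 ∨ ε * (-1) ^ (i - 1) = -1 := by
      apply mul_self_eq_one_iff.mp
      rw [mul_mul_mul_comm, hε, ← mul_pow]
      simp
    rcases hu with hu | hu
    · rw [hu, one_smul] at e1 e2
      apply congr_symm h2 e1 e2 n1 n2
      by_cases hk : ∃ k, d k = i
      · exact hs i hu hk
      · haveI : IsEmpty {k : Fin t // d k = i} := ⟨fun k => hk ⟨k.1, k.2⟩⟩
        have : BT d hd i (mt f) = BT d hd i (mt f') := Subsingleton.elim _ _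
        rw [this]
    · rw [hu, neg_one_smul] at e1 e2
      exact congr_alt h2 e1 e2 n1 n2)
  refine ⟨Matrix.toLin'OfInv (M := g⁻¹) (M' := g) (Matrix.nonsing_inv_mul _ (IsUnit.mk0 _ hgd)) (Matrix.mul_nonsing_inv _ (IsUnit.mk0 _ hgd)), ?_, ?_⟩
  · intro v
    exact (cm_of_smul hc0 g hg v).symm
  · intro u v
    have h1 : f.comp (Matrix.toLin' g) (Matrix.toLin' g) = f' := by
      apply LinearMap.BilinForm.toMatrix'.injective
      rw [LinearMap.BilinForm.toMatrix'_comp, LinearMap.toMatrix'_toLin']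
      exact hgM
    rw [← h1]
    rfl

include hd in
/-- existence of an invariant form forces even multiplicities -/
theorem even_mult (h2 : (2 : F) ≠ 0) {c ε : F} (hc : c * c = 1) (hε : ε * ε = 1) {f : LinearMap.BilinForm F (I d → F)} (hf : IF (TJ d c) ε f)
    (i : ℕ) (hi : ε * (-1) ^ (i - 1) = -1) : Even (Fintype.card {k : Fin t // d k = i}) := by
  have hε0 : ε ≠ 0 := by rintro rfl; simp at hε
  obtain ⟨a1, a2, a3⟩ := mt_facts hc hε0 hf
  have e1 := BT_symm hd a1 a2 i
  rw [hi, neg_one_smul] at e1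
  have n1 := (det_BT hd a1).mp a3 i
  by_contra hev
  rw [Nat.not_even_iff_odd] at hev
  have h3 := congrArg Matrix.det e1
  rw [Matrix.det_transpose, Matrix.det_neg, hev.neg_one_pow] at h3
  have h4 : 2 * (BT d hd i (mt f)).det = 0 := by
    rw [two_mul]; nth_rw 1 [h3]; ring
  exact n1 ((mul_eq_zero.mp h4).resolve_left h2)

end unip

end H46.SigU
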