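import Mathlib
import Cfsg.Agent.Lib.H46.SigU

/-! Invariant forms of a general endomorphism: the model. -/

set_option autoImplicit false

namespace H46.SigModel

open Polynomial Module H49.FormConj2 H49.FormConj3 H46.UniForm H46.BlockCongr H49.GUUnip H46.FormSplit H46.SigU
open H48.SimStruct H46.TyAlg H46.TyCount H46.TyGL H46.TyReal H46.JordTy

universe u v w

section poly
variable {F : Type u} [Field F]

theorem strip {f : F[X]} (hf : f.Monic) (h2 : (2 : F) ≠ 0) :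
    ∃ g : F[X], f = (X - C 1) ^ (rootMultiplicity 1 f) * ((X - C (-1)) ^ (rootMultiplicity (-1) f) * g) ∧ g.Monic ∧
      ¬ (X - C 1) ∣ g ∧ ¬ (X - C (-1)) ∣ g := by
  obtain ⟨q, hq1, hq2⟩ := exists_eq_pow_rootMultiplicity_mul_and_not_dvd f hf.ne_zero 1
  have hqm : q.Monic := ((monic_X_sub_C 1).pow _).of_mul_monic_left (hq1 ▸ hf)
  obtain ⟨g, hg1, hg2⟩ := exists_eq_pow_rootMultiplicity_mul_and_not_dvd q hqm.ne_zero (-1)
  have hgm : g.Monic := ((monic_X_sub_C (-1)).pow _).of_mul_monic_left (hg1 ▸ hqm)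
  have h3 : rootMultiplicity (-1) f = rootMultiplicity (-1) q := by
    conv_lhs => rw [hq1]
    rw [rootMultiplicity_mul (hq1 ▸ hf.ne_zero)]
    have h4 : rootMultiplicity (-1) ((X - C (1 : F)) ^ rootMultiplicity 1 f) = 0 := by
      apply rootMultiplicity_eq_zero
      rw [IsRoot.def, eval_pow, eval_sub, eval_X, eval_C]
      apply pow_ne_zero
      intro h5
      apply h2
      have : (-1 : F) - 1 = -2 := by ring
      rw [this, neg_eq_zero] at h5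
      exact h5
    rw [h4, zero_add]
  refine ⟨g, ?_, hgm, ?_, hg2⟩
  · rw [h3, ← hg1, ← hq1]
  · intro h
    apply hq2
    rw [hg1]
    exact Dvd.dvd.mul_left h _

theorem exists_d (a : ℕ → ℕ) (N : ℕ) (h0 : a 0 = 0) (hN : ∀ e, N < e → a e = 0) :
    ∃ (t : ℕ) (d : Fin t → ℕ), (∀ k, 1 ≤ d k) ∧ ∀ e, mu d e = a e := by
  classical
  let S := Σ e : Fin (N + 1), Fin (a e)
  let E : Fin (Fintype.card S) ≃ S := (Fintype.equivFin S).symm
  refine ⟨Fintype.card S, fun k => (E k).1, ?_, ?_⟩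
  · intro k
    show 1 ≤ ((E k).1 : ℕ)
    by_contra hcon
    have h1 : ((E k).1 : ℕ) = 0 := by omega
    have h2 : ((E k).2 : ℕ) < a (E k).1 := (E k).2.2
    have h3 : a (E k).1 = 0 := by rw [h1, h0]
    omega
  · intro e
    unfold mu
    by_cases he : e < N + 1
    · have h1 : {k : Fin (Fintype.card S) // ((E k).1 : ℕ) = e} ≃ {s : S // (s.1 : ℕ) = e} := E.subtypeEquiv (fun k => Iff.rfl)
      have h2 : {s : S // (s.1 : ℕ) = e} ≃ Fin (a e) :=
        { toFun := fun s => ⟨s.1.2, lt_of_lt_of_eq s.1.2.2 (congrArg a s.2)⟩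
          invFun := fun j => ⟨⟨⟨e, he⟩, j⟩, rfl⟩
          left_inv := by
            rintro ⟨⟨⟨i, hi⟩, j⟩, h⟩
            simp only at h
            subst h
            rfl
          right_inv := fun j => rfl }
      rw [Fintype.card_congr (h1.trans h2), Fintype.card_fin]
    · rw [hN e (by omega), Fintype.card_eq_zero_iff]
      refine ⟨fun k => ?_⟩
      have h1 : ((E k.1).1 : ℕ) < N + 1 := (E k.1).1.2
      have h2 : ((E k.1).1 : ℕ) = e := k.2
      omega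

end poly

section ker
variable {F : Type u} [Field F] {V : Type v} [AddCommGroup V] [Module F V]

theorem injective_of_isTy [FiniteDimensional F V] {T : V →ₗ[F] V} {g : ℕ → F[X]} (hT : IsTy T g) {c : F} (hc : ∀ e, ¬ (X - C c) ∣ g e) :
    Function.Injective (T - c • (LinearMap.id : V →ₗ[F] V)) := by
  obtain ⟨ι, _, lab, hg, ⟨E⟩, rfl⟩ := hT
  have h1 := kd_struct hg E (X - C c)
  have h2 : ∀ i, kd (Cyc (lab i)) (X - C c) = 0 := by
    intro i
    have h3 := kd_cyc (hg i) (monic_X_sub_C c) (irreducible_X_sub_C c) 1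
    rw [pow_one] at h3
    rw [h3, if_neg, zero_mul]
    intro h4
    apply hc (lab i).2
    unfold tyf
    rw [← h4]
    have h5 := Finset.dvd_prod_of_mem (fun j => if (lab j).2 = (lab i).2 then (lab j).1 else 1) (Finset.mem_univ i)
    simp only [if_true] at h5
    exact h5
  rw [Finset.sum_eq_zero (fun i _ => h2 i)] at h1
  have h3 : LinearMap.ker (aeval T (X - C c)) = ⊥ := Submodule.finrank_eq_zero.mp h1.symm
  have h4 : aeval T (X - C c) = T - c • (LinearMap.id : V →ₗ[F] V) := by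
    rw [map_sub, aeval_X, aeval_C]
    rfl
  rw [h4] at h3
  exact LinearMap.ker_eq_bot.mp h3

theorem surjective_of_isTy [FiniteDimensional F V] {T : V →ₗ[F] V} {g : ℕ → F[X]} (hT : IsTy T g) {c : F} (hc : ∀ e, ¬ (X - C c) ∣ g e) :
    Function.Surjective (T - c • (LinearMap.id : V →ₗ[F] V)) :=
  LinearMap.surjective_of_injective (injective_of_isTy hT hc)

theorem no_sq [FiniteDimensional F V] {T : V →ₗ[F] V} {g : ℕ → F[X]} (hT : IsTy T g) (hc : ∀ e, ¬ (X - C 1) ∣ g e) (hc' : ∀ e, ¬ (X - C (-1)) ∣ g e) (v : V)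
    (hv : T (T v) = v) : v = 0 := by
  have h1 := injective_of_isTy hT hc
  have h2 := injective_of_isTy hT hc'
  have h3 : (T - (1 : F) • (LinearMap.id : V →ₗ[F] V)) ((T - (-1 : F) • (LinearMap.id : V →ₗ[F] V)) v) = 0 := by
    simp [hv, add_comm]
  have h4 := h1 (h3.trans (map_zero _).symm)
  exact h2 (h4.trans (map_zero _).symm)

theorem nil_jord {t : ℕ} {d : Fin t → ℕ} {c : F} (hc : c ≠ 0) : ∀ v, ((TJ d c - c • (LinearMap.id : (I d → F) →ₗ[F] (I d → F)) : (I d → F) →ₗ[F] (I d → F)) ^ (∑ j, d j)) v = 0 := by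
  intro v
  have h3 := rank_jord (F := F) d hc (∑ j, d j)
  have h4 : ∑ j, (d j - ∑ j, d j) = 0 := by
    apply Finset.sum_eq_zero
    intro j _
    have := Finset.single_le_sum (f := d) (fun _ _ => Nat.zero_le _) (Finset.mem_univ j)
    omega
  rw [h4] at h3
  have h5 := H48.Jordan.eq_zero_of_rank h3
  have h6 : (TJ d c - c • (LinearMap.id : (I d → F) →ₗ[F] (I d → F)) : (I d → F) →ₗ[F] (I d → F)) ^ (∑ j, d j) =
      Matrix.toLin' (aeval (c • Cfsg.jordanTypeMatrix d F) ((X - C c) ^ (∑ j, d j))) := by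
    have h7 := Polynomial.aeval_algHom_apply (Matrix.toLinAlgEquiv' : Matrix (I d) (I d) F ≃ₐ[F] _).toAlgHom (c • Cfsg.jordanTypeMatrix d F) ((X - C c) ^ (∑ j, d j))
    have h8 : Matrix.toLin' (aeval (c • Cfsg.jordanTypeMatrix d F) ((X - C c) ^ (∑ j, d j))) = aeval (TJ d c) ((X - C c) ^ (∑ j, d j)) := h7.symm
    rw [h8, map_pow, map_sub, aeval_X, aeval_C]
    rfl
  rw [h6, h5]
  simp

end ker

/-- a model for a type -/
structure Model {F : Type u} [Field F] (τ : ℕ → F[X]) where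
  t1 : ℕ
  d1 : Fin t1 → ℕ
  hd1 : ∀ k, 1 ≤ d1 k
  t2 : ℕ
  d2 : Fin t2 → ℕ
  hd2 : ∀ k, 1 ≤ d2 k
  m : ℕ
  A : Matrix (Fin m) (Fin m) F
  mu1 : ∀ e, mu d1 e = rootMultiplicity 1 (τ e)
  mu2 : ∀ e, mu d2 e = rootMultiplicity (-1) (τ e)
  hg : ty A ∈ TT F 1 m
  hτ : ∀ e, τ e = (X - C 1) ^ mu d1 e * ((X - C (-1)) ^ mu d2 e * ty A e)
  hc : ∀ e, ¬ (X - C 1) ∣ ty A e
  hc' : ∀ e, ¬ (X - C (-1)) ∣ ty A e

section model
variable {F : Type u} [Field F] {τ : ℕ → F[X]}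

theorem exists_model (h2 : (2 : F) ≠ 0) {n : ℕ} (hτ : τ ∈ TT F 1 n) : Nonempty (Model τ) := by
  choose g hg using fun e => strip (hτ.1 e).1 h2
  have h1 : ∀ e, τ e = 1 → rootMultiplicity 1 (τ e) = 0 ∧ rootMultiplicity (-1) (τ e) = 0 ∧ g e = 1 := by
    intro e he
    have e1 : rootMultiplicity 1 (τ e) = 0 := by rw [he]; exact rootMultiplicity_eq_zero (by simp)
    have e2 : rootMultiplicity (-1) (τ e) = 0 := by rw [he]; exact rootMultiplicity_eq_zero (by simp)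
    refine ⟨e1, e2, ?_⟩
    have := (hg e).1
    rw [e1, e2, he, pow_zero, pow_zero, one_mul, one_mul] at this
    exact this.symm
  obtain ⟨t1, d1, hd1, m1⟩ := exists_d (fun e => rootMultiplicity 1 (τ e)) n (h1 0 (hτ.2.1 0 (Or.inl (by omega)))).1
    (fun e he => (h1 e (hτ.2.1 e (Or.inr he))).1)
  obtain ⟨t2, d2, hd2, m2⟩ := exists_d (fun e => rootMultiplicity (-1) (τ e)) n (h1 0 (hτ.2.1 0 (Or.inl (by omega)))).2.1
    (fun e he => (h1 e (hτ.2.1 e (Or.inr he))).2.1)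
  have hgm : g ∈ TT F 1 (∑ e ∈ Finset.range (n + 1), e * (g e).natDegree) := by
    refine mem_TT_of_le (N := n) ?_ ?_ ?_ rfl
    · intro e
      refine ⟨(hg e).2.1, ?_⟩
      have h3 := (hτ.1 e).2
      rw [(hg e).1, mul_coeff_zero, mul_coeff_zero] at h3
      exact right_ne_zero_of_mul (right_ne_zero_of_mul h3)
    · intro e he
      exact (h1 e (hτ.2.1 e (Or.inl he))).2.2
    · intro e he
      exact (h1 e (hτ.2.1 e (Or.inr he))).2.2
  obtain ⟨A, hA⟩ := real_of_mem hgm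
  have hgm' : ty A ∈ TT F 1 (∑ e ∈ Finset.range (n + 1), e * (g e).natDegree) := by rw [hA]; exact hgm
  refine ⟨⟨t1, d1, hd1, t2, d2, hd2, _, A, m1, m2, hgm', ?_, ?_, ?_⟩⟩
  · intro e
    rw [hA, m1, m2]
    exact (hg e).1
  · intro e
    rw [hA]; exact (hg e).2.2.1
  · intro e
    rw [hA]; exact (hg e).2.2.2

variable (M : Model τ)

/-- the space -/
abbrev Model.E : Type u := (I M.d1 → F) × ((I M.d2 → F) × (Fin M.m → F))

/-- the endomorphism -/
noncomputable abbrev Model.T : M.E →ₗ[F] M.E := (TJ M.d1 1).prodMap ((TJ M.d2 (-1)).prodMap (lin M.A))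

theorem Model.isTy : IsTy M.T τ := by
  have h1 := isTy_jord M.d1 M.hd1 (c := (1 : F)) one_ne_zero
  have h2 := isTy_jord M.d2 M.hd2 (c := (-1 : F)) (neg_ne_zero.mpr one_ne_zero)
  have h3 := isTy_prod h1 (isTy_prod h2 (isTy_ty M.A))
  have h4 : τ = fun e => (X - C 1) ^ mu M.d1 e * ((X - C (-1)) ^ mu M.d2 e * ty M.A e) := funext M.hτ
  exact (congrArg (fun g => IsTy M.T g) h4).mpr h3

theorem Model.ty2 : IsTy ((TJ M.d2 (-1)).prodMap (lin M.A)) (fun e => (X - C (-1)) ^ mu M.d2 e * ty M.A e) :=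
  isTy_prod (isTy_jord M.d2 M.hd2 (c := (-1 : F)) (neg_ne_zero.mpr one_ne_zero)) (isTy_ty M.A)

theorem Model.surj1 (h2 : (2 : F) ≠ 0) : Function.Surjective (((TJ M.d2 (-1)).prodMap (lin M.A)) - (1 : F) • (LinearMap.id : ((I M.d2 → F) × (Fin M.m → F)) →ₗ[F] ((I M.d2 → F) × (Fin M.m → F)))) := by
  apply surjective_of_isTy M.ty2
  intro e h
  rcases (prime_X_sub_C (1 : F)).dvd_or_dvd h with h | h
  · have h3 := (prime_X_sub_C (1 : F)).dvd_of_dvd_pow h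
    rw [dvd_iff_isRoot, IsRoot.def, eval_sub, eval_X, eval_C] at h3
    apply h2
    have : (1 : F) - -1 = 2 := by ring
    rw [← this]; exact h3
  · exact M.hc e h

theorem Model.surj2 : Function.Surjective (lin M.A - (-1 : F) • (LinearMap.id : (Fin M.m → F) →ₗ[F] (Fin M.m → F))) :=
  surjective_of_isTy (isTy_ty M.A) M.hc'

variable {ε : F} {f : LinearMap.BilinForm F M.E}

theorem cross1 (h2 : (2 : F) ≠ 0) (hf : IF M.T ε f) (v : I M.d1 → F) (w : (I M.d2 → F) × (Fin M.m → F)) : f (v, 0) (0, w) = 0 :=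
  cross_zero (A := TJ M.d1 1) (B := (TJ M.d2 (-1)).prodMap (lin M.A)) hf.inv (c := 1) (by ring) _ (nil_jord one_ne_zero) (M.surj1 h2) v w

theorem cross1' (h2 : (2 : F) ≠ 0) (hf : IF M.T ε f) (v : I M.d1 → F) (w : (I M.d2 → F) × (Fin M.m → F)) : f (0, w) (v, 0) = 0 := by
  rw [hf.symm, cross1 M h2 hf, mul_zero]

theorem Model.if1 (h2 : (2 : F) ≠ 0) (hf : IF M.T ε f) : IF (TJ M.d1 1) ε (r1 f) := IF.r1 hf (cross1 M h2 hf)

theorem Model.if23 (h2 : (2 : F) ≠ 0) (hf : IF M.T ε f) : IF ((TJ M.d2 (-1)).prodMap (lin M.A)) ε (r2 f) := IF.r2 hf (cross1' M h2 hf)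

theorem cross2 (h2 : (2 : F) ≠ 0) (hf : IF M.T ε f) (v : I M.d2 → F) (w : Fin M.m → F) : r2 f (v, 0) (0, w) = 0 :=
  cross_zero (A := TJ M.d2 (-1)) (B := lin M.A) (M.if23 h2 hf).inv (c := -1) (by ring) _ (nil_jord (neg_ne_zero.mpr one_ne_zero)) M.surj2 v w

theorem cross2' (h2 : (2 : F) ≠ 0) (hf : IF M.T ε f) (v : I M.d2 → F) (w : Fin M.m → F) : r2 f (0, w) (v, 0) = 0 := by
  rw [(M.if23 h2 hf).symm, cross2 M h2 hf, mul_zero]

theorem Model.if2 (h2 : (2 : F) ≠ 0) (hf : IF M.T ε f) : IF (TJ M.d2 (-1)) ε (r1 (r2 f)) := IF.r1 (M.if23 h2 hf) (cross2 M h2 hf)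

theorem Model.if3 (h2 : (2 : F) ≠ 0) (hf : IF M.T ε f) : IF (lin M.A) ε (r2 (r2 f)) := IF.r2 (M.if23 h2 hf) (cross2' M h2 hf)

/-- the signs at `1` -/
def Model.s1 (i : ℕ) (f : LinearMap.BilinForm F M.E) : Prop := sgn M.hd1 i (r1 f)

/-- the signs at `-1` -/
def Model.s2 (i : ℕ) (f : LinearMap.BilinForm F M.E) : Prop := sgn M.hd2 i (r1 (r2 f))

theorem mu_pos_iff {t : ℕ} {d : Fin t → ℕ} {i : ℕ} : (∃ k, d k = i) ↔ 0 < mu d i := by
  unfold mu
  rw [Fintype.card_pos_iff]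
  exact ⟨fun ⟨k, hk⟩ => ⟨⟨k, hk⟩⟩, fun ⟨k⟩ => ⟨k.1, k.2⟩⟩

theorem dvd_of_mu1 (hτ0 : ∀ e, τ e ≠ 0) {i : ℕ} (h : ∃ k, M.d1 k = i) : (X - C 1) ∣ τ i := by
  rw [mu_pos_iff, M.mu1, rootMultiplicity_pos (hτ0 i)] at h
  exact dvd_iff_isRoot.mpr h

theorem dvd_of_mu2 (hτ0 : ∀ e, τ e ≠ 0) {i : ℕ} (h : ∃ k, M.d2 k = i) : (X - C (-1)) ∣ τ i := by
  rw [mu_pos_iff, M.mu2, rootMultiplicity_pos (hτ0 i)] at h
  exact dvd_iff_isRoot.mpr h

/-- forms with the same signs are equivalent -/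
theorem Model.eqv [Finite F] (hodd : Odd (Nat.card F)) (h2 : (2 : F) ≠ 0) (hτ0 : ∀ e, τ e ≠ 0) (hε : ε * ε = 1)
    {f f' : LinearMap.BilinForm F M.E} (hf : IF M.T ε f) (hf' : IF M.T ε f')
    (hs1 : ∀ i, ε * (-1) ^ (i - 1) = 1 → (X - C 1) ∣ τ i → (M.s1 i f ↔ M.s1 i f'))
    (hs2 : ∀ i, ε * (-1) ^ (i - 1) = 1 → (X - C (-1)) ∣ τ i → (M.s2 i f ↔ M.s2 i f')) : Eqv M.T f f' := by
  apply eqv_prod (cross1 M h2 hf) (cross1' M h2 hf) (cross1 M h2 hf') (cross1' M h2 hf')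
  · exact unip_eqv M.hd1 hodd h2 (by ring) hε (M.if1 h2 hf) (M.if1 h2 hf') (fun i hi hk => hs1 i hi (dvd_of_mu1 M hτ0 hk))
  · apply eqv_prod (cross2 M h2 hf) (cross2' M h2 hf) (cross2 M h2 hf') (cross2' M h2 hf')
    · exact unip_eqv M.hd2 hodd h2 (by ring) hε (M.if2 h2 hf) (M.if2 h2 hf') (fun i hi hk => hs2 i hi (dvd_of_mu2 M hτ0 hk))
    · have a := M.if3 h2 hf
      have b := M.if3 h2 hf'
      exact abs_version (lin M.A) _ _ ε hε a.nd b.nd a.symm b.symm a.inv b.inv (no_sq (isTy_ty M.A) M.hc M.hc')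

theorem Model.even (h2 : (2 : F) ≠ 0) (hε : ε * ε = 1) (hf : IF M.T ε f) (i : ℕ) (hi : ε * (-1) ^ (i - 1) = -1) :
    Even (rootMultiplicity 1 (τ i)) ∧ Even (rootMultiplicity (-1) (τ i)) := by
  rw [← M.mu1, ← M.mu2]
  exact ⟨even_mult M.hd1 h2 (by ring) hε (M.if1 h2 hf) i hi, even_mult M.hd2 h2 (by ring) hε (M.if2 h2 hf) i hi⟩

end model

end H46.SigModel
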