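import Mathlib
import Cfsg.Agent.Lib.H46.SigModel

/-! Counting conjugacy classes of isometry groups by types and signs. -/

set_option autoImplicit false

namespace H46.IsoCount

open Polynomial Module H49.FormConj2 H49.FormConj3 H46.FormSplit H46.SigU H46.SigModel
open H46.TyAlg H46.TyCount H46.TyReal

universe u v w

variable {F : Type u} [Field F] {V : Type v} [AddCommGroup V] [Module F V] [FiniteDimensional F V] {G : Type w} [Group G]

/-- `G` is the isometry group of `f` -/
structure IsoG (G : Type w) [Group G] (f : LinearMap.BilinForm F V) where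
  ρ : G →* (V ≃ₗ[F] V)
  inj : Function.Injective ρ
  pres : ∀ g u v, f (ρ g u) (ρ g v) = f u v
  surj : ∀ h : V ≃ₗ[F] V, (∀ u v, f (h u) (h v) = f u v) → ∃ g, ρ g = h

/-- transport of a form -/
def tp {W : Type*} [AddCommGroup W] [Module F W] (f : LinearMap.BilinForm F V) (e : V ≃ₗ[F] W) : LinearMap.BilinForm F W :=
  f.comp (e.symm : W →ₗ[F] V) (e.symm : W →ₗ[F] V)

theorem tp_apply {W : Type*} [AddCommGroup W] [Module F W] (f : LinearMap.BilinForm F V) (e : V ≃ₗ[F] W) (u v : W) : tp f e u v = f (e.symm u) (e.symm v) := rfl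

theorem tp_IF {W : Type*} [AddCommGroup W] [Module F W] {f : LinearMap.BilinForm F V} {T : V →ₗ[F] V} {ε : F} (hf : IF T ε f) (e : V ≃ₗ[F] W)
    {S : W →ₗ[F] W} (he : ∀ v, e (T v) = S (e v)) : IF S ε (tp f e) where
  nd := by
    intro x hx
    have h1 : e.symm x = 0 := by
      apply hf.nd
      intro y
      have := hx (e y)
      rw [tp_apply, e.symm_apply_apply] at this
      exact this
    rw [← e.apply_symm_apply x, h1, map_zero]
  symm u v := hf.symm _ _
  inv u v := by
    have h1 : ∀ u, e.symm (S u) = T (e.symm u) := by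
      intro u
      apply e.injective
      rw [he, e.apply_symm_apply, e.apply_symm_apply]
    rw [tp_apply, tp_apply, h1, h1, hf.inv]

variable {f : LinearMap.BilinForm F V} (P : IsoG G f)

/-- conjugacy from equivalence of the transported forms -/
theorem isConj_of_eqv {E : Type*} [AddCommGroup E] [Module F E] {T : E →ₗ[F] E} {x y : G} {e e' : V ≃ₗ[F] E}
    (he : ∀ v, e (P.ρ x v) = T (e v)) (he' : ∀ v, e' (P.ρ y v) = T (e' v)) (h : Eqv T (tp f e) (tp f e')) : IsConj x y := by
  obtain ⟨z, hz1, hz2⟩ := h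
  obtain ⟨k, hk⟩ := P.surj ((e'.trans z).trans e.symm) (by
    intro u v
    have h1 := hz2 (e' u) (e' v)
    rw [tp_apply, tp_apply, e'.symm_apply_apply, e'.symm_apply_apply] at h1
    exact h1)
  have h2 : x * k = k * y := by
    apply P.inj
    rw [map_mul, map_mul]
    apply LinearEquiv.ext
    intro v
    show P.ρ x (P.ρ k v) = P.ρ k (P.ρ y v)
    rw [hk]
    show P.ρ x (e.symm (z (e' v))) = e.symm (z (e' (P.ρ y v)))
    apply e.injective
    rw [he, e.apply_symm_apply, e.apply_symm_apply, he', hz1]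
  rw [isConj_comm, isConj_iff]
  exact ⟨k, by rw [← h2, mul_inv_cancel_right]⟩

/-- the type of an element -/
noncomputable def tyG (x : G) : ℕ → F[X] := (exists_isTy (P.ρ x : V →ₗ[F] V)).choose

theorem isTy_tyG (x : G) : IsTy (P.ρ x : V →ₗ[F] V) (tyG P x) := (exists_isTy (P.ρ x : V →ₗ[F] V)).choose_spec

theorem tyG_mem (x : G) : tyG P x ∈ TT F 1 (finrank F V) :=
  (isTy_mem (isTy_tyG P x) (LinearEquiv.isUnit_det' (P.ρ x)).ne_zero rfl).1

theorem tyG_eq {x : G} {τ : ℕ → F[X]} (h : IsTy (P.ρ x : V →ₗ[F] V) τ) : tyG P x = τ :=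
  isTy_unique (isTy_tyG P x) h (LinearEquiv.refl F V) (fun _ => rfl)

theorem tyG_conj {x y : G} (h : IsConj x y) : tyG P x = tyG P y := by
  obtain ⟨k, hk⟩ := isConj_iff.mp h
  refine isTy_unique (isTy_tyG P x) (isTy_tyG P y) (P.ρ k) ?_
  intro v
  show P.ρ k (P.ρ x v) = P.ρ y (P.ρ k v)
  have h1 : k * x = y * k := by rw [← hk, inv_mul_cancel_right]
  have h2 := congrArg P.ρ h1
  rw [map_mul, map_mul] at h2
  exact LinearEquiv.congr_fun h2 v

open scoped Classical in
/-- positions of the signs -/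
noncomputable def E1 (ε : F) (c : F) (n : ℕ) (τ : ℕ → F[X]) : Finset ℕ :=
  (Finset.range (n + 1)).filter (fun i => ε * (-1) ^ (i - 1) = 1 ∧ (X - C c) ∣ τ i)

theorem exists_conj_model (x : G) (M : Model (tyG P x)) : ∃ e : V ≃ₗ[F] M.E, ∀ v, e (P.ρ x v) = M.T (e v) :=
  conj_of_isTy (isTy_tyG P x) M.isTy

variable (hf : NDB f) {ε : F} (hs : ∀ u v, f u v = ε * f v u)

theorem if_rho (hf : NDB f) (hs : ∀ u v, f u v = ε * f v u) (x : G) : IF (P.ρ x : V →ₗ[F] V) ε f := ⟨hf, hs, P.pres x⟩

include hf hs in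
open scoped Classical in
/-- the number of classes with a given type -/
theorem card_fiber_le [Finite F] [Finite G] (hodd : Odd (Nat.card F)) (h2 : (2 : F) ≠ 0) (hε : ε * ε = 1) (τ : ℕ → F[X]) :
    Nat.card {C : ConjClasses G // tyG P C.out = τ} ≤ 2 ^ ((E1 ε 1 (finrank F V) τ).card + (E1 ε (-1) (finrank F V) τ).card) := by
  by_cases hemp : ∃ C : ConjClasses G, tyG P C.out = τ
  · obtain ⟨C₀, hC₀⟩ := hemp
    have hτ : τ ∈ TT F 1 (finrank F V) := hC₀ ▸ tyG_mem P _
    obtain ⟨M⟩ := exists_model h2 hτ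
    have hτ0 : ∀ e, τ e ≠ 0 := fun e => (hτ.1 e).1.ne_zero
    have hex : ∀ C : {C : ConjClasses G // tyG P C.out = τ}, ∃ e : V ≃ₗ[F] M.E, ∀ v, e (P.ρ C.1.out v) = M.T (e v) := by
      intro C
      have h1 := isTy_tyG P C.1.out
      rw [C.2] at h1
      exact conj_of_isTy h1 M.isTy
    choose e he using hex
    have hinj : Function.Injective (fun C : {C : ConjClasses G // tyG P C.out = τ} =>
        (((⟨(E1 ε 1 (finrank F V) τ).filter (fun i => M.s1 i (tp f (e C))), Finset.mem_powerset.mpr (Finset.filter_subset _ _)⟩,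
          ⟨(E1 ε (-1) (finrank F V) τ).filter (fun i => M.s2 i (tp f (e C))), Finset.mem_powerset.mpr (Finset.filter_subset _ _)⟩)) :
          (E1 ε 1 (finrank F V) τ).powerset × (E1 ε (-1) (finrank F V) τ).powerset)) := by
      intro D D' h
      have h3 := congrArg (fun p => (p.1 : Finset ℕ)) h
      have h4 := congrArg (fun p => (p.2 : Finset ℕ)) h
      simp only at h3 h4
      have hmem : ∀ c : F, ∀ i, ε * (-1) ^ (i - 1) = 1 → (X - C c) ∣ τ i → i ∈ E1 ε c (finrank F V) τ := by
        intro c i hi hd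
        unfold E1
        rw [Finset.mem_filter, Finset.mem_range]
        refine ⟨?_, hi, hd⟩
        by_contra hcon
        rw [hτ.2.1 i (Or.inr (by omega))] at hd
        have h5 := isUnit_of_dvd_one hd
        exact (irreducible_X_sub_C c).not_isUnit h5
      have key := M.eqv hodd h2 hτ0 hε (tp_IF (if_rho P hf hs D.1.out) (e D) (he D)) (tp_IF (if_rho P hf hs D'.1.out) (e D') (he D'))
        (by
          intro i hi hd
          have h5 := hmem 1 i hi hd
          have h6 := Finset.ext_iff.mp h3 i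
          rw [Finset.mem_filter, Finset.mem_filter, and_iff_right h5, and_iff_right h5] at h6
          exact h6)
        (by
          intro i hi hd
          have h5 := hmem (-1) i hi hd
          have h6 := Finset.ext_iff.mp h4 i
          rw [Finset.mem_filter, Finset.mem_filter, and_iff_right h5, and_iff_right h5] at h6
          exact h6)
      have h7 := isConj_of_eqv P (he D) (he D') key
      apply Subtype.ext
      have h8 := ConjClasses.mk_eq_mk_iff_isConj.mpr h7
      have h9 : ∀ D : ConjClasses G, ConjClasses.mk D.out = D := fun D => Quotient.out_eq D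
      rw [h9, h9] at h8
      exact h8
    calc Nat.card {C : ConjClasses G // tyG P C.out = τ} ≤ Nat.card ((E1 ε 1 (finrank F V) τ).powerset × (E1 ε (-1) (finrank F V) τ).powerset) :=
          Nat.card_le_card_of_injective _ hinj
      _ = _ := by
        rw [Nat.card_prod, Nat.card_eq_fintype_card, Nat.card_eq_fintype_card, Fintype.card_coe, Fintype.card_coe, Finset.card_powerset, Finset.card_powerset, pow_add]
  · haveI : IsEmpty {C : ConjClasses G // tyG P C.out = τ} := ⟨fun C => hemp ⟨C.1, C.2⟩⟩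
    rw [Nat.card_of_isEmpty]
    exact Nat.zero_le _

include hf hs in
/-- parity of the multiplicities -/
theorem even_tyG (h2 : (2 : F) ≠ 0) (hε : ε * ε = 1) (x : G) (i : ℕ) (hi : ε * (-1) ^ (i - 1) = -1) :
    Even (rootMultiplicity 1 (tyG P x i)) ∧ Even (rootMultiplicity (-1) (tyG P x i)) := by
  obtain ⟨M⟩ := exists_model h2 (tyG_mem P x)
  obtain ⟨e, he⟩ := exists_conj_model P x M
  exact M.even h2 hε (tp_IF (if_rho P hf hs x) e he) i hi

include hf hs in
/-- the number of classes -/
theorem card_le_sum [Finite F] [Finite G] (hodd : Odd (Nat.card F)) (h2 : (2 : F) ≠ 0) (hε : ε * ε = 1) (𝒯 : Finset (ℕ → F[X])) (h𝒯 : ∀ x, tyG P x ∈ 𝒯) :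
    Nat.card (ConjClasses G) ≤ ∑ τ ∈ 𝒯, 2 ^ ((E1 ε 1 (finrank F V) τ).card + (E1 ε (-1) (finrank F V) τ).card) := by
  classical
  haveI : Finite (ConjClasses G) := Quotient.finite _
  haveI := Fintype.ofFinite (ConjClasses G)
  rw [Nat.card_eq_fintype_card, ← Finset.card_univ, Finset.card_eq_sum_card_fiberwise (f := fun C : ConjClasses G => tyG P C.out) (t := 𝒯) (fun C _ => h𝒯 _)]
  refine Finset.sum_le_sum fun τ _ => ?_
  refine le_trans (le_of_eq ?_) (card_fiber_le P hf hs hodd h2 hε τ)
  rw [Nat.card_eq_fintype_card, Fintype.card_subtype]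

end H46.IsoCount
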