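import Mathlib
import Cfsg.Prelude.Def_Classical
import Cfsg.Agent.Lib.H46.SFormOps
import Cfsg.Agent.Lib.H7.UnitSU
import Cfsg.Agent.Lib.H16.Herm
import Cfsg.Agent.Lib.H49.Unitary

/-! Element orders of `PSU(n, q)` as projective orders of determinant one isometries of nondegenerate sesquilinear forms. -/

set_option autoImplicit false

universe u

namespace H46.OrdPSU

open Module H46.SForm H46.SForm.SForm H46.ProjOrder Matrix

variable {K : Type*} [Field K] [Fintype K] {q : ℕ}

/-- the involution -/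
def bar (hF : Fintype.card K = q ^ 2) : K →+* K := H49.Unitary.frob (K := K) (q := q) (by rw [Nat.card_eq_fintype_card, hF])

theorem bar_apply (hF : Fintype.card K = q ^ 2) (x : K) : bar hF x = x ^ q := rfl

theorem bar_bar (hF : Fintype.card K = q ^ 2) (x : K) : bar hF (bar hF x) = x := by
  rw [bar_apply, bar_apply]
  exact H16.Herm.pow_q_pow_q hF x

theorem exists_bar_ne (hF : Fintype.card K = q ^ 2) : ∃ x : K, bar hF x ≠ x := H16.Herm.exists_pow_q_ne hF

/-- the standard hermitian form -/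
def hForm (hF : Fintype.card K = q ^ 2) (n : ℕ) : SForm K (Fin n → K) (bar hF) where
  B := Cfsg.hermForm n K q
  add_left := H16.Herm.hermForm_add_left
  add_right := H16.Herm.hermForm_add_right hF
  smul_left := H16.Herm.hermForm_smul_left
  smul_right := H16.Herm.hermForm_smul_right

theorem hForm_nd (hF : Fintype.card K = q ^ 2) (n : ℕ) : (hForm hF n).ND :=
  fun _ hv => H16.Herm.eq_zero_of_forall_right hF hv

theorem hForm_sym (hF : Fintype.card K = q ^ 2) (n : ℕ) : (hForm hF n).Sym 1 := by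
  intro v w
  rw [one_mul]
  exact (H16.Herm.hermForm_swap hF _ _).symm

theorem orderOf_mk (hF : Fintype.card K = q ^ 2) {n : ℕ} (hn : 2 ≤ n) (A : Cfsg.SU n K q) :
    orderOf (QuotientGroup.mk A : Cfsg.PSU n K q) = projOrder K (Matrix.SpecialLinearGroup.toGL (A : Matrix.SpecialLinearGroup (Fin n) K) : Matrix.GeneralLinearGroup (Fin n) K) := by
  have hne : Nonempty (Fin n) := ⟨⟨0, by omega⟩⟩
  rw [eq_projOrder_iff]
  intro k
  rw [orderOf_dvd_iff_pow_eq_one, ← QuotientGroup.mk_pow, QuotientGroup.eq_one_iff]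
  have hval : (((A ^ k : Cfsg.SU n K q) : Matrix.SpecialLinearGroup (Fin n) K) : Matrix (Fin n) (Fin n) K) =
      ((A : Matrix.SpecialLinearGroup (Fin n) K) : Matrix (Fin n) (Fin n) K) ^ k := by
    rw [Subgroup.coe_pow, Matrix.SpecialLinearGroup.coe_pow]
  have h4 : ((Matrix.SpecialLinearGroup.toGL (A : Matrix.SpecialLinearGroup (Fin n) K) : Matrix.GeneralLinearGroup (Fin n) K) : Matrix (Fin n) (Fin n) K) =
      ((A : Matrix.SpecialLinearGroup (Fin n) K) : Matrix (Fin n) (Fin n) K) := rfl
  rw [h4]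
  constructor
  · rintro ⟨c, hc⟩
    apply H7.UnitSU.scalar_mem_center (c := c)
    rw [hval, hc, Matrix.algebraMap_eq_diagonal]; rfl
  · intro h
    obtain ⟨c, hc⟩ := H7.UnitSU.center_scalar hF hn h
    refine ⟨c, ?_⟩
    rw [← hval, hc, Matrix.algebraMap_eq_diagonal]; rfl

theorem exists_isom (hF : Fintype.card K = q ^ 2) {n : ℕ} (hn : 2 ≤ n) (x : Cfsg.PSU n K q) :
    ∃ u : (Module.End K (Fin n → K))ˣ, (hForm hF n).Isom u ∧ LinearMap.det (u : Module.End K (Fin n → K)) = 1 ∧
      projOrder K u = orderOf x := by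
  have hne : Nonempty (Fin n) := ⟨⟨0, by omega⟩⟩
  obtain ⟨A, rfl⟩ := QuotientGroup.mk_surjective x
  let φ : Matrix (Fin n) (Fin n) K ≃ₐ[K] Module.End K (Fin n → K) := Matrix.toLinAlgEquiv'
  refine ⟨Units.map (φ : Matrix (Fin n) (Fin n) K →* Module.End K (Fin n → K)) (Matrix.SpecialLinearGroup.toGL (A : Matrix.SpecialLinearGroup (Fin n) K)), ?_, ?_, ?_⟩
  · intro v w
    exact A.2 v w
  · show LinearMap.det (Matrix.toLin' ((A : Matrix.SpecialLinearGroup (Fin n) K) : Matrix (Fin n) (Fin n) K)) = 1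
    rw [LinearMap.det_toLin', (A : Matrix.SpecialLinearGroup (Fin n) K).2]
  · rw [orderOf_mk hF hn]
    exact projOrder_map (φ : Matrix (Fin n) (Fin n) K →ₐ[K] Module.End K (Fin n → K)) φ.injective _

theorem mem_orders (hF : Fintype.card K = q ^ 2) {n : ℕ} (hn : 2 ≤ n) {V : Type u} [AddCommGroup V] [Module K V]
    (f : SForm K V (bar hF)) (hnd : f.ND) (hV : finrank K V = n) (u : (Module.End K V)ˣ) (hu : f.Isom u)
    (hdet : LinearMap.det (u : Module.End K V) = 1) :
    projOrder K u ∈ Set.range (orderOf : Cfsg.PSU n K q → ℕ) := by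
  have hne : Nonempty (Fin n) := ⟨⟨0, by omega⟩⟩
  haveI : FiniteDimensional K V := Module.finite_of_finrank_pos (by omega)
  let b : Basis (Fin n) K V := Module.finBasisOfFinrankEq K V hV
  let φ : Module.End K V ≃ₐ[K] Matrix (Fin n) (Fin n) K := LinearMap.toMatrixAlgEquiv b
  let g : GL (Fin n) K := Units.map (φ : Module.End K V →* Matrix (Fin n) (Fin n) K) u
  have hg : (g : Matrix (Fin n) (Fin n) K) = LinearMap.toMatrix b b (u : Module.End K V) := rfl
  let A : Matrix (Fin n) (Fin n) K := fun i j => f.B (b j) (b i)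
  have hK : Nat.card K = q ^ 2 := by rw [Nat.card_eq_fintype_card, hF]
  -- sums
  have hl : ∀ (s : Finset (Fin n)) (x : Fin n → K) (w : V), f.B (∑ i ∈ s, x i • b i) w = ∑ i ∈ s, x i * f.B (b i) w := by
    classical
    intro s x w
    induction s using Finset.induction_on with
    | empty => simp [f.zero_left]
    | insert a s ha ih =>
      rw [Finset.sum_insert ha, Finset.sum_insert ha, f.add_left, ih, f.smul_left]
  have hr : ∀ (s : Finset (Fin n)) (y : Fin n → K) (v : V), f.B v (∑ j ∈ s, y j • b j) = ∑ j ∈ s, bar hF (y j) * f.B v (b j) := by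
    classical
    intro s y v
    induction s using Finset.induction_on with
    | empty => simp [f.zero_right]
    | insert a s ha ih =>
      rw [Finset.sum_insert ha, Finset.sum_insert ha, f.add_right, ih, f.smul_right]
  have hub : ∀ j, (u : Module.End K V) (b j) = ∑ i, (g : Matrix (Fin n) (Fin n) K) i j • b i := by
    intro j
    have := (Basis.sum_repr b ((u : Module.End K V) (b j))).symm
    rw [this]
    apply Finset.sum_congr rfl
    intro i _
    congr 1
    rw [hg, LinearMap.toMatrix_apply]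
  have hA : H49.Unitary.ct hK (g : Matrix (Fin n) (Fin n) K) * A * g = A := by
    ext i j
    have h1 : f.B ((u : Module.End K V) (b j)) ((u : Module.End K V) (b i)) = A i j := hu _ _
    rw [hub, hub, hl] at h1
    rw [← h1, Matrix.mul_apply]
    simp only [Matrix.mul_apply, Finset.sum_mul]
    apply Finset.sum_congr rfl
    intro l _
    rw [hr, Finset.mul_sum]
    apply Finset.sum_congr rfl
    intro k _
    rw [H49.Unitary.ct_apply]
    show bar hF ((g : Matrix (Fin n) (Fin n) K) k i) * f.B (b l) (b k) * (g : Matrix (Fin n) (Fin n) K) l j = _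
    ring
  have hAu : IsUnit A := by
    rw [Matrix.isUnit_iff_isUnit_det, isUnit_iff_ne_zero]
    intro h0
    obtain ⟨x, hx0, hx⟩ := Matrix.exists_mulVec_eq_zero_iff.mpr h0
    apply hx0
    have hv : ∑ j, x j • b j = 0 := by
      apply hnd
      intro w
      rw [← b.sum_repr w, hr]
      apply Finset.sum_eq_zero
      intro i _
      rw [hl]
      have h8 := congrFun hx i
      simp only [Matrix.mulVec, dotProduct, Pi.zero_apply] at h8
      have h9 : ∑ j, x j * f.B (b j) (b i) = 0 := by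
        rw [← h8]
        apply Finset.sum_congr rfl
        intro j _
        exact mul_comm _ _
      rw [h9, mul_zero]
    funext j
    exact Fintype.linearIndependent_iff.mp b.linearIndependent x hv j
  obtain ⟨y, hy⟩ := H49.Unitary.exists_conj_mem_GU hK g A hAu hA
  have hgdet : (g : Matrix (Fin n) (Fin n) K).det = 1 := by
    rw [hg, LinearMap.det_toMatrix, hdet]
  have hydet : ((y * g * y⁻¹ : GL (Fin n) K) : Matrix (Fin n) (Fin n) K).det = 1 := by
    have h1 : ((y * g * y⁻¹ : GL (Fin n) K) : Matrix (Fin n) (Fin n) K) =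
      (y : Matrix (Fin n) (Fin n) K) * (g : Matrix (Fin n) (Fin n) K) * ((y⁻¹ : GL (Fin n) K) : Matrix (Fin n) (Fin n) K) := rfl
    rw [h1, Matrix.det_mul, Matrix.det_mul, hgdet, mul_one, ← Matrix.det_mul]
    have h2 : (y : Matrix (Fin n) (Fin n) K) * ((y⁻¹ : GL (Fin n) K) : Matrix (Fin n) (Fin n) K) = 1 := Units.mul_inv y
    rw [h2, Matrix.det_one]
  let a : Matrix.SpecialLinearGroup (Fin n) K := ⟨((y * g * y⁻¹ : GL (Fin n) K) : Matrix (Fin n) (Fin n) K), hydet⟩
  have ha : a ∈ Cfsg.SU n K q := by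
    intro v w
    exact hy v w
  refine ⟨QuotientGroup.mk ⟨a, ha⟩, ?_⟩
  rw [orderOf_mk hF hn]
  have h5 : (Matrix.SpecialLinearGroup.toGL a : Matrix.GeneralLinearGroup (Fin n) K) = y * g * y⁻¹ := by
    apply Units.ext
    rfl
  show projOrder K (Matrix.SpecialLinearGroup.toGL a : Matrix.GeneralLinearGroup (Fin n) K) = _
  rw [h5]
  have h6 : projOrder K (y * g * y⁻¹) = projOrder K g := by
    unfold projOrder
    have : (QuotientGroup.mk (y * g * y⁻¹) : (Matrix (Fin n) (Fin n) K)ˣ ⧸ scalars K (Matrix (Fin n) (Fin n) K)) =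
      MulAut.conj (QuotientGroup.mk y : (Matrix (Fin n) (Fin n) K)ˣ ⧸ scalars K (Matrix (Fin n) (Fin n) K)) (QuotientGroup.mk g) := rfl
    rw [this]
    exact orderOf_injective (MulAut.conj (QuotientGroup.mk y : (Matrix (Fin n) (Fin n) K)ˣ ⧸ scalars K (Matrix (Fin n) (Fin n) K))).toMonoidHom (MulEquiv.injective _) _
  rw [h6]
  exact projOrder_map (φ : Module.End K V →ₐ[K] Matrix (Fin n) (Fin n) K) φ.injective u

end H46.OrdPSU
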