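import Mathlib
import Cfsg.Agent.Lib.H46.Fpf
import Cfsg.Agent.Lib.H46.Irr
import Cfsg.Agent.Lib.H46.SpModels
import Cfsg.Agent.Lib.H6.SLCard

/-! Element orders of `PSL_n` coprime to `q - 1`. -/

set_option autoImplicit false

namespace H46.PSLAdj

open Module H46.ProdUnit H46.ProjOrder H46.Fpf H46.ExtElt H46.SpModels

variable {F : Type*} [Field F] [Finite F]

theorem exists_root {m : ℕ} (hm : Nat.Coprime m (Nat.card F - 1)) (c : Fˣ) : ∃ d : Fˣ, d ^ m = c := by
  have h : (Nat.card Fˣ).Coprime m := by rw [Nat.card_units]; exact hm.symm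
  exact ⟨(powCoprime h).symm c, (powCoprime h).apply_symm_apply c⟩

theorem eq_one_of_pow {m : ℕ} (hm : Nat.Coprime m (Nat.card F - 1)) {c : F} (h : c ^ m = 1) (hm0 : m ≠ 0) : c = 1 := by
  have hc : c ≠ 0 := by
    rintro rfl
    rw [zero_pow hm0] at h
    exact zero_ne_one h
  have h1 : (Units.mk0 c hc) ^ m = 1 := Units.ext h
  have h2 : (Nat.card Fˣ).Coprime m := by rw [Nat.card_units]; exact hm.symm
  have h3 : Units.mk0 c hc = 1 := (powCoprime h2).injective (by rw [powCoprime_apply, powCoprime_apply, h1, one_pow])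
  exact congrArg Units.val h3

/-- orders coprime to `q - 1` -/
theorem mem_iff_coprime {n : ℕ} (hn : 0 < n) (V : Type*) [AddCommGroup V] [Module F V] (hV : finrank F V = n) {m : ℕ} (hm0 : m ≠ 0)
    (hm : Nat.Coprime m (Nat.card F - 1)) :
    m ∈ Set.range (orderOf : Matrix.ProjectiveSpecialLinearGroup (Fin n) F → ℕ) ↔ ∃ u : (Module.End F V)ˣ, orderOf u = m := by
  haveI : Module.Finite F V := Module.finite_of_finrank_pos (by omega)
  haveI : Nontrivial V := Module.nontrivial_of_finrank_pos (R := F) (by omega)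
  haveI : Finite V := Module.finite_of_finite F
  haveI : Finite (Module.End F V) := Finite.of_injective (fun f : Module.End F V => (f : V → V)) DFunLike.coe_injective
  rw [mem_orders_iff_end (F := F) hn V hV]
  constructor
  · rintro ⟨u, hdet, hu⟩
    obtain ⟨c, hc⟩ := (projOrder_dvd_iff u m).mp (by rw [hu])
    have hc0 : c ≠ 0 := by
      rintro rfl
      rw [map_zero, ← Units.val_pow_eq_pow_val] at hc
      exact (u ^ m).ne_zero hc
    obtain ⟨d, hd⟩ := exists_root hm (Units.mk0 c hc0)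
    have h1 : (scalarUnit V d⁻¹ * u) ^ m = 1 := by
      rw [(scalarUnit_commute d⁻¹ u).mul_pow]
      apply Units.ext
      rw [Units.val_mul, Units.val_pow_eq_pow_val u, hc]
      have h2 : (scalarUnit V d⁻¹) ^ m = scalarUnit V (Units.mk0 c hc0)⁻¹ := by
        unfold scalarUnit
        rw [← map_pow, inv_pow, hd]
      rw [h2]
      ext v
      show (((Units.mk0 c hc0)⁻¹ : Fˣ) : F) • (c • v) = v
      rw [smul_smul, Units.val_inv_eq_inv_val, Units.val_mk0, inv_mul_cancel₀ hc0, one_smul]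
    refine ⟨scalarUnit V d⁻¹ * u, ?_⟩
    apply Nat.dvd_antisymm (orderOf_dvd_of_pow_eq_one h1)
    -- projective order
    rw [← hu, projOrder_dvd_iff]
    have h3 := pow_orderOf_eq_one (scalarUnit V d⁻¹ * u)
    rw [(scalarUnit_commute d⁻¹ u).mul_pow] at h3
    set N := orderOf (scalarUnit V d⁻¹ * u)
    refine ⟨((d ^ N : Fˣ) : F), ?_⟩
    have h4 : u ^ N = scalarUnit V (d ^ N) := by
      have h5 : (scalarUnit V d⁻¹) ^ N = (scalarUnit V (d ^ N))⁻¹ := by
        unfold scalarUnit
        rw [← map_pow, ← map_inv, inv_pow]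
      rw [h5, inv_mul_eq_one] at h3
      exact h3.symm
    rw [← Units.val_pow_eq_pow_val, h4]
    rfl
  · rintro ⟨u, hu⟩
    refine ⟨u, ?_, ?_⟩
    · apply eq_one_of_pow hm _ hm0
      rw [← map_pow, ← Units.val_pow_eq_pow_val, ← hu, pow_orderOf_eq_one, Units.val_one, map_one]
    · symm
      rw [eq_projOrder_iff]
      intro k
      constructor
      · rintro ⟨c, hc⟩
        have h1 : c ^ m = 1 := by
          apply (algebraMap F (Module.End F V)).injective
          rw [map_pow, ← hc, ← pow_mul, mul_comm, pow_mul, ← Units.val_pow_eq_pow_val u m, ← hu, pow_orderOf_eq_one, Units.val_one, one_pow, map_one]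
        rw [eq_one_of_pow hm h1 hm0, map_one] at hc
        rw [← hu, orderOf_dvd_iff_pow_eq_one]
        apply Units.ext
        rw [Units.val_pow_eq_pow_val, hc]; rfl
      · intro hk
        rw [← hu, orderOf_dvd_iff_pow_eq_one] at hk
        exact ⟨1, by rw [← Units.val_pow_eq_pow_val, hk, map_one]; rfl⟩

/-- the order of `q` modulo a prime divisor of the group order -/
theorem orderOf_le {F : Type*} [Field F] [Fintype F] (p : ℕ) [Fact p.Prime] [CharP F p] {n : ℕ} (hn : 1 ≤ n) {r : ℕ} (hr : r.Prime) (hrp : r ≠ p)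
    (h : r ∣ Nat.card (Matrix.ProjectiveSpecialLinearGroup (Fin n) F)) :
    orderOf ((Fintype.card F : ℕ) : ZMod r) ≤ n ∧ 0 < orderOf ((Fintype.card F : ℕ) : ZMod r) := by
  have h1 := H6.SLCard.card_psl (F := F) hn
  have h2 : r ∣ ∏ i : Fin n, (Fintype.card F ^ n - Fintype.card F ^ (i : ℕ)) := by
    rw [← h1]
    exact (h.mul_left _).mul_left _
  rw [Prime.dvd_finsetProd_iff hr.prime] at h2
  obtain ⟨i, -, hi⟩ := h2
  have h3 : Fintype.card F ^ n - Fintype.card F ^ (i : ℕ) = Fintype.card F ^ (i : ℕ) * (Fintype.card F ^ (n - i) - 1) := by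
    rw [Nat.mul_sub, mul_one, ← pow_add]
    congr 2
    omega
  rw [h3] at hi
  have h4 : ¬ r ∣ Fintype.card F := by
    intro h5
    obtain ⟨k, hk, hk2⟩ := FiniteField.card F p
    rw [hk2] at h5
    exact hrp ((Nat.prime_dvd_prime_iff_eq hr Fact.out).mp (hr.dvd_of_dvd_pow h5))
  have h5 : r ∣ Fintype.card F ^ (n - i) - 1 := by
    rcases (Nat.Prime.dvd_mul hr).mp hi with h6 | h6
    · exact absurd (hr.dvd_of_dvd_pow h6) h4
    · exact h6
  have h6 := orderOf_dvd _ _ Fintype.card_pos h5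
  have h7 : 0 < n - i := by omega
  exact ⟨(Nat.le_of_dvd h7 h6).trans (Nat.sub_le _ _), Nat.pos_of_dvd_of_pos h6 h7⟩

/-- elements of an extension field acting on a space -/
theorem exists_model (F : Type*) [Field F] [Finite F] (d t : ℕ) (hd : 0 < d) (ht : t ∣ Nat.card F ^ d - 1) :
    ∃ (K : Type) (_ : Field K) (_ : Finite K) (_ : Algebra F K) (u : (Module.End F K)ˣ), finrank F K = d ∧ orderOf u = t := by
  obtain ⟨K, _, _, _, hK, hKc⟩ := exists_field_ext F d hd
  obtain ⟨β, hβ⟩ := exists_unit_orderOf K t (by rw [hKc]; exact ht)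
  exact ⟨K, inferInstance, inferInstance, inferInstance, mulUnit F β, hK, by rw [orderOf_mulUnit, hβ]⟩

end H46.PSLAdj
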