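import Mathlib
import Cfsg.Agent.Lib.H46.Fpf
import Cfsg.Agent.Lib.H46.Decomp
import Cfsg.Agent.Lib.H46.FieldInv

/-! Commuting semisimple and unipotent elements in dimensions two and three. -/

set_option autoImplicit false

namespace H46.SmallDim

open Module Polynomial H46.ProdUnit H46.ProjOrder H46.Fpf H46.Decomp H46.OrthDec

variable {F : Type*} [Field F] [Finite F] {V : Type*} [AddCommGroup V] [Module F V] [Module.Finite F V]

/-- a unit splits along an invariant decomposition -/
theorem exists_split (u : (Module.End F V)ˣ) (W₁ W₂ : Submodule F V) (hW : IsCompl W₁ W₂)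
    (h₁ : ∀ v ∈ W₁, (u : Module.End F V) v ∈ W₁) (h₂ : ∀ v ∈ W₂, (u : Module.End F V) v ∈ W₂) :
    ∃ (u₁ : (Module.End F W₁)ˣ) (u₂ : (Module.End F W₂)ˣ),
      LinearMap.det (u : Module.End F V) = LinearMap.det (u₁ : Module.End F W₁) * LinearMap.det (u₂ : Module.End F W₂) ∧
      (∀ w : W₁, (((u₁ : Module.End F W₁) w : W₁) : V) = (u : Module.End F V) w) ∧
      (∀ w : W₂, (((u₂ : Module.End F W₂) w : W₂) : V) = (u : Module.End F V) w) := by
  obtain ⟨v₁, v₂, hvd, hvc⟩ := exists_prodUnit u W₁ W₂ hW h₁ h₂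
  have happ : ∀ w : W₁ × W₂, (u : Module.End F V) ((w.1 : V) + (w.2 : V)) =
      (((v₁ : Module.End F W₁) w.1 : W₁) : V) + (((v₂ : Module.End F W₂) w.2 : W₂) : V) := by
    intro w
    conv_lhs => rw [hvc]
    show (Submodule.prodEquivOfIsCompl W₁ W₂ hW) ((prodUnit v₁ v₂ : Module.End F (W₁ × W₂)) ((Submodule.prodEquivOfIsCompl W₁ W₂ hW).symm ((Submodule.prodEquivOfIsCompl W₁ W₂ hW) w))) = _
    rw [LinearEquiv.symm_apply_apply]
    rfl
  refine ⟨v₁, v₂, hvd, fun w => ?_, fun w => ?_⟩
  · have := happ (w, 0)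
    simpa using this.symm
  · have := happ (0, w)
    simpa using this.symm

/-- a `p`-element fixes a nonzero vector of every nonzero invariant submodule -/
theorem exists_fixed (p : ℕ) [Fact p.Prime] [CharP F p] (z : (Module.End F V)ˣ) (hz : z ^ p = 1) (W : Submodule F V) (hW : W ≠ ⊥)
    (hinv : ∀ v ∈ W, (z : Module.End F V) v ∈ W) : ∃ v ∈ W, v ≠ 0 ∧ (z : Module.End F V) v = v := by
  by_contra hcon
  push Not at hcon
  have h1 := dvd_of_inv z Fact.out hz W hinv (fun v hv hv2 => by
    by_contra h3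
    exact hcon v hv h3 hv2)
  haveI : Fintype F := Fintype.ofFinite F
  have h2 : 0 < finrank F W := by
    rw [Nat.pos_iff_ne_zero, Ne, Submodule.finrank_eq_zero]; exact hW
  have h3 : p ∣ Nat.card F ^ finrank F W := by
    apply dvd_pow _ h2.ne'
    rw [Nat.card_eq_fintype_card]
    obtain ⟨k, hk, hk2⟩ := FiniteField.card F p
    rw [hk2]
    exact dvd_pow_self p k.ne_zero
  have h4 : 1 ≤ Nat.card F ^ finrank F W := Nat.one_le_pow _ _ Finite.card_pos
  have h5 := Nat.dvd_sub h3 h1
  rw [Nat.sub_sub_self h4] at h5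
  exact (Fact.out : p.Prime).one_lt.ne' (Nat.dvd_one.mp h5)

/-- a `p`-element is trivial on one-dimensional invariant submodules -/
theorem trivial_of_one (p : ℕ) [Fact p.Prime] [CharP F p] (z : (Module.End F V)ˣ) (hz : z ^ p = 1) (W : Submodule F V) (hW : finrank F W = 1)
    (hinv : ∀ v ∈ W, (z : Module.End F V) v ∈ W) : ∀ v ∈ W, (z : Module.End F V) v = v := by
  obtain ⟨v, hv, hv0, hv2⟩ := exists_fixed p z hz W (by
    intro h; rw [h, finrank_bot] at hW; omega) hinv
  intro w hw
  obtain ⟨c, hc⟩ := (finrank_eq_one_iff_of_nonzero' (⟨v, hv⟩ : W) (by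
    intro h; exact hv0 (congrArg Subtype.val h))).mp hW ⟨w, hw⟩
  have h1 : c • v = w := congrArg Subtype.val hc
  rw [← h1, map_smul, hv2]

omit [Finite F] in
theorem eq_one_of_parts {g : Module.End F V} {W₁ W₂ : Submodule F V} (hW : IsCompl W₁ W₂) (h₁ : ∀ v ∈ W₁, g v = v) (h₂ : ∀ v ∈ W₂, g v = v) : g = 1 := by
  ext v
  obtain ⟨a, ha, b, hb, rfl⟩ : ∃ a ∈ W₁, ∃ b ∈ W₂, a + b = v := by
    have : v ∈ W₁ ⊔ W₂ := by rw [hW.sup_eq_top]; trivial
    exact Submodule.mem_sup.mp this
  rw [map_add, h₁ a ha, h₂ b hb]; rfl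

/-- dimension two -/
theorem two_dim (p : ℕ) [Fact p.Prime] [CharP F p] (hV : finrank F V = 2) (y z : (Module.End F V)ˣ) (hc : Commute (z : Module.End F V) y)
    (P : F[X]) (hP : Squarefree P) (hy : aeval (y : Module.End F V) P = 0) (hz : z ^ p = 1) (hz1 : z ≠ 1) :
    ∃ c : F, (y : Module.End F V) = algebraMap F _ c := by
  haveI : Nontrivial V := Module.nontrivial_of_finrank_pos (R := F) (by omega)
  rcases decomp_or_irreducible (y : Module.End F V) P hP hy with h | h
  · exfalso
    obtain ⟨V₁, V₂, hW, hW₁, hW₂, hinv⟩ := h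
    have h1 : 0 < finrank F V₁ := by
      rw [Nat.pos_iff_ne_zero, Ne, Submodule.finrank_eq_zero]; exact hW₁
    have h2 : 0 < finrank F V₂ := by
      rw [Nat.pos_iff_ne_zero, Ne, Submodule.finrank_eq_zero]; exact hW₂
    have h3 := Submodule.finrank_add_eq_of_isCompl hW
    obtain ⟨hz₁, hz₂⟩ := hinv (z : Module.End F V) hc
    apply hz1
    apply Units.ext
    exact eq_one_of_parts hW (trivial_of_one p z hz V₁ (by omega) hz₁) (trivial_of_one p z hz V₂ (by omega) hz₂)
  · obtain ⟨k, hk0, hk, -, -, hnil⟩ := H46.FieldInv.field_data (y : Module.End F V) _ rfl h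
    have hdim : finrank F (AdjoinRoot (minpoly F (y : Module.End F V))) = (minpoly F (y : Module.End F V)).natDegree :=
      (AdjoinRoot.powerBasis h.ne_zero).finrank.trans (AdjoinRoot.powerBasis_dim h.ne_zero)
    rw [hdim, hV] at hk
    have hcases : k = 1 ∨ (minpoly F (y : Module.End F V)).natDegree = 1 := by
      have h4 : k ∣ 2 := ⟨_, by rw [mul_comm]; exact hk.symm⟩
      rcases (Nat.dvd_prime Nat.prime_two).mp h4 with h5 | h5
      · exact Or.inl h5
      · right; rw [h5] at hk; omega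
    rcases hcases with h4 | h4
    · exfalso
      have h5 : IsNilpotent ((z : Module.End F V) - 1) := by
        refine ⟨p, ?_⟩
        haveI : CharP (Module.End F V) p := charP_of_injective_algebraMap (algebraMap F (Module.End F V)).injective p
        rw [sub_pow_char_of_commute p (Commute.one_right _), one_pow, ← Units.val_pow_eq_pow_val, hz, Units.val_one, sub_self]
      have h6 := hnil (z : Module.End F V) hc h5
      rw [h4, pow_one, sub_eq_zero] at h6
      exact hz1 (Units.ext h6)
    · obtain ⟨c, hc2⟩ : ∃ c, minpoly F (y : Module.End F V) = X - C c := by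
        have hm : (minpoly F (y : Module.End F V)).Monic := minpoly.monic (Algebra.IsIntegral.isIntegral _)
        refine ⟨- (minpoly F (y : Module.End F V)).coeff 0, ?_⟩
        rw [C_neg, sub_neg_eq_add]
        exact hm.eq_X_add_C h4
      refine ⟨c, ?_⟩
      have h5 := minpoly.aeval F (y : Module.End F V)
      rw [hc2, map_sub, aeval_X, aeval_C, sub_eq_zero] at h5
      exact h5

/-- dimension three -/
theorem three_dim (p : ℕ) [Fact p.Prime] [CharP F p] (hV : finrank F V = 3) (y z : (Module.End F V)ˣ) (hc : Commute (z : Module.End F V) y)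
    (P : F[X]) (hP : Squarefree P) (hy : aeval (y : Module.End F V) P = 0) (hz : z ^ p = 1) (hz1 : z ≠ 1)
    (hy1 : ¬ ∃ c : F, (y : Module.End F V) = algebraMap F _ c) :
    ∃ a b : F, a ≠ b ∧ LinearMap.det (y : Module.End F V) = b * a ^ 2 ∧
      ∀ (m : ℕ) (c : F), (y : Module.End F V) ^ m = algebraMap F _ c → a ^ m = c ∧ b ^ m = c := by
  haveI : Nontrivial V := Module.nontrivial_of_finrank_pos (R := F) (by omega)
  have key : ∀ V₁ V₂ : Submodule F V, IsCompl V₁ V₂ → finrank F V₁ = 1 → finrank F V₂ = 2 →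
      (∀ g : Module.End F V, Commute g (y : Module.End F V) → (∀ v ∈ V₁, g v ∈ V₁) ∧ (∀ v ∈ V₂, g v ∈ V₂)) →
      ∃ a b : F, a ≠ b ∧ LinearMap.det (y : Module.End F V) = b * a ^ 2 ∧
      ∀ (m : ℕ) (c : F), (y : Module.End F V) ^ m = algebraMap F _ c → a ^ m = c ∧ b ^ m = c := by
    intro V₁ V₂ hW hd₁ hd₂ hinv
    obtain ⟨hz₁, hz₂⟩ := hinv (z : Module.End F V) hc
    obtain ⟨hy₁, hy₂⟩ := hinv (y : Module.End F V) (Commute.refl _)
    obtain ⟨y₁, y₂, hdet, hv₁, hv₂⟩ := exists_split y V₁ V₂ hW hy₁ hy₂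
    obtain ⟨z₁, z₂, -, hw₁, hw₂⟩ := exists_split z V₁ V₂ hW hz₁ hz₂
    have hz21 : z₂ ≠ 1 := by
      intro h
      apply hz1
      apply Units.ext
      apply eq_one_of_parts hW (trivial_of_one p z hz V₁ hd₁ hz₁)
      intro v hv
      rw [← hw₂ ⟨v, hv⟩, h]; rfl
    obtain ⟨a, ha⟩ := two_dim p hd₂ y₂ z₂ (by
      ext v
      rw [Module.End.mul_apply, Module.End.mul_apply, hw₂, hv₂, hv₂, hw₂, ← Module.End.mul_apply, ← Module.End.mul_apply, hc.eq]) P hP (by
      ext v
      rw [res_aeval hv₂, hy]; rfl) (by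
      apply Units.ext
      ext v
      rw [Units.val_pow_eq_pow_val, res_pow hw₂, ← Units.val_pow_eq_pow_val, hz]; rfl) hz21
    obtain ⟨b, hb⟩ : ∃ b : F, (y₁ : Module.End F V₁) = algebraMap F _ b := by
      obtain ⟨b, hb⟩ := (LinearMap.existsUnique_eq_smul_id_of_finrank_eq_one hd₁ (y₁ : Module.End F V₁)).exists
      refine ⟨b, ?_⟩
      rw [hb]
      rfl
    have hya : ∀ v ∈ V₂, (y : Module.End F V) v = a • v := by
      intro v hv
      rw [← hv₂ ⟨v, hv⟩, ha]; rfl
    have hyb : ∀ v ∈ V₁, (y : Module.End F V) v = b • v := by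
      intro v hv
      rw [← hv₁ ⟨v, hv⟩, hb]; rfl
    refine ⟨a, b, ?_, ?_, ?_⟩
    · rintro rfl
      apply hy1
      refine ⟨a, ?_⟩
      ext v
      obtain ⟨v₁, hv₁', v₂, hv₂', rfl⟩ : ∃ a ∈ V₁, ∃ b ∈ V₂, a + b = v := by
        have : v ∈ V₁ ⊔ V₂ := by rw [hW.sup_eq_top]; trivial
        exact Submodule.mem_sup.mp this
      rw [map_add, hyb _ hv₁', hya _ hv₂', ← smul_add]; rfl
    · rw [hdet, ha, hb]
      rw [show (algebraMap F (Module.End F V₁) b) = b • (LinearMap.id : Module.End F V₁) from rfl,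
        show (algebraMap F (Module.End F V₂) a) = a • (LinearMap.id : Module.End F V₂) from rfl, LinearMap.det_smul, LinearMap.det_smul, LinearMap.det_id,
        LinearMap.det_id, hd₁, hd₂]
      ring
    · intro m c hm
      have hpow : ∀ (W : Submodule F V) (d : F), (∀ v ∈ W, (y : Module.End F V) v = d • v) → ∀ v ∈ W, ((y : Module.End F V) ^ m) v = d ^ m • v := by
        intro W d hd v hv
        have : ∀ j : ℕ, ((y : Module.End F V) ^ j) v = d ^ j • v := by
          intro j
          induction j with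
          | zero => simp
          | succ j ih => rw [pow_succ, Module.End.mul_apply, hd v hv, map_smul, ih, smul_smul, pow_succ, mul_comm]
        exact this m
      have hfin : ∀ (W : Submodule F V) (d : F), 0 < finrank F W → (∀ v ∈ W, (y : Module.End F V) v = d • v) → d ^ m = c := by
        intro W d hW0 hd
        haveI : Nontrivial W := Module.nontrivial_of_finrank_pos (R := F) hW0
        obtain ⟨v, hv⟩ := exists_ne (0 : W)
        have h1 := hpow W d hd v v.2
        rw [hm] at h1
        have h2 : c • (v : V) = d ^ m • (v : V) := h1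
        have h3 : (v : V) ≠ 0 := fun h => hv (Subtype.ext h)
        exact (smul_left_injective F h3 h2).symm
      exact ⟨hfin V₂ a (by omega) hya, hfin V₁ b (by omega) hyb⟩
  rcases decomp_or_irreducible (y : Module.End F V) P hP hy with h | h
  · obtain ⟨V₁, V₂, hW, hW₁, hW₂, hinv⟩ := h
    have h1 : 0 < finrank F V₁ := by
      rw [Nat.pos_iff_ne_zero, Ne, Submodule.finrank_eq_zero]; exact hW₁
    have h2 : 0 < finrank F V₂ := by
      rw [Nat.pos_iff_ne_zero, Ne, Submodule.finrank_eq_zero]; exact hW₂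
    have h3 := Submodule.finrank_add_eq_of_isCompl hW
    rcases (by omega : (finrank F V₁ = 1 ∧ finrank F V₂ = 2) ∨ (finrank F V₂ = 1 ∧ finrank F V₁ = 2)) with h4 | h4
    · exact key V₁ V₂ hW h4.1 h4.2 hinv
    · exact key V₂ V₁ hW.symm h4.1 h4.2 (fun g hg => ⟨(hinv g hg).2, (hinv g hg).1⟩)
  · exfalso
    obtain ⟨k, hk0, hk, -, -, hnil⟩ := H46.FieldInv.field_data (y : Module.End F V) _ rfl h
    have hdim : finrank F (AdjoinRoot (minpoly F (y : Module.End F V))) = (minpoly F (y : Module.End F V)).natDegree :=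
      (AdjoinRoot.powerBasis h.ne_zero).finrank.trans (AdjoinRoot.powerBasis_dim h.ne_zero)
    rw [hdim, hV] at hk
    have hcases : k = 1 ∨ (minpoly F (y : Module.End F V)).natDegree = 1 := by
      have h4 : k ∣ 3 := ⟨_, by rw [mul_comm]; exact hk.symm⟩
      rcases (Nat.dvd_prime Nat.prime_three).mp h4 with h5 | h5
      · exact Or.inl h5
      · right; rw [h5] at hk; omega
    rcases hcases with h4 | h4
    · have h5 : IsNilpotent ((z : Module.End F V) - 1) := by
        refine ⟨p, ?_⟩
        haveI : CharP (Module.End F V) p := charP_of_injective_algebraMap (algebraMap F (Module.End F V)).injective p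
        rw [sub_pow_char_of_commute p (Commute.one_right _), one_pow, ← Units.val_pow_eq_pow_val, hz, Units.val_one, sub_self]
      have h6 := hnil (z : Module.End F V) hc h5
      rw [h4, pow_one, sub_eq_zero] at h6
      exact hz1 (Units.ext h6)
    · apply hy1
      obtain ⟨c, hc2⟩ : ∃ c, minpoly F (y : Module.End F V) = X - C c := by
        have hm : (minpoly F (y : Module.End F V)).Monic := minpoly.monic (Algebra.IsIntegral.isIntegral _)
        refine ⟨- (minpoly F (y : Module.End F V)).coeff 0, ?_⟩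
        rw [C_neg, sub_neg_eq_add]
        exact hm.eq_X_add_C h4
      refine ⟨c, ?_⟩
      have h5 := minpoly.aeval F (y : Module.End F V)
      rw [hc2, map_sub, aeval_X, aeval_C, sub_eq_zero] at h5
      exact h5

end H46.SmallDim
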