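import Mathlib
import Cfsg.Agent.Lib.H46.Fpf
import Cfsg.Agent.Lib.H46.SpModels
import Cfsg.Agent.Lib.H46.OrdPSp
import Cfsg.Agent.Lib.H46.OrthDec
import Cfsg.Agent.Lib.H46.SpDich
import Cfsg.Agent.Lib.H6.SympCard

/-! Element orders of `PSp_{2n}(q)`: isometries of order prime to the characteristic. -/

set_option autoImplicit false

namespace H46.SpAdj

open Module Polynomial H46.ProdUnit H46.ProjOrder H46.Fpf H46.ExtElt H46.SpModels H46.OrthDec H46.SForm H46.SForm.SForm H46.OrdPSp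

universe u

section Basic

variable {F : Type u} [Field F] {V : Type*} [AddCommGroup V] [Module F V] {f : SForm F V (RingHom.id F)}

/-- nondegenerate alternating forms live in even dimension -/
theorem even_finrank {F : Type*} [Field F] {V : Type*} [AddCommGroup V] [Module F V] [Module.Finite F V] {f : SForm F V (RingHom.id F)}
    (ha : f.Alt) (hnd : f.ND) : Even (finrank F V) := by
  obtain ⟨ι, _, _, bs, -, -, -⟩ := H99.Alt.exists_symp_basis V (toBilin f) (fun v => ha v) (fun v hv => hnd v hv)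
  have := Module.finrank_eq_card_basis bs
  rw [this, Fintype.card_prod, Fintype.card_fin]
  exact ⟨_, by ring⟩

theorem alt_pull {W : Submodule F V} (ha : f.Alt) : (f.pull W.subtype).Alt := fun v => ha v

/-- commutators are orthogonal to fixed points -/
theorem orth {g : (Module.End F V)ˣ} (hg : f.Isom g) :
    ∀ v ∈ fix (g : Module.End F V), ∀ w ∈ com (g : Module.End F V), f.B v w = 0 := by
  rintro v hv _ ⟨x, rfl⟩
  rw [mem_fix] at hv
  rw [LinearMap.sub_apply, Module.End.one_apply, f.sub_right]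
  nth_rewrite 1 [← hv]
  rw [hg, sub_self]

/-- scalar isometries of odd order, or in characteristic two, are trivial -/
theorem scalar_eq_one [Nontrivial V] (hnd : f.ND) {u : (Module.End F V)ˣ} (hu : f.Isom u) {N : ℕ} (hN : u ^ N = 1)
    (hN2 : Odd N ∨ (2 : F) = 0) {c : F} (hc : (u : Module.End F V) = algebraMap F _ c) : c = 1 := by
  have h1 : c * c = 1 := norm_one_of_scalar hnd hu hc
  rcases hN2 with h2 | h2
  · have h3 : c ^ N = 1 := by
      apply (algebraMap F (Module.End F V)).injective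
      rw [map_pow, ← hc, ← Units.val_pow_eq_pow_val, hN, Units.val_one, map_one]
    obtain ⟨m, rfl⟩ := h2
    rw [pow_succ, pow_mul, pow_two, h1, one_pow, one_mul] at h3
    exact h3
  · have h3 : (c - 1) * (c - 1) = 0 := by linear_combination h1 - (c - 1) * h2
    exact sub_eq_zero.mp (mul_self_eq_zero.mp h3)

theorem projOrder_eq [Nontrivial V] (hnd : f.ND) {u : (Module.End F V)ˣ} (hu : f.Isom u) (hN2 : Odd (orderOf u) ∨ (2 : F) = 0) :
    projOrder F u = orderOf u := by
  symm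
  rw [eq_projOrder_iff]
  intro k
  constructor
  · rintro ⟨c, hc⟩
    rw [← Units.val_pow_eq_pow_val] at hc
    have h1 := scalar_eq_one hnd (hu.pow k) (N := orderOf u) (by rw [← pow_mul, mul_comm, pow_mul, pow_orderOf_eq_one, one_pow]) hN2 hc
    apply orderOf_dvd_of_pow_eq_one
    apply Units.ext
    rw [hc, h1, map_one, Units.val_one]
  · intro h
    refine ⟨1, ?_⟩
    rw [← Units.val_pow_eq_pow_val, orderOf_dvd_iff_pow_eq_one.mp h, map_one, Units.val_one]

end Basic

/-- lifting elements of `PSp` -/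
theorem exists_lift {F : Type*} [Field F] {n : ℕ} (hn : 0 < n) (x : Cfsg.PSp n F) (hx : Odd (orderOf x) ∨ (2 : F) = 0) :
    ∃ u : (Module.End F (Fin n ⊕ Fin n → F))ˣ, (stdForm n F).Isom u ∧ orderOf u = orderOf x := by
  rcases hx with hx | hx
  · obtain ⟨u, h1, h2, -⟩ := H46.SpDich.exists_lift hn x hx
    exact ⟨u, h1, h2⟩
  · haveI : Nonempty (Fin n ⊕ Fin n) := ⟨Sum.inl ⟨0, hn⟩⟩
    obtain ⟨u, hu, hux⟩ := H46.OrdPSp.exists_isom hn x
    exact ⟨u, hu, by rw [← hux]; exact (projOrder_eq (stdForm_nd n) hu (Or.inr hx)).symm⟩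

/-- realising elements of `PSp` -/
theorem mem {F : Type u} [Field F] {n : ℕ} (hn : 0 < n) {V : Type u} [AddCommGroup V] [Module F V] (f : SForm F V (RingHom.id F))
    (halt : f.Alt) (hnd : f.ND) (hV : finrank F V = 2 * n) (u : (Module.End F V)ˣ) (hu : f.Isom u) (hN : Odd (orderOf u) ∨ (2 : F) = 0) :
    orderOf u ∈ Set.range (orderOf : Cfsg.PSp n F → ℕ) := by
  haveI : Nontrivial V := Module.nontrivial_of_finrank_pos (R := F) (by omega)
  rw [← projOrder_eq hnd hu hN]
  exact mem_orders hn f halt hnd hV u hu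

/-- the numbers `η(k)` -/
def Eta (k e : ℕ) : Prop := (Odd k ∧ e = k) ∨ (Even k ∧ 2 * e = k)

theorem Eta.dvd {k e m : ℕ} (h : Eta k e) (hm : Even m) (hk : k ∣ m) : 2 * e ∣ m := by
  rcases h with ⟨h1, h2⟩ | ⟨h1, h2⟩
  · rw [h2]
    have : Nat.Coprime 2 k := (Nat.coprime_two_left).mpr h1
    exact this.mul_dvd_of_dvd_of_dvd hm.two_dvd hk
  · rw [h2]; exact hk

theorem Eta.pos {k e : ℕ} (h : Eta k e) (hk : 0 < k) : 0 < e := by
  rcases h with ⟨h1, h2⟩ | ⟨h1, h2⟩ <;> omega

/-- bounds on the order of `q` -/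
theorem eta_le {F : Type*} [Field F] [Fintype F] (p : ℕ) [Fact p.Prime] [CharP F p] {n : ℕ} {r : ℕ} (hr : r.Prime) (hrp : r ≠ p)
    (h : r ∣ Nat.card (Cfsg.PSp n F)) {e : ℕ} (he : Eta (orderOf ((Fintype.card F : ℕ) : ZMod r)) e) :
    e ≤ n ∧ 0 < orderOf ((Fintype.card F : ℕ) : ZMod r) := by
  have h1 := H6.SympCard.card_symplecticGroup (F := F) (l := Fin n)
  have h2 : Nat.card (Cfsg.PSp n F) ∣ Nat.card (Matrix.symplecticGroup (Fin n) F) := Subgroup.card_quotient_dvd_card _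
  have h3 := h.trans h2
  rw [h1, Nat.card_eq_fintype_card] at h3
  have h4 : ¬ r ∣ Fintype.card F := by
    intro h5
    obtain ⟨k, hk, hk2⟩ := FiniteField.card F p
    rw [hk2] at h5
    exact hrp ((Nat.prime_dvd_prime_iff_eq hr Fact.out).mp (hr.dvd_of_dvd_pow h5))
  rcases (Nat.Prime.dvd_mul hr).mp h3 with h5 | h5
  · exact absurd (hr.dvd_of_dvd_pow h5) h4
  · rw [Prime.dvd_finsetProd_iff hr.prime] at h5
    obtain ⟨i, hi, hi2⟩ := h5
    rw [Finset.mem_range, Fintype.card_fin] at hi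
    have h6 := orderOf_dvd _ _ Fintype.card_pos hi2
    have h7 : 2 * e ∣ 2 * (i + 1) := he.dvd ⟨i + 1, by ring⟩ h6
    have h8 := Nat.le_of_dvd (by omega) h7
    exact ⟨by omega, Nat.pos_of_dvd_of_pos h6 (by omega)⟩

/-- tori -/
theorem exists_torus (F : Type*) [Field F] [Finite F] {r : ℕ} (hr : r.Prime) (hr2 : r ≠ 2) {k e : ℕ} (hk : k = orderOf ((Nat.card F : ℕ) : ZMod r))
    (he : Eta k e) (hk0 : 0 < k) :
    ∃ (A : Type) (_ : AddCommGroup A) (_ : Module F A) (f : SForm F A (RingHom.id F)) (u : (Module.End F A)ˣ),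
      f.Alt ∧ f.ND ∧ finrank F A = 2 * e ∧ f.Isom u ∧ orderOf u = r := by
  have hq : 0 < Nat.card F := Finite.card_pos
  have he0 := he.pos hk0
  rcases he with ⟨h1, h2⟩ | ⟨h1, h2⟩
  · obtain ⟨A, _, _, _, f, hf1, hf2, hA, hf⟩ := torus_minus F e he0
    obtain ⟨β, hβ1, hβ2⟩ := hf r (dvd_of_orderOf _ _ hq (by rw [← hk, h2]))
    exact ⟨A, inferInstance, inferInstance, f, mulUnit F β, hf1, hf2, hA, hβ1, by rw [orderOf_mulUnit, hβ2]⟩
  · obtain ⟨A, _, _, _, f, hf1, hf2, hA, hf⟩ := torus_plus F e he0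
    have h3 : r ∣ Nat.card F ^ e + 1 := by
      have h4 : r ∣ Nat.card F ^ (2 * e) - 1 := dvd_of_orderOf _ _ hq (by rw [← hk, h2])
      have h5 : Nat.card F ^ (2 * e) - 1 = (Nat.card F ^ e + 1) * (Nat.card F ^ e - 1) := by
        rw [mul_comm 2 e, pow_mul, ← Nat.sq_sub_sq, one_pow]
      rw [h5] at h4
      rcases (Nat.Prime.dvd_mul hr).mp h4 with h6 | h6
      · exact h6
      · have h7 := orderOf_dvd _ _ hq h6
        rw [← hk] at h7
        have := Nat.le_of_dvd he0 h7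
        omega
    obtain ⟨β, hβ1, hβ2⟩ := hf r h3
    exact ⟨A, inferInstance, inferInstance, f, mulUnit F β, hf1, hf2, hA, hβ1, by rw [orderOf_mulUnit, hβ2]⟩

section Dim

variable {F : Type*} [Field F] [Finite F] {V : Type*} [AddCommGroup V] [Module F V] [Module.Finite F V] {f : SForm F V (RingHom.id F)}

/-- dimensions of nondegenerate invariant subspaces without fixed points -/
theorem eta_dvd (ha : f.Alt) {g : (Module.End F V)ˣ} {r : ℕ} (hr : r.Prime) (hrF : (r : F) ≠ 0) (hg : g ^ r = 1)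
    {k e : ℕ} (hk : k = orderOf ((Nat.card F : ℕ) : ZMod r)) (he : Eta k e) (W : Submodule F V) (hW : ∀ v ∈ W, (g : Module.End F V) v ∈ W)
    (hWc : W ≤ com (g : Module.End F V)) (hnd : (f.pull W.subtype).ND) : 2 * e ∣ finrank F W := by
  apply he.dvd (even_finrank (alt_pull ha) hnd)
  rw [hk]
  exact orderOf_dvd_finrank g hr hrF hg W hW hWc

/-- the commutator space is nondegenerate -/
theorem nd_com (ha : f.Alt) (hnd : f.ND) {g : (Module.End F V)ˣ} (hgi : f.Isom g) {r : ℕ} (hrF : (r : F) ≠ 0) (hg : g ^ r = 1) :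
    (f.pull (com (g : Module.End F V)).subtype).ND := by
  have hc := H46.Fpf.isCompl hrF (g := (g : Module.End F V)) (by rw [← Units.val_pow_eq_pow_val, hg, Units.val_one])
  intro v hv
  apply Subtype.ext
  apply hnd
  intro w
  obtain ⟨a, ha', b, hb, rfl⟩ := mem_sup_of_compl hc w
  rw [f.add_right]
  have h1 : f.B v a = 0 := by
    rw [ha.sym a v, orth hgi a ha' v v.2, map_zero, mul_zero]
  rw [h1, zero_add]
  exact hv ⟨b, hb⟩

end Dim

end H46.SpAdj
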