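import Mathlib
import Cfsg.Agent.Lib.H46.SpAdj
import Cfsg.Agent.Lib.H46.SmallDim

/-! Commuting isometries in symplectic groups of small dimension. -/

set_option autoImplicit false

namespace H46.SpAdj

open Module Polynomial H46.ProdUnit H46.ProjOrder H46.Fpf H46.ExtElt H46.SpModels H46.OrthDec H46.SForm H46.SForm.SForm H46.OrdPSp H46.FieldInv H46.SmallDim

section Gen

variable {F : Type*} [Field F] {V : Type*} [AddCommGroup V] [Module F V] [Module.Finite F V] {f : SForm F V (RingHom.id F)}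

/-- splitting of invariant subspaces -/
theorem split_inv {g : (Module.End F V)ˣ} {r : ℕ} (hrF : (r : F) ≠ 0) (hg : g ^ r = 1) (W : Submodule F V)
    (hW : ∀ v ∈ W, (g : Module.End F V) v ∈ W) {w : V} (hw : w ∈ W) :
    ∃ a ∈ W ⊓ fix (g : Module.End F V), ∃ b ∈ W ⊓ com (g : Module.End F V), a + b = w := by
  obtain ⟨g', -, hg'⟩ := exists_res g W hW
  have hc := H46.Fpf.isCompl hrF (g := (g' : Module.End F W)) (by
    ext v
    rw [res_pow hg', ← Units.val_pow_eq_pow_val, hg]; rfl)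
  obtain ⟨a, ha, b, hb, hab⟩ := mem_sup_of_compl hc ⟨w, hw⟩
  refine ⟨a, ⟨a.2, ?_⟩, b, ⟨b.2, ?_⟩, congrArg Subtype.val hab⟩
  · show (a : V) ∈ fix (g : Module.End F V)
    rw [mem_fix, ← hg', mem_fix.mp ha]
  · obtain ⟨x, rfl⟩ := hb
    refine ⟨x, ?_⟩
    rw [LinearMap.sub_apply, LinearMap.sub_apply, Module.End.one_apply, Module.End.one_apply, Submodule.coe_sub, hg']

/-- intersections with commutator spaces are nondegenerate -/
theorem nd_inf (ha : f.Alt) {g : (Module.End F V)ˣ} (hgi : f.Isom g) {r : ℕ} (hrF : (r : F) ≠ 0) (hg : g ^ r = 1)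
    (W : Submodule F V) (hW : ∀ v ∈ W, (g : Module.End F V) v ∈ W) (hnd : (f.pull W.subtype).ND) :
    (f.pull (W ⊓ com (g : Module.End F V)).subtype).ND := by
  intro v hv
  apply Subtype.ext
  have h1 : (⟨v.1, v.2.1⟩ : W) = 0 := by
    apply hnd
    intro w
    obtain ⟨a, ha', b, hb, hab⟩ := split_inv hrF hg W hW w.2
    show f.B (v : V) (w : V) = 0
    rw [← hab, f.add_right]
    have h2 : f.B v a = 0 := by
      rw [ha.sym a v, orth hgi a ha'.2 v v.2.2, map_zero, mul_zero]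
    rw [h2, zero_add]
    exact hv ⟨b, hb⟩
  have h3 : (v : V) = 0 := congrArg Subtype.val h1
  rw [h3]; rfl

theorem res_isom {u : (Module.End F V)ˣ} (hu : f.Isom u) {W : Submodule F V} {u' : (Module.End F W)ˣ}
    (h : ∀ w : W, (((u' : Module.End F W) w : W) : V) = (u : Module.End F V) w) : (f.pull W.subtype).Isom u' := by
  intro v w
  show f.B _ _ = f.B _ _
  rw [Submodule.subtype_apply, Submodule.subtype_apply, h, h, hu]; rfl

end Gen

section Fin

variable {F : Type*} [Field F] [Finite F] {V : Type*} [AddCommGroup V] [Module F V] [Module.Finite F V] {f : SForm F V (RingHom.id F)}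

omit [Finite F] in
theorem com_eq_top {g : (Module.End F V)ˣ} {r : ℕ} (hrF : (r : F) ≠ 0) (hg : g ^ r = 1) (h : ∀ v, (g : Module.End F V) v = v → v = 0) :
    com (g : Module.End F V) = ⊤ := by
  have hc := H46.Fpf.isCompl hrF (g := (g : Module.End F V)) (by rw [← Units.val_pow_eq_pow_val, hg, Units.val_one])
  have : fix (g : Module.End F V) = ⊥ := by
    rw [eq_bot_iff]
    intro v hv
    exact h v (mem_fix.mp hv)
  rw [this] at hc
  have := hc.sup_eq_top
  rwa [bot_sup_eq] at this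

theorem eta_dvd_of_fpf (ha : f.Alt) {g : (Module.End F V)ˣ} {r : ℕ} (hr : r.Prime) (hrF : (r : F) ≠ 0) (hg : g ^ r = 1)
    (hfp : ∀ v, (g : Module.End F V) v = v → v = 0)
    {k e : ℕ} (hk : k = orderOf ((Nat.card F : ℕ) : ZMod r)) (he : Eta k e) (W : Submodule F V) (hW : ∀ v ∈ W, (g : Module.End F V) v ∈ W)
    (hnd : (f.pull W.subtype).ND) : 2 * e ∣ finrank F W :=
  eta_dvd ha hr hrF hg hk he W hW (by rw [com_eq_top hrF hg hfp]; exact le_top) hnd

theorem dvd_of_fpf' {g : (Module.End F V)ˣ} {r : ℕ} (hr : r.Prime) (hrF : (r : F) ≠ 0) (hg : g ^ r = 1)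
    (hfp : ∀ v, (g : Module.End F V) v = v → v = 0)
    {k : ℕ} (hk : k = orderOf ((Nat.card F : ℕ) : ZMod r)) (W : Submodule F V) (hW : ∀ v ∈ W, (g : Module.End F V) v ∈ W) : k ∣ finrank F W := by
  rw [hk]
  exact orderOf_dvd_finrank g hr hrF hg W hW (by rw [com_eq_top hrF hg hfp]; exact le_top)

/-- number theory of `q ^ e + 1` -/
theorem not_dvd_of_plus {q e r k : ℕ} (hq : 0 < q) (hr : r.Prime) (hr2 : r ≠ 2) (hk : k = orderOf ((q : ℕ) : ZMod r)) (h : r ∣ q ^ e + 1) :
    k ∣ 2 * e ∧ ¬ k ∣ e := by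
  constructor
  · rw [hk]
    apply orderOf_dvd _ _ hq
    have h5 : q ^ (2 * e) - 1 = (q ^ e + 1) * (q ^ e - 1) := by
      rw [mul_comm 2 e, pow_mul, ← Nat.sq_sub_sq, one_pow]
    rw [h5]
    exact h.mul_right _
  · intro h1
    have h2 : r ∣ q ^ e - 1 := dvd_of_orderOf _ _ hq (by rw [← hk]; exact h1)
    have h3 := Nat.dvd_sub h h2
    have h4 : 1 ≤ q ^ e := Nat.one_le_pow _ _ hq
    have h5 : q ^ e + 1 - (q ^ e - 1) = 2 := by omega
    rw [h5] at h3
    exact hr2 ((Nat.prime_dvd_prime_iff_eq hr Nat.prime_two).mp h3)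

/-- irreducible isometries -/
theorem irr_torus (p : ℕ) [Fact p.Prime] [CharP F p] [Nontrivial V] (ha : f.Alt) (hnd : f.ND) (u : (Module.End F V)ˣ) (hu : f.Isom u)
    (hirr : Irreducible (minpoly F (u : Module.End F V))) (hne : u ^ 2 ≠ 1) :
    ∃ e : ℕ, 0 < e ∧ 2 * e ∣ finrank F V ∧ u ^ (Nat.card F ^ e + 1) = 1 := by
  obtain ⟨R, hR, hR1, -, hR3⟩ := irred_data (f := f) (fun _ => rfl) (ha.sym.ndr hnd) u hu _ rfl hirr (Or.inr hne)
  obtain ⟨k, hk0, hk, -, -, -⟩ := field_data (u : Module.End F V) _ rfl hirr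
  haveI hfin0 : Module.Finite F (AdjoinRoot (minpoly F (u : Module.End F V))) := (AdjoinRoot.powerBasis hirr.ne_zero).finite
  haveI := Fact.mk hirr
  rw [Module.natCard_eq_pow_finrank (K := F)] at hR
  obtain ⟨e, he⟩ := H46.SpDich.exists_pow_eq p R _ hR hR3
  have h1 : 2 * e = finrank F (AdjoinRoot (minpoly F (u : Module.End F V))) := by
    rw [he, ← pow_mul] at hR
    have := Nat.pow_right_injective (Finite.one_lt_card (α := F)) hR
    omega
  have h2 : 0 < finrank F V := Module.finrank_pos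
  refine ⟨e, ?_, ?_, ?_⟩
  · rcases Nat.eq_zero_or_pos e with h3 | h3
    · rw [← h1, h3] at hk
      omega
    · exact h3
  · rw [← hk, ← h1]; exact Dvd.intro _ rfl
  · rw [← he]; exact hR1

end Fin

end H46.SpAdj
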