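import Mathlib
import Cfsg.Agent.Lib.H46.SigU

/-! Existence of invariant forms with prescribed signs. -/

set_option autoImplicit false

namespace H46.UnipExist

open Matrix Module H49.FormConj2 H49.FormConj3 H46.UniForm H46.BlockCongr H49.GUUnip H46.FormSplit H46.SigU

variable {F : Type*} [Field F]

section blocks
variable {κ : Type*} [Fintype κ] [DecidableEq κ]

/-- congruence preserves the sign -/
theorem sqM_congr {B B' P : Matrix κ κ F} (hP : P.det ≠ 0) (h : Pᵀ * B * P = B') : SqM B ↔ SqM B' := by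
  have key : ∀ {B B' P : Matrix κ κ F}, P.det ≠ 0 → Pᵀ * B * P = B' → SqM B' → SqM B := by
    intro B B' P hP h hB
    obtain ⟨b, hb⟩ := hB
    have hu : IsUnit P.det := IsUnit.mk0 _ hP
    let y : (κ → F) ≃ₗ[F] (κ → F) := Matrix.toLin'OfInv (M := P⁻¹) (M' := P) (Matrix.nonsing_inv_mul _ hu) (Matrix.mul_nonsing_inv _ hu)
    have hy : ∀ u v, Matrix.toBilin' B (y u) (y v) = Matrix.toBilin' B' u v := by
      intro u v
      have h1 : (Matrix.toBilin' B).comp (Matrix.toLin' P) (Matrix.toLin' P) = Matrix.toBilin' B' := by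
        apply LinearMap.BilinForm.toMatrix'.injective
        rw [LinearMap.BilinForm.toMatrix'_comp, LinearMap.toMatrix'_toLin', LinearMap.BilinForm.toMatrix'_toBilin', LinearMap.BilinForm.toMatrix'_toBilin']
        exact h
      rw [← h1]
      rfl
    exact ⟨b.map y, fun i j => by rw [Basis.map_apply, Basis.map_apply, hy, hb]⟩
  constructor
  · intro hB
    have hu : IsUnit P.det := IsUnit.mk0 _ hP
    apply key (P := P⁻¹) (B := B') (B' := B) _ _ hB
    · rw [Matrix.det_nonsing_inv, Ring.inverse_eq_inv']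
      exact inv_ne_zero hP
    · rw [← h, Matrix.transpose_nonsing_inv]
      have hu' : IsUnit Pᵀ.det := by rw [Matrix.det_transpose]; exact hu
      calc Pᵀ⁻¹ * (Pᵀ * B * P) * P⁻¹ = (Pᵀ⁻¹ * Pᵀ) * B * (P * P⁻¹) := by simp only [mul_assoc]
        _ = B := by rw [Matrix.nonsing_inv_mul _ hu', Matrix.mul_nonsing_inv _ hu, one_mul, mul_one]
  · exact key hP h

theorem sqM_one : SqM (1 : Matrix κ κ F) := by
  have h1 : finrank F (κ → F) = Fintype.card κ := Module.finrank_fintype_fun_eq_card F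
  refine ⟨(Pi.basisFun F κ).reindex ((Fintype.equivFin κ).trans (finCongr h1.symm)), ?_⟩
  intro i j
  rw [Basis.reindex_apply, Basis.reindex_apply, Pi.basisFun_apply, Pi.basisFun_apply, Matrix.toBilin'_single, Matrix.one_apply]
  congr 1
  rw [eq_iff_iff]
  exact Equiv.apply_eq_iff_eq _

/-- a matrix congruent to the identity has square determinant -/
theorem det_of_sqM {B : Matrix κ κ F} (h : SqM B) : ∃ P : Matrix κ κ F, P.det ≠ 0 ∧ Pᵀ * B * P = 1 := by
  obtain ⟨b, hb⟩ := h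
  obtain ⟨c, hc⟩ := (sqM_one : SqM (1 : Matrix κ κ F))
  obtain ⟨y, hy⟩ := equiv_of_basis (Matrix.toBilin' B) (Matrix.toBilin' (1 : Matrix κ κ F)) b c (fun i j => by rw [hb, hc])
  exact matrix_of_equiv B 1 y hy

theorem isSquare_det_of_sqM {B : Matrix κ κ F} (h : SqM B) : IsSquare B.det := by
  obtain ⟨P, hP, h1⟩ := det_of_sqM h
  have h2 := congrArg Matrix.det h1
  rw [Matrix.det_mul, Matrix.det_mul, Matrix.det_transpose, Matrix.det_one] at h2
  refine ⟨P.det⁻¹, ?_⟩
  field_simp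
  rw [pow_two]
  linear_combination h2

theorem exists_symm_block [Finite F] (h2 : (2 : F) ≠ 0) [Nonempty κ] (σ : Prop) : ∃ B : Matrix κ κ F, Bᵀ = B ∧ B.det ≠ 0 ∧ (SqM B ↔ σ) := by
  by_cases hσ : σ
  · exact ⟨1, Matrix.transpose_one, by rw [Matrix.det_one]; exact one_ne_zero, by simp only [hσ, iff_true]; exact sqM_one⟩
  · obtain ⟨α, hα⟩ := H48.FinFieldSq.exists_not_isSquare h2
    have hα0 : α ≠ 0 := by rintro rfl; exact hα (IsSquare.zero)
    obtain ⟨k₀⟩ := ‹Nonempty κ›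
    refine ⟨Matrix.diagonal (Function.update (fun _ => 1) k₀ α), Matrix.diagonal_transpose _, ?_, ?_⟩
    · rw [Matrix.det_diagonal, Finset.prod_update_of_mem (Finset.mem_univ _)]
      simp [hα0]
    · simp only [hσ, iff_false]
      intro h
      apply hα
      have h3 := isSquare_det_of_sqM h
      rw [Matrix.det_diagonal, Finset.prod_update_of_mem (Finset.mem_univ _)] at h3
      simpa using h3

theorem exists_alt_block (hev : Even (Fintype.card κ)) : ∃ B : Matrix κ κ F, Bᵀ = -B ∧ B.det ≠ 0 := by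
  obtain ⟨m, hm⟩ := hev
  have e : κ ≃ Fin m ⊕ Fin m := Fintype.equivOfCardEq (by rw [hm, Fintype.card_sum, Fintype.card_fin])
  refine ⟨(Matrix.J (Fin m) F).submatrix e e, ?_, ?_⟩
  · rw [Matrix.transpose_submatrix, Matrix.J_transpose]
    rfl
  · rw [Matrix.det_submatrix_equiv_self]
    exact (Matrix.isUnit_det_J (Fin m) F).ne_zero

end blocks

section unip
variable {t : ℕ} {d : Fin t → ℕ} (hd : ∀ k, 1 ≤ d k)

theorem BT_transpose {M : Matrix (I d) (I d) F} (hM : M ∈ Mf d F) (i : ℕ) :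
    BT d hd i Mᵀ = ((-1 : F)) ^ (i - 1) • (BT d hd i M)ᵀ := by
  ext ⟨l, hl⟩ ⟨k, hk⟩
  unfold BT
  rw [Matrix.smul_apply, Matrix.transpose_apply, Matrix.of_apply, Matrix.of_apply, Matrix.transpose_apply]
  obtain ⟨w, hw⟩ := (Phi_bijective d hd).2 ⟨M, hM⟩
  have h0 : (Phi d w : Matrix (I d) (I d) F) = M := congrArg Subtype.val hw
  have h1 := entry_left d hd w
  have h2 := entry_right d hd w
  rw [h0] at h1 h2
  show M (z0 d hd k) (tp d hd l) = (-1) ^ (i - 1) • M (tp d hd k) (z0 d hd l)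
  have e : ((-1 : F)) ^ (d k - 1) = (-1) ^ (i - 1) := by rw [hk]
  rw [h2 k l (hk.trans hl.symm), h1 k l, smul_eq_mul, e]

theorem transpose_mem {M : Matrix (I d) (I d) F} (hM : M ∈ Mf d F) : Mᵀ ∈ Mf d F := by
  rw [mem_Mf] at hM ⊢
  conv_rhs => rw [← hM]
  rw [Matrix.transpose_mul, Matrix.transpose_mul, Matrix.transpose_transpose, mul_assoc]

theorem BT_add (i : ℕ) (M M' : Matrix (I d) (I d) F) : BT d hd i (M + M') = BT d hd i M + BT d hd i M' := rfl

theorem BT_smul (i : ℕ) (c : F) (M : Matrix (I d) (I d) F) : BT d hd i (c • M) = c • BT d hd i M := rfl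

/-- invariant forms with prescribed blocks -/
theorem exists_blocks (h2 : (2 : F) ≠ 0) {ε : F} (hε : ε * ε = 1) (B : (i : ℕ) → Matrix {k : Fin t // d k = i} {k : Fin t // d k = i} F)
    (hB : ∀ i, (B i)ᵀ = (ε * (-1) ^ (i - 1)) • B i) (hdet : ∀ i, (B i).det ≠ 0) :
    ∃ M ∈ Mf d F, Mᵀ = ε • M ∧ M.det ≠ 0 ∧ ∀ i, BT d hd i M = B i := by
  obtain ⟨g, hg, hgB⟩ := exists_BL hd B
  have hM0 := G0_mem hg
  obtain ⟨M0, hM0d⟩ : ∃ M0, M0 = G0 d F * g := ⟨_, rfl⟩
  rw [← hM0d] at hM0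
  have hblk : ∀ i, BT d hd i M0 = B i := by
    intro i; rw [hM0d, BT_G0 hd hg, hgB]
  have hmem : (2 : F)⁻¹ • (M0 + ε • M0ᵀ) ∈ Mf d F :=
    Submodule.smul_mem _ _ (Submodule.add_mem _ hM0 (Submodule.smul_mem _ _ (transpose_mem hM0)))
  have hb : ∀ i, BT d hd i ((2 : F)⁻¹ • (M0 + ε • M0ᵀ)) = B i := by
    intro i
    rw [BT_smul, BT_add, BT_smul, BT_transpose hd hM0, hblk, hB, smul_smul, smul_smul]
    have h3 : ε * (-1) ^ (i - 1) * (ε * (-1) ^ (i - 1)) = (1 : F) := by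
      rw [mul_mul_mul_comm, hε, ← mul_pow]; simp
    rw [h3, one_smul, ← two_smul F, smul_smul, inv_mul_cancel₀ h2, one_smul]
  refine ⟨_, hmem, ?_, ?_, hb⟩
  · rw [Matrix.transpose_smul, Matrix.transpose_add, Matrix.transpose_smul, Matrix.transpose_transpose, smul_comm ε (2 : F)⁻¹, smul_add ε, smul_smul ε ε, hε, one_smul, add_comm]
  · rw [det_BT hd hmem]
    intro i
    rw [hb]; exact hdet i

/-- forms from matrices -/
theorem IF_of_matrix {c ε : F} (hc : c * c = 1) {M : Matrix (I d) (I d) F} (hM : M ∈ Mf d F) (hs : Mᵀ = ε • M) (hdet : M.det ≠ 0) :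
    IF (TJ d c) ε (Matrix.toBilin' M) ∧ mt (Matrix.toBilin' M) = M := by
  refine ⟨⟨?_, ?_, ?_⟩, LinearMap.BilinForm.toMatrix'_toBilin' M⟩
  · intro x hx
    exact (nondeg_of_det hdet).1 x hx
  · intro u v
    rw [swap_form, hs, map_smul, LinearMap.smul_apply, LinearMap.smul_apply, smul_eq_mul]
  · intro u v
    have h1 : (Matrix.toBilin' M).comp (TJ d c) (TJ d c) = Matrix.toBilin' M := by
      apply LinearMap.BilinForm.toMatrix'.injective
      rw [LinearMap.BilinForm.toMatrix'_comp, LinearMap.BilinForm.toMatrix'_toBilin']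
      unfold TJ
      rw [LinearMap.toMatrix'_toLin', Matrix.transpose_smul, Matrix.smul_mul, Matrix.smul_mul, Matrix.mul_smul, smul_smul, hc, one_smul]
      exact hM
    conv_rhs => rw [← h1]
    rfl

/-- existence of invariant forms with prescribed signs -/
theorem exists_form_unip [Finite F] (h2 : (2 : F) ≠ 0) {c ε : F} (hc : c * c = 1) (hε : ε * ε = 1)
    (hev : ∀ i, ε * (-1) ^ (i - 1) = -1 → Even (Fintype.card {k : Fin t // d k = i})) (σ : ℕ → Prop) :
    ∃ f : LinearMap.BilinForm F (I d → F), IF (TJ d c) ε f ∧ ∀ i, ε * (-1) ^ (i - 1) = 1 → (∃ k, d k = i) → (sgn hd i f ↔ σ i) := by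
  have h1 : ∀ i, ∃ B : Matrix {k : Fin t // d k = i} {k : Fin t // d k = i} F, Bᵀ = (ε * (-1) ^ (i - 1)) • B ∧ B.det ≠ 0 ∧
      (ε * (-1) ^ (i - 1) = 1 → (∃ k, d k = i) → (SqM B ↔ σ i)) := by
    intro i
    have hu : ε * (-1) ^ (i - 1) = 1 ∨ ε * (-1) ^ (i - 1) = -1 := by
      apply mul_self_eq_one_iff.mp
      rw [mul_mul_mul_comm, hε, ← mul_pow]
      simp
    rcases hu with hu | hu
    · rw [hu]
      by_cases hk : ∃ k, d k = i
      · haveI : Nonempty {k : Fin t // d k = i} := ⟨⟨hk.choose, hk.choose_spec⟩⟩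
        obtain ⟨B, a, b, c⟩ := exists_symm_block (F := F) (κ := {k : Fin t // d k = i}) h2 (σ i)
        exact ⟨B, by rw [one_smul]; exact a, b, fun _ _ => c⟩
      · refine ⟨1, by rw [one_smul, Matrix.transpose_one], by rw [Matrix.det_one]; exact one_ne_zero, fun _ h => absurd h hk⟩
    · obtain ⟨B, a, b⟩ := exists_alt_block (F := F) (κ := {k : Fin t // d k = i}) (hev i hu)
      refine ⟨B, by rw [hu, neg_one_smul]; exact a, b, fun h => ?_⟩
      exfalso
      rw [hu] at h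
      apply h2
      have h5 : (2 : F) = 1 + 1 := by norm_num
      rw [h5]; nth_rw 1 [← h]; ring
  choose B hB1 hB2 hB3 using h1
  obtain ⟨M, hM, hs, hdet, hb⟩ := exists_blocks hd h2 hε B hB1 hB2
  obtain ⟨hf, hmt⟩ := IF_of_matrix (c := c) hc hM hs hdet
  refine ⟨_, hf, ?_⟩
  intro i hi hk
  unfold sgn
  rw [hmt, hb]
  exact hB3 i hi hk

/-- equivalent forms have the same signs -/
theorem sgn_of_eqv {c : F} (hc : c ≠ 0) (hcc : c * c = 1) {ε : F} (hε : ε ≠ 0) {f f' : LinearMap.BilinForm F (I d → F)} (hf : IF (TJ d c) ε f) (h : Eqv (TJ d c) f f') (i : ℕ) : sgn hd i f ↔ sgn hd i f' := by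
  obtain ⟨y, hy1, hy2⟩ := h
  obtain ⟨g, hg⟩ : ∃ g, g = LinearMap.toMatrix' (y : (I d → F) →ₗ[F] (I d → F)) := ⟨_, rfl⟩
  have hgy : Matrix.toLin' g = (y : (I d → F) →ₗ[F] (I d → F)) := by rw [hg]; exact Matrix.toLin'_toMatrix' _
  have hcm : Cm d g := by
    have h1 : Matrix.toLin' (g * (c • Cfsg.jordanTypeMatrix d F)) = Matrix.toLin' ((c • Cfsg.jordanTypeMatrix d F) * g) := by
      apply LinearMap.ext
      intro v
      rw [Matrix.toLin'_mul_apply, Matrix.toLin'_mul_apply, hgy]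
      exact hy1 v
    have h2 := Matrix.toLin'.injective h1
    rw [Matrix.mul_smul, Matrix.smul_mul] at h2
    exact smul_right_injective _ hc h2
  have hgd : g.det ≠ 0 := by
    rw [hg, LinearMap.det_toMatrix']
    exact (LinearEquiv.isUnit_det' y).ne_zero
  obtain ⟨a1, a2, a3⟩ := mt_facts hcc hε hf
  have hm : gᵀ * mt f * g = mt f' := by
    have h1 : f.comp (y : (I d → F) →ₗ[F] (I d → F)) (y : (I d → F) →ₗ[F] (I d → F)) = f' := by
      apply LinearMap.ext
      intro u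
      apply LinearMap.ext
      intro v
      exact hy2 u v
    have h2 := congrArg LinearMap.BilinForm.toMatrix' h1
    rw [LinearMap.BilinForm.toMatrix'_comp, ← hg] at h2
    exact h2
  unfold sgn
  rw [← hm, BT_congr hd hcm a1]
  exact sqM_congr ((det_BL hd hcm).mp hgd i) rfl

end unip

end H46.UnipExist
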