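import Mathlib
import Cfsg.Agent.Lib.H46.UnipExist

/-! Determinants of invariant forms of unipotent matrices. -/

set_option autoImplicit false

namespace H46.UniDet

open Matrix H48.JTCent H49.GUUnip H46.UniForm H46.BlockCongr H46.UnipExist H46.FormSplit H46.SigU H49.FormConj2

variable {F : Type*} [Field F] {t : ℕ} (d : Fin t → ℕ) (hd : ∀ k, 1 ≤ d k)

theorem hblock (w : (k l : Fin t) → Fin (d l) → F) : ∀ (j i : ℕ), j < i → (((mat d w)ᵀ.toSquareBlock (bf d)
      (toLex (j, OrderDual.toDual i))).det = (blk d hd w i).det) := by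
  intro j i hji
  rw [← Matrix.det_transpose (blk d hd w i)]
  let e : {k : Fin t // d k = i} ≃ {p : (k : Fin t) × Fin (d k) // bf d p = toLex (j, OrderDual.toDual i)} :=
    { toFun := fun k => ⟨⟨k.1, ⟨j, by rw [k.2]; exact hji⟩⟩, by
        change toLex (j, OrderDual.toDual (d k.1)) = _
        rw [k.2]⟩
      invFun := fun p => ⟨p.1.1, by
        have := p.2
        rw [bf] at this
        have h := congrArg (fun x => OrderDual.ofDual (ofLex x).2) this
        exact h⟩
      left_inv := fun k => rfl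
      right_inv := by
        rintro ⟨⟨k, l⟩, h⟩
        apply Subtype.ext
        have h2 := congrArg (fun x => (ofLex x).1) h
        have h3 : (l : ℕ) = j := h2
        subst h3
        rfl }
  rw [← Matrix.det_submatrix_equiv_self e]
  congr 1
  ext k l
  simp only [Matrix.submatrix_apply, Matrix.toSquareBlock_def, Matrix.of_apply,
    Matrix.transpose_apply, blk, mat, e, Equiv.coe_fn_mk]
  rw [dif_pos le_rfl]
  congr 1
  apply Fin.ext
  simp

theorem det_mat_eq (w : (k l : Fin t) → Fin (d l) → F) (hw : w ∈ X d F) :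
    (mat d w).det = ∏ i ∈ Finset.univ.image d, (blk d hd w i).det ^ i := by
  classical
  rw [← Matrix.det_transpose, (mat_triangular d w hw).det]
  have h1 : ∀ i ∈ Finset.univ.image d, (blk d hd w i).det ^ i =
      ∏ j ∈ Finset.range i, ((mat d w)ᵀ.toSquareBlock (bf d) (toLex (j, OrderDual.toDual i))).det := by
    intro i _
    rw [Finset.prod_congr rfl (fun j hj => hblock d hd w j i (Finset.mem_range.mp hj)), Finset.prod_const, Finset.card_range]
  rw [Finset.prod_congr rfl h1, Finset.prod_sigma']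
  symm
  apply Finset.prod_bij (fun (x : (_ : ℕ) × ℕ) _ => (toLex (x.2, OrderDual.toDual x.1) : ℕ ×ₗ ℕᵒᵈ))
  · rintro ⟨i, j⟩ h
    rw [Finset.mem_sigma, Finset.mem_image, Finset.mem_range] at h
    obtain ⟨⟨k, _, hk⟩, hj⟩ := h
    simp only at hk hj
    rw [Finset.mem_image]
    refine ⟨⟨k, ⟨j, by rw [hk]; exact hj⟩⟩, Finset.mem_univ _, ?_⟩
    rw [bf]
    simp only [hk]
  · rintro ⟨i, j⟩ _ ⟨i', j'⟩ _ h
    have h2 := congrArg (fun x => (ofLex x).1) h
    have h3 := congrArg (fun x => OrderDual.ofDual (ofLex x).2) h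
    simp only [ofLex_toLex, OrderDual.ofDual_toDual] at h2 h3
    rw [h2, h3]
  · intro a ha
    rw [Finset.mem_image] at ha
    obtain ⟨⟨k, j⟩, _, rfl⟩ := ha
    refine ⟨⟨d k, (j : ℕ)⟩, ?_, rfl⟩
    rw [Finset.mem_sigma, Finset.mem_image, Finset.mem_range]
    exact ⟨⟨k, Finset.mem_univ _, rfl⟩, j.2⟩
  · rintro ⟨i, j⟩ _
    rfl

variable {d}

/-- the determinant of an invariant form -/
theorem det_form {M : Matrix (I d) (I d) F} (hM : M ∈ Mf d F) : M.det = (G0 d F).det * ∏ i ∈ Finset.univ.image d, (BT d hd i M).det ^ i := by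
  obtain ⟨g, hg, rfl⟩ := exists_G0 hd hM
  obtain ⟨w, hw, rfl, -⟩ := hg.mat hd
  rw [Matrix.det_mul, det_mat_eq d hd w hw]
  congr 1
  refine Finset.prod_congr rfl fun i _ => ?_
  rw [BT_G0 hd hg, BL_mat]

section chi
variable [Fintype F] [DecidableEq F]

theorem chi_cases {a : F} (ha : a ≠ 0) : quadraticChar F a = 1 ∨ quadraticChar F a = -1 := quadraticChar_dichotomy ha

theorem chi_eq_iff {a b : F} (ha : a ≠ 0) (hb : b ≠ 0) : quadraticChar F a = quadraticChar F b ↔ (IsSquare a ↔ IsSquare b) := by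
  rw [← quadraticChar_one_iff_isSquare ha, ← quadraticChar_one_iff_isSquare hb]
  rcases chi_cases ha with h | h <;> rcases chi_cases hb with h' | h' <;> rw [h, h'] <;> norm_num

theorem chi_pow {a : F} (ha : a ≠ 0) (i : ℕ) : quadraticChar F (a ^ i) = if Odd i then quadraticChar F a else 1 := by
  rw [map_pow]
  split_ifs with h
  · rcases chi_cases ha with h' | h' <;> rw [h']
    · exact one_pow _
    · exact h.neg_one_pow
  · rw [Nat.not_odd_iff_even] at h
    rcases chi_cases ha with h' | h' <;> rw [h']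
    · exact one_pow _
    · exact h.neg_one_pow

end chi

/-- if all signs but one agree and the discriminants agree then the last sign agrees -/
theorem det_key [Finite F] {M M' : Matrix (I d) (I d) F} (hM : M ∈ Mf d F) (hM' : M' ∈ Mf d F) (hdet : M.det ≠ 0) (hdet' : M'.det ≠ 0)
    (hsq : IsSquare M.det ↔ IsSquare M'.det) {i₀ : ℕ} (hi : Odd i₀) (hi₀ : ∃ k, d k = i₀)
    (h : ∀ i, Odd i → i ≠ i₀ → (IsSquare (BT d hd i M).det ↔ IsSquare (BT d hd i M').det)) :
    IsSquare (BT d hd i₀ M).det ↔ IsSquare (BT d hd i₀ M').det := by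
  classical
  haveI := Fintype.ofFinite F
  have n1 := (det_BT hd hM).mp hdet
  have n2 := (det_BT hd hM').mp hdet'
  rw [← chi_eq_iff hdet hdet', det_form hd hM, det_form hd hM', map_mul, map_mul, map_prod, map_prod] at hsq
  have hG : quadraticChar F (G0 d F).det ≠ 0 := by
    rw [Ne, quadraticChar_eq_zero_iff]
    exact G0_det d
  have h1 := mul_left_cancel₀ hG hsq
  have hmem : i₀ ∈ Finset.univ.image d := by
    obtain ⟨k, hk⟩ := hi₀
    exact Finset.mem_image.mpr ⟨k, Finset.mem_univ _, hk⟩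
  rw [← Finset.mul_prod_erase _ _ hmem, ← Finset.mul_prod_erase _ _ hmem] at h1
  have h2 : ∏ x ∈ (Finset.univ.image d).erase i₀, quadraticChar F ((BT d hd x M).det ^ x) = ∏ x ∈ (Finset.univ.image d).erase i₀, quadraticChar F ((BT d hd x M').det ^ x) := by
    refine Finset.prod_congr rfl fun x hx => ?_
    rw [chi_pow (n1 x), chi_pow (n2 x)]
    split_ifs with ho
    · exact (chi_eq_iff (n1 x) (n2 x)).mpr (h x ho (Finset.ne_of_mem_erase hx))
    · rfl
  rw [h2] at h1
  have h3 : ∏ x ∈ (Finset.univ.image d).erase i₀, quadraticChar F ((BT d hd x M').det ^ x) ≠ 0 := by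
    rw [Finset.prod_ne_zero_iff]
    intro x _
    rw [Ne, quadraticChar_eq_zero_iff]
    exact pow_ne_zero _ (n2 x)
  have h4 := mul_right_cancel₀ h3 h1
  rw [chi_pow (n1 i₀), chi_pow (n2 i₀), if_pos hi, if_pos hi] at h4
  exact (chi_eq_iff (n1 i₀) (n2 i₀)).mp h4

end H46.UniDet
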