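import Mathlib
import Cfsg.Agent.Lib.H46.UniDet

/-! The discriminant of a symmetric form over a finite field. -/

set_option autoImplicit false

namespace H46.SqForm

open Matrix Module H46.BlockCongr H46.FormSplit H49.FormConj2

variable {F : Type*} [Field F]

section abs
variable {V : Type*} [AddCommGroup V] [Module F V]

theorem isSquare_basis {ι κ : Type*} [Fintype ι] [DecidableEq ι] [Fintype κ] [DecidableEq κ] (b : Basis ι F V) (c : Basis κ F V) (f : LinearMap.BilinForm F V)
    (h : IsSquare (LinearMap.BilinForm.toMatrix b f).det) : IsSquare (LinearMap.BilinForm.toMatrix c f).det := by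
  let e : ι ≃ κ := b.indexEquiv c
  let c' : Basis ι F V := c.reindex e.symm
  have h1 := LinearMap.BilinForm.toMatrix_mul_basis_toMatrix (b := b) c' f
  have h2 : (LinearMap.BilinForm.toMatrix c' f).det = (LinearMap.BilinForm.toMatrix c f).det := by
    rw [← Matrix.det_submatrix_equiv_self e (LinearMap.BilinForm.toMatrix c f)]
    congr 1
    ext i j
    rw [Matrix.submatrix_apply, LinearMap.BilinForm.toMatrix_apply, LinearMap.BilinForm.toMatrix_apply]
    simp [c']
  rw [← h2, ← h1, Matrix.det_mul, Matrix.det_mul, Matrix.det_transpose]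
  obtain ⟨r, hr⟩ := h
  exact ⟨(b.toMatrix c').det * r, by rw [hr]; ring⟩

theorem isSquare_basis_iff {ι κ : Type*} [Fintype ι] [DecidableEq ι] [Fintype κ] [DecidableEq κ] (b : Basis ι F V) (c : Basis κ F V) (f : LinearMap.BilinForm F V) :
    IsSquare (LinearMap.BilinForm.toMatrix b f).det ↔ IsSquare (LinearMap.BilinForm.toMatrix c f).det :=
  ⟨isSquare_basis b c f, isSquare_basis c b f⟩

theorem det_ne_of_ndb {ι : Type*} [Fintype ι] [DecidableEq ι] (b : Basis ι F V) {f : LinearMap.BilinForm F V} (hs : ∀ u v, f u v = f v u) (hn : NDB f) :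
    (LinearMap.BilinForm.toMatrix b f).det ≠ 0 := by
  refine (LinearMap.BilinForm.nondegenerate_iff_det_ne_zero b).mp ?_
  refine ⟨fun x hx => hn x hx, fun x hx => hn x fun y => ?_⟩
  rw [hs, hx y]

variable [FiniteDimensional F V]

/-- `Sq` in terms of the discriminant -/
theorem sq_iff [Finite F] (h2 : (2 : F) ≠ 0) {ι : Type*} [Fintype ι] [DecidableEq ι] (b : Basis ι F V) {f : LinearMap.BilinForm F V} (hs : ∀ u v, f u v = f v u) (hn : NDB f) :
    Sq f ↔ IsSquare (LinearMap.BilinForm.toMatrix b f).det := by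
  constructor
  · rintro ⟨c, hc⟩
    rw [isSquare_basis_iff b c f]
    have : LinearMap.BilinForm.toMatrix c f = 1 := by
      ext i j
      rw [LinearMap.BilinForm.toMatrix_apply, hc, Matrix.one_apply]
    rw [this, Matrix.det_one]
    exact IsSquare.one
  · intro h
    obtain ⟨α, hα⟩ := H48.FinFieldSq.exists_not_isSquare h2
    have hsym : f.IsSymm := ⟨fun u v => hs u v⟩
    have hnd : f.Nondegenerate := ⟨fun x hx => hn x hx, fun x hx => hn x fun y => by rw [hs, hx y]⟩
    rcases Nat.eq_zero_or_pos (finrank F V) with h0 | h0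
    · refine ⟨Module.finBasis F V, fun i => ?_⟩
      exact absurd i.2 (by omega)
    · obtain ⟨n, hnn⟩ : ∃ n, finrank F V = n + 1 := ⟨finrank F V - 1, by omega⟩
      obtain ⟨c, h1, h3, h4⟩ := H16.Forms.exists_orthogonal_basis_symm h2 f hsym hnd hnn α hα
      have hd : LinearMap.BilinForm.toMatrix c f = Matrix.diagonal (Function.update (fun _ => 1) (Fin.last n) (f (c (Fin.last n)) (c (Fin.last n)))) := by
        ext i j
        rw [LinearMap.BilinForm.toMatrix_apply]
        by_cases hij : i = j
        · subst hij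
          rw [Matrix.diagonal_apply_eq]
          by_cases hl : i = Fin.last n
          · subst hl; rw [Function.update_self]
          · rw [Function.update_of_ne hl, h3 _ hl]
        · rw [Matrix.diagonal_apply_ne _ hij, h1 _ _ hij]
      rw [isSquare_basis_iff b c f, hd, Matrix.det_diagonal, Finset.prod_update_of_mem (Finset.mem_univ _)] at h
      have h5 : IsSquare (f (c (Fin.last n)) (c (Fin.last n))) := by simpa using h
      have h6 : f (c (Fin.last n)) (c (Fin.last n)) = 1 := by
        rcases h4 with h4 | h4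
        · exact h4
        · rw [h4] at h5; exact absurd h5 hα
      refine ⟨c.reindex (finCongr hnn.symm), ?_⟩
      intro i j
      rw [Basis.reindex_apply, Basis.reindex_apply]
      by_cases hij : i = j
      · subst hij
        rw [if_pos rfl]
        by_cases hl : (finCongr hnn.symm).symm i = Fin.last n
        · rw [hl]; exact h6
        · exact h3 _ hl
      · rw [if_neg hij]
        exact h1 _ _ (fun h => hij ((finCongr hnn.symm).symm.injective h))

/-- forms with the same discriminant are equivalent -/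
theorem equiv_of_sq [Finite F] (h2 : (2 : F) ≠ 0) {f f' : LinearMap.BilinForm F V} (hs : ∀ u v, f u v = f v u) (hn : NDB f)
    (hs' : ∀ u v, f' u v = f' v u) (hn' : NDB f') (h : Sq f ↔ Sq f') : ∃ y : V ≃ₗ[F] V, ∀ u v, f (y u) (y v) = f' u v :=
  exists_equiv_symm h2 f f' ⟨fun u v => hs u v⟩ ⟨fun u v => hs' u v⟩ ⟨fun x hx => hn x hx, fun x hx => hn x fun y => by rw [hs, hx y]⟩
    ⟨fun x hx => hn' x hx, fun x hx => hn' x fun y => by rw [hs', hx y]⟩ h

/-- invariance of `Sq` -/
theorem sq_congr {W : Type*} [AddCommGroup W] [Module F W] [FiniteDimensional F W] {f : LinearMap.BilinForm F V} {f' : LinearMap.BilinForm F W} (y : W ≃ₗ[F] V)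
    (h : ∀ u v, f (y u) (y v) = f' u v) : Sq f ↔ Sq f' := by
  constructor
  · rintro ⟨b, hb⟩
    refine ⟨(b.map y.symm).reindex (finCongr y.finrank_eq.symm), fun i j => ?_⟩
    rw [Basis.reindex_apply, Basis.reindex_apply, Basis.map_apply, Basis.map_apply, ← h, y.apply_symm_apply, y.apply_symm_apply, hb]
    congr 1
    rw [eq_iff_iff]
    exact Equiv.apply_eq_iff_eq _
  · rintro ⟨b, hb⟩
    refine ⟨(b.map y).reindex (finCongr y.finrank_eq), fun i j => ?_⟩
    rw [Basis.reindex_apply, Basis.reindex_apply, Basis.map_apply, Basis.map_apply, h, hb]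
    congr 1
    rw [eq_iff_iff]
    exact Equiv.apply_eq_iff_eq _

end abs

theorem isSquare_mul_iff [Finite F] {a b : F} (ha : a ≠ 0) (hb : b ≠ 0) : IsSquare (a * b) ↔ (IsSquare a ↔ IsSquare b) := by
  classical
  haveI := Fintype.ofFinite F
  rw [← H46.UniDet.chi_eq_iff ha hb, ← quadraticChar_one_iff_isSquare (mul_ne_zero ha hb), map_mul]
  rcases H46.UniDet.chi_cases ha with h | h <;> rcases H46.UniDet.chi_cases hb with h' | h' <;> rw [h, h'] <;> norm_num

section prod
variable {V W : Type*} [AddCommGroup V] [Module F V] [FiniteDimensional F V] [AddCommGroup W] [Module F W] [FiniteDimensional F W]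

/-- the discriminant of an orthogonal sum -/
theorem sq_prod [Finite F] (h2 : (2 : F) ≠ 0) {f : LinearMap.BilinForm F (V × W)} (hs : ∀ u v, f u v = f v u) (hn : NDB f)
    (h : ∀ v w, f (v, 0) (0, w) = 0) (h1 : NDB (r1 f)) (h1' : NDB (r2 f)) : Sq f ↔ (Sq (r1 f) ↔ Sq (r2 f)) := by
  let b := Module.finBasis F V
  let c := Module.finBasis F W
  have h3 : LinearMap.BilinForm.toMatrix (b.prod c) f = Matrix.fromBlocks (LinearMap.BilinForm.toMatrix b (r1 f)) 0 0 (LinearMap.BilinForm.toMatrix c (r2 f)) := by
    ext i j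
    rw [LinearMap.BilinForm.toMatrix_apply]
    rcases i with i | i <;> rcases j with j | j
    · simp [r1_apply]
    · simp [h]
    · simp [hs _ (b j, 0), h]
    · simp [r2_apply]
  rw [sq_iff h2 (b.prod c) hs hn, h3, Matrix.det_fromBlocks_zero₂₁, sq_iff h2 b (fun u v => hs _ _) h1, sq_iff h2 c (fun u v => hs _ _) h1']
  exact isSquare_mul_iff (det_ne_of_ndb b (fun u v => hs _ _) h1) (det_ne_of_ndb c (fun u v => hs _ _) h1')

end prod

section mat
variable {κ : Type*} [Fintype κ] [DecidableEq κ]

theorem sqM_iff [Finite F] (h2 : (2 : F) ≠ 0) {B : Matrix κ κ F} (hs : Bᵀ = B) (hd : B.det ≠ 0) : SqM B ↔ IsSquare B.det := by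
  unfold SqM
  have h1 : LinearMap.BilinForm.toMatrix (Pi.basisFun F κ) (Matrix.toBilin' B) = B := LinearMap.BilinForm.toMatrix'_toBilin' B
  rw [sq_iff h2 (Pi.basisFun F κ) (f := Matrix.toBilin' B) (fun u v => by rw [swap_form, hs]) (fun x hx => (nondeg_of_det hd).1 x hx), h1]

end mat

end H46.SqForm
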