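import Mathlib

/-! Arithmetic of `(q^n - (-1)^n)/(q + 1)`. -/

set_option autoImplicit false

namespace H46.UNum

open Finset

/-- `(q^n - (-1)^n)/(q+1)` -/
def MM (q n : ℕ) : ℕ := (∑ i ∈ range n, (q : ℤ) ^ i * (-1) ^ (n - 1 - i)).toNat

theorem sum_mul (x : ℤ) (n : ℕ) : (∑ i ∈ range n, x ^ i * (-1) ^ (n - 1 - i)) * (x + 1) = x ^ n - (-1) ^ n := by
  have := geom_sum₂_mul x (-1) n
  rwa [sub_neg_eq_add] at this

theorem MM_eq (q n : ℕ) (hq0 : 0 < q) : (MM q n : ℤ) = ∑ i ∈ range n, (q : ℤ) ^ i * (-1) ^ (n - 1 - i) := by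
  unfold MM
  apply Int.toNat_of_nonneg
  have h := sum_mul (q : ℤ) n
  have hq : (0 : ℤ) < q + 1 := by positivity
  have h1 : (1 : ℤ) ≤ (q : ℤ) ^ n := by exact_mod_cast Nat.one_le_pow n q hq0
  have h2 : (-1 : ℤ) ^ n ≤ 1 := by
    rcases neg_one_pow_eq_or ℤ n with h | h <;> rw [h] <;> norm_num
  by_contra hcon
  push Not at hcon
  have := mul_neg_of_neg_of_pos hcon hq
  rw [h] at this
  linarith

theorem MM_mul (q n : ℕ) (hq : 0 < q) : (MM q n : ℤ) * (q + 1) = (q : ℤ) ^ n - (-1) ^ n := by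
  rw [MM_eq q n hq, sum_mul]

/-- `MM q n ≡ n (-1)^(n-1)` modulo `q + 1` -/
theorem MM_mod (q n : ℕ) (hq : 0 < q) : ((q : ℤ) + 1) ∣ (MM q n : ℤ) - n * (-1) ^ (n - 1) := by
  rw [MM_eq q n hq]
  have h1 : ∀ i ∈ range n, ((q : ℤ) + 1) ∣ (q : ℤ) ^ i * (-1) ^ (n - 1 - i) - (-1) ^ (n - 1) := by
    intro i hi
    rw [mem_range] at hi
    have h2 : (-1 : ℤ) ^ (n - 1) = (-1) ^ i * (-1) ^ (n - 1 - i) := by
      rw [← pow_add]; congr 1; omega
    rw [h2, ← sub_mul]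
    apply Dvd.dvd.mul_right
    have := sub_dvd_pow_sub_pow (q : ℤ) (-1) i
    rwa [sub_neg_eq_add] at this
  have h3 := Finset.dvd_sum h1
  rw [Finset.sum_sub_distrib, Finset.sum_const, card_range, nsmul_eq_mul] at h3
  exact h3

theorem gcd_MM (q n : ℕ) (hq : 0 < q) : Nat.gcd (MM q n) (q + 1) = Nat.gcd n (q + 1) := by
  have hm := MM_mod q n hq
  have hu : ∀ d : ℕ, d ∣ q + 1 → (d ∣ MM q n ↔ d ∣ n) := by
    intro d hd
    have hd' : (d : ℤ) ∣ (q : ℤ) + 1 := by exact_mod_cast hd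
    have h1 : (d : ℤ) ∣ (MM q n : ℤ) - n * (-1) ^ (n - 1) := hd'.trans hm
    have h2 : (d : ℤ) ∣ (n : ℤ) * (-1) ^ (n - 1) ↔ (d : ℤ) ∣ n := by
      rcases neg_one_pow_eq_or ℤ (n - 1) with h | h <;> rw [h]
      · rw [mul_one]
      · rw [mul_neg, mul_one, dvd_neg]
    rw [← Int.natCast_dvd_natCast, ← Int.natCast_dvd_natCast (n := n), ← h2]
    exact (dvd_iff_dvd_of_dvd_sub h1)
  apply Nat.dvd_antisymm
  · exact Nat.dvd_gcd ((hu _ (Nat.gcd_dvd_right _ _)).mp (Nat.gcd_dvd_left _ _)) (Nat.gcd_dvd_right _ _)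
  · exact Nat.dvd_gcd ((hu _ (Nat.gcd_dvd_right _ _)).mpr (Nat.gcd_dvd_left _ _)) (Nat.gcd_dvd_right _ _)

theorem MM_pos (q n : ℕ) (hq : 2 ≤ q) (hn : 0 < n) : 0 < MM q n := by
  rcases Nat.eq_zero_or_pos (MM q n) with h | h
  · exfalso
    have h1 := MM_mul q n (by omega)
    rw [h, Nat.cast_zero, zero_mul] at h1
    have h2 : (2 : ℤ) ≤ (q : ℤ) ^ n := by
      have : 2 ≤ q ^ n := le_trans hq (Nat.le_self_pow hn.ne' q)
      exact_mod_cast this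
    rcases neg_one_pow_eq_or ℤ n with h | h <;> rw [h] at h1 <;> linarith
  · exact h

theorem MM_mul_odd (q n : ℕ) (hq : 0 < q) (hn : Odd n) : MM q n * (q + 1) = q ^ n + 1 := by
  have := MM_mul q n hq
  rw [hn.neg_one_pow, sub_neg_eq_add] at this
  exact_mod_cast this

theorem MM_mul_even (q n : ℕ) (hq : 0 < q) (hn : Even n) : MM q n * (q + 1) = q ^ n - 1 := by
  have := MM_mul q n hq
  rw [hn.neg_one_pow] at this
  have h1 : 1 ≤ q ^ n := Nat.one_le_pow _ _ hq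
  zify [h1]
  exact this

/-- multiplicativity for odd `d` -/
theorem MM_mul_mul (q d k : ℕ) (hq : 0 < q) (hd : Odd d) : MM q (d * k) = MM q d * MM (q ^ d) k := by
  have h1 := MM_mul q (d * k) hq
  have h2 := MM_mul (q ^ d) k (by positivity)
  have h3 := MM_mul q d hq
  rw [hd.neg_one_pow, sub_neg_eq_add] at h3
  push_cast at h2
  have h4 : ((-1 : ℤ)) ^ (d * k) = (-1) ^ k := by rw [pow_mul, hd.neg_one_pow]
  rw [h4, pow_mul, ← h2, ← h3] at h1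
  have h5 : ((q : ℤ) + 1) ≠ 0 := by positivity
  have h6 : (MM q (d * k) : ℤ) = MM q d * MM (q ^ d) k := by
    apply mul_right_cancel₀ h5
    linarith
  exact_mod_cast h6

theorem zpow_eq_one_of_dvd {G : Type*} [Group G] {z : G} {a b : ℤ} (h : z ^ a = 1) (hab : a ∣ b) : z ^ b = 1 := by
  obtain ⟨c, rfl⟩ := hab
  rw [zpow_mul, h, one_zpow]

theorem pow_MM {G : Type*} [Group G] (z : G) (Q q k : ℕ) (hQ : 0 < Q) (hqQ : (q + 1) ∣ Q + 1) (hz : z ^ (q + 1) = 1) (hk : z ^ k = 1) :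
    z ^ MM Q k = 1 := by
  have h1 := MM_mod Q k hQ
  have h2 : z ^ ((MM Q k : ℤ) - k * (-1) ^ (k - 1)) = 1 := by
    apply zpow_eq_one_of_dvd (a := (q : ℤ) + 1)
    · exact_mod_cast hz
    · have : ((q : ℤ) + 1) ∣ (Q : ℤ) + 1 := by exact_mod_cast hqQ
      exact this.trans h1
  have h3 : z ^ ((k : ℤ) * (-1) ^ (k - 1)) = 1 := by
    rw [zpow_mul, zpow_natCast, hk, one_zpow]
  have h4 : z ^ (MM Q k : ℤ) = 1 := by
    have : (MM Q k : ℤ) = ((MM Q k : ℤ) - k * (-1) ^ (k - 1)) + (k : ℤ) * (-1) ^ (k - 1) := by ring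
    rw [this, zpow_add, h2, h3, one_mul]
  exact_mod_cast h4

theorem caseI {G : Type*} [Group G] (θ : G) (q d k : ℕ) (hq : 0 < q) (hd : Odd d) (h1 : θ ^ (q ^ d + 1) = 1)
    (h2 : (θ ^ MM q d) ^ k = 1) : θ ^ MM q (d * k) = 1 := by
  rw [MM_mul_mul q d k hq hd, pow_mul]
  have h3 := MM_mul_odd q d hq hd
  apply pow_MM _ (q ^ d) q k (by positivity) ⟨MM q d, by rw [← h3]; ring⟩ _ h2
  rw [← pow_mul, h3, h1]

/-- the norm exponent -/
theorem caseI_norm {G : Type*} [Group G] (θ : G) (q d : ℕ) (hq : 2 ≤ q) (hd : Odd d) (h1 : θ ^ (q ^ d + 1) = 1) :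
    θ ^ ((q ^ (2 * d) - 1) / (q ^ 2 - 1)) = θ ^ MM q d := by
  have h3 := MM_mul_odd q d (by omega) hd
  obtain ⟨g, hg⟩ : (q - 1) ∣ q ^ d - 1 := by
    have := Nat.sub_dvd_pow_sub_pow q 1 d
    rwa [one_pow] at this
  have hqd : 1 ≤ q ^ d := Nat.one_le_pow _ _ (by omega)
  have hexp : (q ^ (2 * d) - 1) / (q ^ 2 - 1) = MM q d * g := by
    apply Nat.div_eq_of_eq_mul_right
    · have : 2 ^ 2 ≤ q ^ 2 := Nat.pow_le_pow_left hq 2
      omega
    · have e1 : q ^ (2 * d) - 1 = (q ^ d + 1) * (q ^ d - 1) := by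
        rw [mul_comm 2 d, pow_mul, ← Nat.sq_sub_sq, one_pow]
      have e2 : q ^ 2 - 1 = (q + 1) * (q - 1) := by rw [← Nat.sq_sub_sq, one_pow]
      rw [e1, e2, hg, ← h3]; ring
  -- g ≡ 1 mod (q+1)
  have hgz : (g : ℤ) = ∑ i ∈ range d, (q : ℤ) ^ i := by
    have e1 : (∑ i ∈ range d, (q : ℤ) ^ i) * ((q : ℤ) - 1) = (q : ℤ) ^ d - 1 := geom_sum_mul (q : ℤ) d
    have e2 : ((q : ℤ) - 1) * g = (q : ℤ) ^ d - 1 := by
      have : ((q ^ d - 1 : ℕ) : ℤ) = (((q - 1) * g : ℕ) : ℤ) := by rw [hg]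
      rw [Nat.cast_sub hqd, Nat.cast_mul, Nat.cast_sub (by omega)] at this
      push_cast at this
      exact this.symm
    have e3 : ((q : ℤ) - 1) ≠ 0 := by
      have : (2 : ℤ) ≤ q := by exact_mod_cast hq
      linarith
    apply mul_left_cancel₀ e3
    rw [e2, ← e1]; ring
  have hg1 : ((q : ℤ) + 1) ∣ (g : ℤ) - 1 := by
    have e1 : ∀ m : ℕ, ((q : ℤ) + 1) ∣ (∑ i ∈ range (2 * m + 1), (q : ℤ) ^ i) - 1 := by
      intro m
      induction m with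
      | zero => simp
      | succ m ih =>
        rw [show 2 * (m + 1) + 1 = 2 * m + 1 + 1 + 1 by ring, sum_range_succ, sum_range_succ]
        have : (∑ i ∈ range (2 * m + 1), (q : ℤ) ^ i) + (q : ℤ) ^ (2 * m + 1) + (q : ℤ) ^ (2 * m + 1 + 1) - 1 =
          ((∑ i ∈ range (2 * m + 1), (q : ℤ) ^ i) - 1) + (q : ℤ) ^ (2 * m + 1) * ((q : ℤ) + 1) := by ring
        rw [this]
        exact dvd_add ih (dvd_mul_left _ _)
    obtain ⟨m, hm⟩ := hd
    rw [hgz, hm]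
    exact e1 m
  rw [hexp]
  obtain ⟨c, hc⟩ := hg1
  have e4 : θ ^ ((MM q d * g : ℕ) : ℤ) = θ ^ ((MM q d : ℕ) : ℤ) := by
    have : ((MM q d * g : ℕ) : ℤ) = (MM q d : ℤ) + ((q ^ d + 1 : ℕ) : ℤ) * c := by
      have e5 : ((MM q d : ℤ)) * ((q : ℤ) + 1) = ((q ^ d + 1 : ℕ) : ℤ) := by exact_mod_cast h3
      push_cast
      push_cast at e5
      have e6 : (g : ℤ) = 1 + (q + 1) * c := by linarith
      rw [e6, ← e5]; ring
    rw [this, zpow_add, zpow_mul, zpow_natCast θ (q ^ d + 1), h1, one_zpow, mul_one]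
  exact_mod_cast e4

theorem caseII {G : Type*} [Group G] (θ : G) (q d k h : ℕ) (hq : 2 ≤ q) (hh : h * (q ^ 2 - 1) = q ^ (2 * d) - 1)
    (h1 : θ ^ (q ^ (2 * d) - 1) = 1) (h2 : (θ ^ (h * (q - 1))) ^ k = 1) : θ ^ MM q (2 * d * k) = 1 := by
  have e2 : q ^ 2 - 1 = (q + 1) * (q - 1) := by rw [← Nat.sq_sub_sq, one_pow]
  have hQ : 1 ≤ q ^ (2 * d) := Nat.one_le_pow _ _ (by omega)
  -- MM q (2dk) = h (q-1) * Σ q^{2 d i}
  have e3 : MM q (2 * d * k) = h * (q - 1) * ∑ i ∈ range k, (q ^ (2 * d)) ^ i := by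
    have e4 := MM_mul_even q (2 * d * k) (by omega) (by rw [mul_assoc]; exact even_two_mul _)
    have e5 : (∑ i ∈ range k, (q ^ (2 * d)) ^ i) * (q ^ (2 * d) - 1) = q ^ (2 * d * k) - 1 := by
      have := geom_sum_mul_of_one_le hQ k
      rw [← pow_mul] at this
      exact this
    apply Nat.eq_of_mul_eq_mul_right (show 0 < q + 1 by omega)
    rw [e4, ← e5, ← hh, e2]; ring
  rw [e3, pow_mul]
  set z := θ ^ (h * (q - 1)) with hz
  have hz1 : z ^ (q + 1) = 1 := by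
    rw [hz, ← pow_mul, show h * (q - 1) * (q + 1) = h * ((q + 1) * (q - 1)) by ring, ← e2, hh, h1]
  have e6 : (q + 1) ∣ q ^ (2 * d) - 1 := ⟨h * (q - 1), by rw [← hh, e2]; ring⟩
  have e7 : ∀ i : ℕ, z ^ ((q ^ (2 * d)) ^ i) = z := by
    intro i
    induction i with
    | zero => rw [pow_zero, pow_one]
    | succ i ih =>
      rw [pow_succ, pow_mul, ih]
      obtain ⟨c, hc⟩ := e6
      have : q ^ (2 * d) = (q + 1) * c + 1 := by omega
      rw [this, pow_succ, pow_mul, hz1, one_pow, one_mul]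
  have e8 : ∀ k : ℕ, z ^ (∑ i ∈ range k, (q ^ (2 * d)) ^ i) = z ^ k := by
    intro k
    induction k with
    | zero => simp
    | succ k ih => rw [sum_range_succ, pow_add, ih, e7, pow_succ]
  rw [e8, h2]

end H46.UNum
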