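import Mathlib
import Cfsg.Agent.Lib.H46.OrthDec
import Cfsg.Agent.Lib.H46.OrdPSU
import Cfsg.Agent.Lib.H46.SpDich
import Cfsg.Agent.Lib.H46.Singer
import Cfsg.Agent.Lib.H46.UNum

/-! Element orders of `PSU(n, q)`: the torus `(q^n - (-1)^n)/(q+1)`. -/

set_option autoImplicit false

namespace H46.UDich

open Module Polynomial H46.SForm H46.SForm.SForm H46.ProjOrder H46.ProdUnit H46.OrthDec H46.FieldInv H46.ExtElt H46.OrdPSU H46.UNum

section

variable {K : Type*} [Field K] [Fintype K] {q : ℕ}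

/-- multiply a block diagonal element by an element of prime order `r ∣ q + 1` -/
theorem mul_prime_mem (hF : Fintype.card K = q ^ 2) {V₁ V₂ : Type*} [AddCommGroup V₁] [Module K V₁]
    [AddCommGroup V₂] [Module K V₂] [Module.Finite K V₁] [Module.Finite K V₂] [Nontrivial V₁] [Nontrivial V₂]
    (f₁ : SForm K V₁ (bar hF)) (f₂ : SForm K V₂ (bar hF)) (hnd₁ : f₁.ND) (hnd₂ : f₂.ND)
    (u₁ : (Module.End K V₁)ˣ) (u₂ : (Module.End K V₂)ˣ) (hu₁ : f₁.Isom u₁) (hu₂ : f₂.Isom u₂)
    (hdet : LinearMap.det (u₁ : Module.End K V₁) * LinearMap.det (u₂ : Module.End K V₂) = 1)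
    (r : ℕ) (hr : r.Prime) (hrq : r ∣ q + 1) (n : ℕ) (hn2 : 2 ≤ n) (hn : n = finrank K V₁ + finrank K V₂) (hrn : ¬ r ∣ n)
    (hN : ¬ r ∣ projOrder K (prodUnit u₁ u₂)) :
    r * projOrder K (prodUnit u₁ u₂) ∈ Set.range (orderOf : Cfsg.PSU n K q → ℕ) := by
  have hpos1 : 0 < finrank K V₁ := Module.finrank_pos
  have hdim : finrank K (V₁ × V₂) = n := by rw [hn, finrank_prod]
  obtain ⟨lam, hlam⟩ : ∃ x : Kˣ, orderOf x = r := by
    apply exists_unit_orderOf
    rw [Nat.card_eq_fintype_card, hF]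
    have : q ^ 2 - 1 = (q + 1) * (q - 1) := by rw [← Nat.sq_sub_sq, one_pow]
    rw [this]
    exact hrq.mul_right _
  have hlamn : lam ^ (q + 1) = 1 := by
    obtain ⟨c, hc⟩ := hrq
    rw [hc, pow_mul, ← hlam, pow_orderOf_eq_one, one_pow]
  have hnorm : ∀ (x : Kˣ), x ^ (q + 1) = 1 → (x : K) * bar hF x = 1 := by
    intro x hx
    rw [bar_apply, ← pow_succ', ← Units.val_pow_eq_pow_val, hx]; rfl
  set y : (Module.End K (V₁ × V₂))ˣ := prodUnit (scalarUnit V₁ (lam ^ finrank K V₂)) (scalarUnit V₂ ((lam⁻¹) ^ finrank K V₁)) with hy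
  have hyiso : (f₁.prod f₂).Isom y := by
    apply Isom.prod
    · apply isom_scalarUnit
      apply hnorm
      rw [← pow_mul, mul_comm, pow_mul, hlamn, one_pow]
    · apply isom_scalarUnit
      apply hnorm
      rw [← pow_mul, mul_comm, pow_mul, inv_pow, hlamn, inv_one, one_pow]
  have hcomm : Commute (prodUnit u₁ u₂) y := by
    show prodUnit u₁ u₂ * y = y * prodUnit u₁ u₂
    rw [hy, prodUnit_mul, prodUnit_mul, (scalarUnit_commute _ u₁).eq, (scalarUnit_commute _ u₂).eq]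
  have hydet : LinearMap.det (y : Module.End K (V₁ × V₂)) = 1 := by
    rw [hy, det_prodUnit, det_scalarUnit, det_scalarUnit]
    push_cast
    rw [← pow_mul, ← pow_mul, mul_comm (finrank K V₁), ← mul_pow, mul_inv_cancel₀ lam.ne_zero, one_pow]
  have hyr : y ^ r = 1 := by
    rw [hy, prodUnit_pow]
    have h1 : (scalarUnit V₁ (lam ^ finrank K V₂)) ^ r = 1 := by
      unfold scalarUnit
      rw [← map_pow, ← pow_mul, mul_comm, pow_mul, ← hlam, pow_orderOf_eq_one, one_pow, map_one]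
    have h2 : (scalarUnit V₂ (lam⁻¹ ^ finrank K V₁)) ^ r = 1 := by
      unfold scalarUnit
      rw [← map_pow, ← pow_mul, mul_comm, pow_mul, inv_pow, ← hlam, pow_orderOf_eq_one, inv_one, one_pow, map_one]
    rw [h1, h2]
    ext <;> rfl
  have hynot : ¬ (y ∈ scalars K (Module.End K (V₁ × V₂))) := by
    rw [mem_scalars_iff]
    rintro ⟨c, hc⟩
    obtain ⟨v₁, hv₁⟩ := exists_ne (0 : V₁)
    obtain ⟨v₂, hv₂⟩ := exists_ne (0 : V₂)
    have h1 := congrArg (fun f : Module.End K (V₁ × V₂) => f (v₁, v₂)) hc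
    simp only [hy, prodUnit_apply, scalarUnit_apply, Module.algebraMap_end_apply, Prod.smul_mk, Prod.mk.injEq] at h1
    have h2 : ((lam ^ finrank K V₂ : Kˣ) : K) = c := smul_left_injective K hv₁ h1.1
    have h3 : ((lam⁻¹ ^ finrank K V₁ : Kˣ) : K) = c := smul_left_injective K hv₂ h1.2
    have h4 : lam ^ finrank K V₂ = lam⁻¹ ^ finrank K V₁ := Units.ext (h2.trans h3.symm)
    have h5 : lam ^ (finrank K V₁ + finrank K V₂) = 1 := by
      rw [pow_add, h4, ← mul_pow, mul_inv_cancel, one_pow]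
    rw [← hn] at h5
    exact hrn (hlam ▸ orderOf_dvd_of_pow_eq_one h5)
  have hmem := mem_orders hF hn2 (f₁.prod f₂) (hnd₁.prod hnd₂) hdim (prodUnit u₁ u₂ * y)
    ((Isom.prod hu₁ hu₂).mul hyiso) (by rw [Units.val_mul, map_mul, det_prodUnit, hydet, hdet, mul_one])
  have hY : orderOf (QuotientGroup.mk y : (Module.End K (V₁ × V₂))ˣ ⧸ scalars K (Module.End K (V₁ × V₂))) = r := by
    have : Fact r.Prime := ⟨hr⟩
    apply orderOf_eq_prime
    · rw [← QuotientGroup.mk_pow, hyr]; rfl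
    · rw [Ne, QuotientGroup.eq_one_iff]
      exact hynot
  have h7 : projOrder K (prodUnit u₁ u₂ * y) = r * projOrder K (prodUnit u₁ u₂) := by
    unfold projOrder
    rw [QuotientGroup.mk_mul, Commute.orderOf_mul_eq_mul_orderOf_of_coprime, hY, mul_comm]
    · exact hcomm.map (QuotientGroup.mk' (scalars K (Module.End K (V₁ × V₂))))
    · rw [hY, Nat.coprime_comm]
      exact (Nat.Prime.coprime_iff_not_dvd hr).mpr hN
  rwa [h7] at hmem

/-- elements with `y ^ (q+1) = 1` lie in the field with `q^2` elements -/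
theorem mem_of_norm_one (hF : Fintype.card K = q ^ 2) {E : Type*} [Field E] [Algebra K E] (y : E) (hy : y ^ (q + 1) = 1) :
    ∃ c : K, y = algebraMap K E c := by
  apply H46.Singer.mem_of_pow_card
  have h1 : Nat.card K = (q + 1) * (q - 1) + 1 := by
    rw [Nat.card_eq_fintype_card, hF]
    have hq : 1 < q := H16.Herm.one_lt_q hF
    have : q ^ 2 - 1 = (q + 1) * (q - 1) := by rw [← Nat.sq_sub_sq, one_pow]
    have h2 : 1 ≤ q ^ 2 := Nat.one_le_pow _ _ (by omega)
    omega
  rw [h1, pow_succ, pow_mul, hy, one_pow, one_mul]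

/-- the order of an isometry divides `(q+1)` times its projective order -/
theorem orderOf_dvd (hF : Fintype.card K = q ^ 2) {V : Type*} [AddCommGroup V] [Module K V] [Nontrivial V] {f : SForm K V (bar hF)}
    (hnd : f.ND) (u : (Module.End K V)ˣ) (hu : f.Isom u) : orderOf u ∣ projOrder K u * (q + 1) := by
  obtain ⟨c, hc⟩ := (projOrder_dvd_iff u (projOrder K u)).mp dvd_rfl
  rw [orderOf_dvd_iff_pow_eq_one, pow_mul]
  rw [← Units.val_pow_eq_pow_val] at hc
  have h1 : c * bar hF c = 1 := norm_one_of_scalar hnd (hu.pow _) hc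
  rw [bar_apply, ← pow_succ'] at h1
  apply Units.ext
  rw [Units.val_pow_eq_pow_val, hc, ← map_pow, h1, map_one]; rfl

theorem norm_pow {E : Type*} [Field E] [Finite E] [Algebra K E] (x : E) :
    algebraMap K E (Algebra.norm K x) = x ^ ((Nat.card E - 1) / (Nat.card K - 1)) :=
  FiniteField.algebraMap_norm_eq_pow

end

/-- the p'-part of an element order of `PSU`, prime to `r` -/
theorem dichotomy {K : Type*} [Field K] [Fintype K] {q : ℕ} (hF : Fintype.card K = q ^ 2) (p : ℕ) [Fact p.Prime] [CharP K p] {n : ℕ} (hn : 2 ≤ n)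
    (r : ℕ) (hr : r.Prime) (hrq : r ∣ q + 1) (hrn : ¬ r ∣ n)
    (x : Cfsg.PSU n K q) (hx : ¬ r ∣ orderOf x) :
    (r * orderOf x ∈ Set.range (orderOf : Cfsg.PSU n K q → ℕ)) ∨
      orderOf x / p ^ (orderOf x).factorization p ∣ MM q n / Nat.gcd n (q + 1) := by
  have hp : p.Prime := Fact.out
  have hne : Nonempty (Fin n) := ⟨⟨0, by omega⟩⟩
  have hq2 : 2 ≤ q := H16.Herm.one_lt_q hF
  obtain ⟨u, hu, hdet, hux⟩ := exists_isom hF hn x
  obtain ⟨f, hf⟩ : ∃ f, f = hForm hF n := ⟨_, rfl⟩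
  have hnd : f.ND := hf ▸ hForm_nd hF n
  have hsym : f.Sym 1 := hf ▸ hForm_sym hF n
  rw [← hf] at hu
  have hndr : f.NDR := hsym.ndr hnd
  have hrank : finrank K (Fin n → K) = n := by simp
  obtain ⟨N, hN⟩ : ∃ N, N = orderOf x := ⟨_, rfl⟩
  rw [← hN] at hux hx ⊢
  have hNpos : 0 < N := by rw [hN]; exact orderOf_pos x
  obtain ⟨e0, he0⟩ : ∃ e0, e0 = N.factorization p := ⟨_, rfl⟩
  obtain ⟨t, ht⟩ : ∃ t, t = N / p ^ e0 := ⟨_, rfl⟩
  rw [← he0, ← ht]
  have hpe : p ^ e0 ∣ N := he0 ▸ Nat.ordProj_dvd N p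
  have htp : ¬ p ∣ t := by rw [ht, he0]; exact Nat.not_dvd_ordCompl hp hNpos.ne'
  have htF : (t : K) ≠ 0 := by
    rw [Ne, CharP.cast_eq_zero_iff K p]
    exact htp
  obtain ⟨s, hs⟩ : ∃ s, s = u ^ p ^ e0 := ⟨_, rfl⟩
  have hst : projOrder K s = t := by
    unfold projOrder
    rw [hs, QuotientGroup.mk_pow, orderOf_pow_of_dvd (pow_pos hp.pos e0).ne']
    · change projOrder K u / p ^ e0 = t
      rw [hux, ht]
    · change p ^ e0 ∣ projOrder K u
      rw [hux]
      exact hpe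
  obtain ⟨c, hc⟩ := (projOrder_dvd_iff s t).mp (by rw [hst])
  have hc0 : c ≠ 0 := by
    rintro rfl
    rw [map_zero, ← Units.val_pow_eq_pow_val] at hc
    exact (s ^ t).ne_zero hc
  have hP : Squarefree (X ^ t - C c : K[X]) := (separable_X_pow_sub_C c htF hc0).squarefree
  have hsu : f.Isom s := by rw [hs]; exact hu.pow _
  have hcomm : Commute (u : Module.End K (Fin n → K)) (s : Module.End K (Fin n → K)) := by
    rw [hs, Units.val_pow_eq_pow_val]
    exact Commute.self_pow _ _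
  have hsdet : LinearMap.det (s : Module.End K (Fin n → K)) = 1 := by
    rw [hs, Units.val_pow_eq_pow_val, map_pow, hdet, one_pow]
  have hMM1 : MM q n / Nat.gcd n (q + 1) * (q + 1) = MM q n * ((q + 1) / Nat.gcd n (q + 1)) := by
    have h1 : Nat.gcd n (q + 1) ∣ MM q n := by
      rw [← gcd_MM q n (by omega)]; exact Nat.gcd_dvd_left _ _
    rw [Nat.div_mul_right_comm h1, Nat.mul_div_assoc _ (Nat.gcd_dvd_right _ _)]
  have hbarne : ∃ c : K, bar hF c ≠ c := exists_bar_ne hF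
  have hdodd : ∀ d : ℕ, (∀ c : K, bar hF c = c ^ (q ^ d)) → Odd d := by
    intro d hd
    rw [← Nat.not_even_iff_odd]
    intro hev
    obtain ⟨c, hc⟩ := hbarne
    apply hc
    rw [hd c]
    obtain ⟨m, rfl⟩ := hev
    have : ∀ m : ℕ, c ^ (q ^ (m + m)) = c := by
      intro m
      induction m with
      | zero => simp
      | succ m ih =>
        rw [show m + 1 + (m + 1) = (m + m) + 2 by ring, pow_add, pow_mul, ih, ← hF, FiniteField.pow_card]
    exact this m
  rcases structure_isom (bar_bar hF) (ε := (1 : K)) ⟨map_one _, by ring⟩ hsym hnd s hsu _ hP (by simp [hc]) with h | h | h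
  · left
    obtain ⟨W₁, W₂, hW, hW₁, hW₂, horth, hinv⟩ := h
    obtain ⟨hi₁, hi₂⟩ := hinv _ hcomm
    obtain ⟨u₁, u₂, hu₁, hu₂, hnd₁, hnd₂, hdet', -, hpo, -, -⟩ := decomp_isom hsym hnd W₁ W₂ hW horth u hu hi₁ hi₂
    have hnt₁ : Nontrivial W₁ := Submodule.nontrivial_iff_ne_bot.mpr hW₁
    have hnt₂ : Nontrivial W₂ := Submodule.nontrivial_iff_ne_bot.mpr hW₂
    have := mul_prime_mem hF (f.pull W₁.subtype) (f.pull W₂.subtype) hnd₁ hnd₂ u₁ u₂ hu₁ hu₂ (by rw [← hdet', hdet]) r hr hrq n hn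
      (by rw [Submodule.finrank_add_eq_of_isCompl hW]; simp) hrn (by rw [← hpo, hux]; exact hx)
    rwa [← hpo, hux] at this
  · right
    obtain ⟨R, hR, -, hθR, hcR⟩ := irred_data (bar_bar hF) hndr s hsu _ rfl h (Or.inl hbarne)
    obtain ⟨k, hk0, hkdim, hkcard, hkdet, -⟩ := field_data (s : Module.End K (Fin n → K)) _ rfl h
    obtain ⟨φ, hφ, hinj⟩ := field_act (s : Module.End K (Fin n → K)) _ rfl h
    have hfact : Fact (Irreducible (minpoly K (s : Module.End K (Fin n → K)))) := ⟨h⟩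
    haveI hfin0 : Module.Finite K (AdjoinRoot (minpoly K (s : Module.End K (Fin n → K)))) := (AdjoinRoot.powerBasis h.ne_zero).finite
    haveI hfin1 : Finite (AdjoinRoot (minpoly K (s : Module.End K (Fin n → K)))) := Module.finite_of_finite K
    obtain ⟨d, hd⟩ : ∃ d, d = finrank K (AdjoinRoot (minpoly K (s : Module.End K (Fin n → K)))) := ⟨_, rfl⟩
    rw [← hd, hrank] at hkdim
    have hcardE : Nat.card (AdjoinRoot (minpoly K (s : Module.End K (Fin n → K)))) = q ^ (2 * d) := by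
      rw [Module.natCard_eq_pow_finrank (K := K), ← hd, Nat.card_eq_fintype_card, hF, ← pow_mul]
    have hRq : R = q ^ d := by
      rw [hcardE, mul_comm, pow_mul] at hR
      exact Nat.pow_left_injective (by norm_num : 2 ≠ 0) hR
    have hdo : Odd d := hdodd d (by intro c; rw [hcR c, hRq])
    -- the root as a unit
    obtain ⟨θ, hθ⟩ : ∃ θ : (AdjoinRoot (minpoly K (s : Module.End K (Fin n → K))))ˣ, (θ : AdjoinRoot (minpoly K (s : Module.End K (Fin n → K)))) = AdjoinRoot.root _ :=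
      ⟨Units.ofPowEqOne _ (R + 1) hθR (by omega), rfl⟩
    have hθ1 : θ ^ (q ^ d + 1) = 1 := by
      apply Units.ext
      rw [Units.val_pow_eq_pow_val, hθ, ← hRq, hθR]; rfl
    have hθn : (θ ^ MM q d) ^ k = 1 := by
      rw [hsdet] at hkdet
      have h1 := norm_pow (K := K) (AdjoinRoot.root (minpoly K (s : Module.End K (Fin n → K))))
      rw [hcardE, Nat.card_eq_fintype_card, hF] at h1
      have h2 := caseI_norm θ q d hq2 hdo hθ1
      apply Units.ext
      rw [Units.val_pow_eq_pow_val, ← h2, Units.val_pow_eq_pow_val, hθ, ← h1, ← map_pow, ← hkdet, map_one]; rfl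
    have hθM : θ ^ MM q n = 1 := by
      have h9 := caseI θ q d k (by omega) hdo hθ1 hθn
      rwa [hkdim] at h9
    -- hence θ^{s₀} is a scalar
    obtain ⟨c', hc'⟩ := mem_of_norm_one hF ((θ : AdjoinRoot (minpoly K (s : Module.End K (Fin n → K)))) ^ (MM q n / Nat.gcd n (q + 1))) (by
      rw [← pow_mul, hMM1, pow_mul, ← Units.val_pow_eq_pow_val, hθM, Units.val_one, one_pow])
    rw [← hst, projOrder_dvd_iff]
    refine ⟨c', ?_⟩
    rw [← hφ, ← hθ, ← map_pow, hc', AlgHom.commutes]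
  · right
    obtain ⟨W₁, W₂, h, hW, hW₁, hW₂, hiso₁, hiso₂, hinv, hirr, hker⟩ := h
    have hpair : Pair f W₁ W₂ := ⟨hW, hiso₁, hiso₂⟩
    have hnt₁ : Nontrivial W₁ := Submodule.nontrivial_iff_ne_bot.mpr hW₁
    obtain ⟨hs₁, hs₂⟩ := hinv _ (Commute.refl (s : Module.End K (Fin n → K)))
    obtain ⟨s₁, hs₁e, hs₁v⟩ := exists_res s W₁ hs₁
    obtain ⟨s₂, hs₂e, hs₂v⟩ := exists_res s W₂ hs₂
    have hirr₁ : Irreducible (minpoly K (s₁ : Module.End K W₁)) := by
      apply H46.SpDich.irreducible_minpoly_restrict _ h hirr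
      intro w
      apply Subtype.ext
      rw [res_aeval hs₁v, hker w w.2]; rfl
    obtain ⟨k, hk0, hkdim, hkcard, hkdet, -⟩ := field_data (s₁ : Module.End K W₁) _ rfl hirr₁
    obtain ⟨φ, hφ, hinj⟩ := field_act (s₁ : Module.End K W₁) _ rfl hirr₁
    have hfact : Fact (Irreducible (minpoly K (s₁ : Module.End K W₁))) := ⟨hirr₁⟩
    haveI hfin0 : Module.Finite K (AdjoinRoot (minpoly K (s₁ : Module.End K W₁))) := (AdjoinRoot.powerBasis hirr₁.ne_zero).finite
    haveI hfin1 : Finite (AdjoinRoot (minpoly K (s₁ : Module.End K W₁))) := Module.finite_of_finite K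
    letI hft := Fintype.ofFinite (AdjoinRoot (minpoly K (s₁ : Module.End K W₁)))
    obtain ⟨d, hd⟩ : ∃ d, d = finrank K (AdjoinRoot (minpoly K (s₁ : Module.End K W₁))) := ⟨_, rfl⟩
    have hdim₁ : n = 2 * finrank K W₁ := by
      have h1 := hpair.finrank_eq hndr
      have h2 := Submodule.finrank_add_eq_of_isCompl hW
      rw [hrank] at h2
      omega
    rw [← hd] at hkdim
    have hcardE : Nat.card (AdjoinRoot (minpoly K (s₁ : Module.End K W₁))) = q ^ (2 * d) := by
      rw [Module.natCard_eq_pow_finrank (K := K), ← hd, Nat.card_eq_fintype_card, hF, ← pow_mul]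
    have hθ0 : AdjoinRoot.root (minpoly K (s₁ : Module.End K W₁)) ≠ 0 := by
      intro h0
      rw [h0, map_zero] at hφ
      exact s₁.ne_zero hφ.symm
    obtain ⟨θ, hθ⟩ : ∃ θ : (AdjoinRoot (minpoly K (s₁ : Module.End K W₁)))ˣ, (θ : AdjoinRoot (minpoly K (s₁ : Module.End K W₁))) = AdjoinRoot.root _ :=
      ⟨Units.mk0 _ hθ0, rfl⟩
    have hθ1 : θ ^ (q ^ (2 * d) - 1) = 1 := by
      apply Units.ext
      rw [Units.val_pow_eq_pow_val, ← hcardE, Nat.card_eq_fintype_card, FiniteField.pow_card_sub_one_eq_one _ θ.ne_zero]; rfl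
    -- determinants
    have hdetrel := hpair.det_mul (bar_bar hF) hndr hsu hs₁ hs₂
    have hdetprod : LinearMap.det (s₁ : Module.End K W₁) * LinearMap.det (s₂ : Module.End K W₂) = 1 := by
      obtain ⟨v₁, v₂, hvd, hvc⟩ := exists_prodUnit s W₁ W₂ hW hs₁ hs₂
      have happ : ∀ w : W₁ × W₂, (s : Module.End K (Fin n → K)) ((w.1 : Fin n → K) + (w.2 : Fin n → K)) =
          (((v₁ : Module.End K W₁) w.1 : W₁) : Fin n → K) + (((v₂ : Module.End K W₂) w.2 : W₂) : Fin n → K) := by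
        intro w
        conv_lhs => rw [hvc]
        show (Submodule.prodEquivOfIsCompl W₁ W₂ hW) ((prodUnit v₁ v₂ : Module.End K (W₁ × W₂)) ((Submodule.prodEquivOfIsCompl W₁ W₂ hW).symm ((Submodule.prodEquivOfIsCompl W₁ W₂ hW) w))) = _
        rw [LinearEquiv.symm_apply_apply]
        rfl
      have h1 : (v₁ : Module.End K W₁) = (s₁ : Module.End K W₁) := by
        ext1 w
        apply Subtype.ext
        have := happ (w, 0)
        rw [hs₁v]
        simpa using this.symm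
      have h2 : (v₂ : Module.End K W₂) = (s₂ : Module.End K W₂) := by
        ext1 w
        apply Subtype.ext
        have := happ (0, w)
        rw [hs₂v]
        simpa using this.symm
      rw [← h1, ← h2, ← hvd, hsdet]
    rw [← hs₁e, ← hs₂e] at hdetrel
    have hdetq : (LinearMap.det (s₁ : Module.End K W₁)) ^ (q - 1) = 1 := by
      set a := LinearMap.det (s₁ : Module.End K W₁) with ha
      set b := LinearMap.det (s₂ : Module.End K W₂) with hb
      have ha0 : a ≠ 0 := left_ne_zero_of_mul_eq_one hdetprod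
      have hb' : b = a⁻¹ := eq_inv_of_mul_eq_one_right hdetprod
      rw [hb', bar_apply, inv_pow] at hdetrel
      have h3 : a ^ q = a := by
        have : a ^ q ≠ 0 := pow_ne_zero _ ha0
        field_simp at hdetrel
        exact hdetrel.symm
      have h4 : a ^ (q - 1) * a = 1 * a := by
        rw [← pow_succ, Nat.sub_add_cancel (by omega), h3, one_mul]
      exact mul_right_cancel₀ ha0 h4
    obtain ⟨hh, hhe⟩ : ∃ hh, hh * (q ^ 2 - 1) = q ^ (2 * d) - 1 := by
      have : q ^ 2 - 1 ∣ q ^ (2 * d) - 1 := by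
        rw [pow_mul]
        have := Nat.sub_dvd_pow_sub_pow (q ^ 2) 1 d
        rwa [one_pow] at this
      obtain ⟨c, hc⟩ := this
      exact ⟨c, by rw [hc, mul_comm]⟩
    have hq21 : 0 < q ^ 2 - 1 := by
      have : 2 ^ 2 ≤ q ^ 2 := Nat.pow_le_pow_left hq2 2
      omega
    have hθn : (θ ^ (hh * (q - 1))) ^ k = 1 := by
      have h1 := norm_pow (K := K) (AdjoinRoot.root (minpoly K (s₁ : Module.End K W₁)))
      rw [hcardE, Nat.card_eq_fintype_card, hF, ← hhe, Nat.mul_div_cancel _ hq21] at h1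
      apply Units.ext
      rw [Units.val_pow_eq_pow_val, Units.val_pow_eq_pow_val, hθ, ← pow_mul, show hh * (q - 1) * k = hh * (k * (q - 1)) by ring, pow_mul,
        ← h1, ← map_pow, pow_mul, ← hkdet, hdetq, map_one]; rfl
    have hθM : θ ^ MM q n = 1 := by
      have h9 := caseII θ q d k hh hq2 hhe hθ1 hθn
      have h10 : 2 * d * k = n := by rw [mul_assoc, hkdim]; exact hdim₁.symm
      rwa [h10] at h9
    obtain ⟨c', hc'⟩ := mem_of_norm_one hF ((θ : AdjoinRoot (minpoly K (s₁ : Module.End K W₁))) ^ (MM q n / Nat.gcd n (q + 1))) (by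
      rw [← pow_mul, hMM1, pow_mul, ← Units.val_pow_eq_pow_val, hθM, Units.val_one, one_pow])
    have hc'1 : c' ^ (q + 1) = 1 := by
      apply (algebraMap K (AdjoinRoot (minpoly K (s₁ : Module.End K W₁)))).injective
      rw [map_pow, ← hc', ← pow_mul, hMM1, pow_mul, ← Units.val_pow_eq_pow_val, hθM, Units.val_one, one_pow, map_one]
    have hc'0 : c' ≠ 0 := by
      rintro rfl
      rw [zero_pow (by omega)] at hc'1
      exact zero_ne_one hc'1
    rw [← hst, projOrder_dvd_iff]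
    refine ⟨c', ?_⟩
    -- s^{s₀} * c'^{-1} is trivial
    have hcinv : ((Units.mk0 c' hc'0)⁻¹ : Kˣ) ^ (q + 1) = 1 := by
      rw [inv_pow, inv_eq_one]
      apply Units.ext
      rw [Units.val_pow_eq_pow_val]
      exact hc'1
    have hci : f.Isom (scalarUnit (Fin n → K) (Units.mk0 c' hc'0)⁻¹) := by
      apply isom_scalarUnit
      rw [bar_apply, ← pow_succ', ← Units.val_pow_eq_pow_val, hcinv]; rfl
    have hone := hpair.eq_one hndr hnd (u := scalarUnit (Fin n → K) (Units.mk0 c' hc'0)⁻¹ * s ^ (MM q n / Nat.gcd n (q + 1))) (hci.mul (hsu.pow _)) (by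
      intro v hv
      rw [Units.val_mul]
      show ((scalarUnit (Fin n → K) (Units.mk0 c' hc'0)⁻¹ : (Module.End K (Fin n → K))ˣ) : Module.End K (Fin n → K)) (((s ^ (MM q n / Nat.gcd n (q + 1)) : (Module.End K (Fin n → K))ˣ) : Module.End K (Fin n → K)) v) ∈ W₂
      rw [scalarUnit_apply]
      apply W₂.smul_mem
      rw [Units.val_pow_eq_pow_val, ← res_pow hs₂v _ ⟨v, hv⟩]
      exact Submodule.coe_mem _) (by
      intro v hv
      rw [Units.val_mul]
      show ((scalarUnit (Fin n → K) (Units.mk0 c' hc'0)⁻¹ : (Module.End K (Fin n → K))ˣ) : Module.End K (Fin n → K)) (((s ^ (MM q n / Nat.gcd n (q + 1)) : (Module.End K (Fin n → K))ˣ) : Module.End K (Fin n → K)) v) = v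
      rw [scalarUnit_apply, Units.val_pow_eq_pow_val, ← res_pow hs₁v _ ⟨v, hv⟩, ← hφ, ← map_pow, ← hθ, hc', AlgHom.commutes,
        Module.algebraMap_end_apply, Submodule.coe_smul, smul_smul]
      have : ((((Units.mk0 c' hc'0)⁻¹ : Kˣ)) : K) * c' = 1 := by
        rw [Units.val_inv_eq_inv_val, Units.val_mk0, inv_mul_cancel₀ hc'0]
      rw [this, one_smul])
    rw [mul_eq_one_iff_inv_eq] at hone
    rw [← Units.val_pow_eq_pow_val, ← hone]
    have : (scalarUnit (Fin n → K) (Units.mk0 c' hc'0)⁻¹)⁻¹ = scalarUnit (Fin n → K) (Units.mk0 c' hc'0) := by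
      unfold scalarUnit
      rw [map_inv, inv_inv]
    rw [this]
    rfl

end H46.UDich
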