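import Mathlib
import Cfsg.Agent.Lib.H46.UDich
import Cfsg.Agent.Lib.H46.UnipModel
import Cfsg.Agent.Lib.H46.Orders

/-! Tori and unipotent elements of unitary groups. -/

set_option autoImplicit false

namespace H46.UModels

open Module Polynomial H46.SForm H46.SForm.SForm H46.ProjOrder H46.ProdUnit H46.ExtElt H46.OrdPSU H46.UNum H46.SpModels H46.UDich H46.Orders

variable {K : Type*} [Field K] [Fintype K] {q : ℕ}

theorem exists_trace_ne {K L : Type*} [Field K] [Field L] [Finite L] [Algebra K L] : ∃ z : L, Algebra.trace K L z ≠ 0 := by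
  haveI : Finite K := Finite.of_injective _ (algebraMap K L).injective
  by_contra hcon
  push Not at hcon
  obtain ⟨z, hz⟩ := Algebra.trace_surjective K L 1
  rw [hcon] at hz
  exact zero_ne_one hz

theorem exists_p (hF : Fintype.card K = q ^ 2) : ∃ p a : ℕ, p.Prime ∧ CharP K p ∧ 0 < a ∧ q = p ^ a := by
  obtain ⟨p, r, hp, hc, hr, hq⟩ := H16.Herm.exists_q_eq hF
  exact ⟨p, r, hp, hc, hr, hq⟩

theorem torus_odd (hF : Fintype.card K = q ^ 2) {n : ℕ} (hn2 : 2 ≤ n) (hn : Odd n) :
    MM q n / Nat.gcd n (q + 1) ∈ Set.range (orderOf : Cfsg.PSU n K q → ℕ) := by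
  obtain ⟨p, a, hp, hchar, ha, hq⟩ := exists_p hF
  have hpf : Fact p.Prime := ⟨hp⟩
  have hq2 : 2 ≤ q := H16.Herm.one_lt_q hF
  obtain ⟨A, _, _, _, hA, hcard⟩ := exists_field_ext K n (by omega)
  haveI : Module.Finite K A := Module.finite_of_finrank_pos (by omega)
  haveI : CharP A p := charP_of_injective_algebraMap (algebraMap K A).injective p
  have hcK : Nat.card K = q ^ 2 := by rw [Nat.card_eq_fintype_card, hF]
  rw [hcK, ← pow_mul] at hcard
  let τ : A →+* A := iterateFrobenius A p (a * n)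
  have hτ : ∀ x, τ x = x ^ (q ^ n) := by
    intro x
    show iterateFrobenius A p (a * n) x = _
    rw [iterateFrobenius_def, pow_mul, ← hq]
  have hτs : Function.Surjective τ := Finite.injective_iff_surjective.mp τ.injective
  have hcq : ∀ c : K, c ^ (q ^ n) = c ^ q := by
    intro c
    obtain ⟨m, rfl⟩ := hn
    have : ∀ m : ℕ, c ^ (q ^ (2 * m)) = c := by
      intro m
      induction m with
      | zero => simp
      | succ m ih =>
        rw [show 2 * (m + 1) = 2 * m + 2 by ring, pow_add, pow_mul, ih, ← hF, FiniteField.pow_card]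
    rw [pow_succ, pow_mul, this]
  let ℓ : A →ₗ[K] K := Algebra.trace K A
  have hτc : ∀ c : K, τ (algebraMap K A c) = algebraMap K A (bar hF c) := by
    intro c
    rw [hτ, ← map_pow, hcq, bar_apply]
  have hnd : (algForm τ hτc ℓ).ND := by
    intro b hb
    by_contra hb0
    obtain ⟨z, hz⟩ := exists_trace_ne (K := K) (L := A)
    apply hz
    obtain ⟨w, hw⟩ := hτs (z / b)
    have h1 : Algebra.trace K A (b * τ w) = 0 := hb w
    rwa [hw, mul_div_cancel₀ _ hb0] at h1
  have hM := MM_mul_odd q n (by omega) hn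
  obtain ⟨β, hβ⟩ := exists_unit_orderOf A (MM q n) (by
    rw [hcard]
    have : q ^ (2 * n) - 1 = (q ^ n + 1) * (q ^ n - 1) := by
      rw [mul_comm 2 n, pow_mul, ← Nat.sq_sub_sq, one_pow]
    rw [this, ← hM]
    exact (dvd_mul_right _ _).mul_right _)
  have hβ1 : β ^ (q ^ n + 1) = 1 := by
    rw [← hM, pow_mul, ← hβ, pow_orderOf_eq_one, one_pow]
  have hiso : (algForm τ hτc ℓ).Isom (mulUnit K β) := by
    apply isom_mulUnit
    rw [hτ, ← pow_succ', ← Units.val_pow_eq_pow_val, hβ1]; rfl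
  have hdet : LinearMap.det (mulUnit K β : Module.End K A) = 1 := by
    rw [det_mulUnit]
    apply (algebraMap K A).injective
    rw [H46.UDich.norm_pow, hcard, Nat.card_eq_fintype_card, hF, ← Units.val_pow_eq_pow_val, caseI_norm β q n hq2 hn hβ1, ← hβ,
      pow_orderOf_eq_one, map_one]; rfl
  apply mem_of_dvd (mem_orders hF hn2 (algForm τ hτc ℓ) hnd hA (mulUnit K β) hiso hdet)
  have h1 := H46.UDich.orderOf_dvd hF hnd (mulUnit K β) hiso
  rw [orderOf_mulUnit, hβ] at h1
  rw [← gcd_MM q n (by omega)]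
  have hpos := MM_pos q n hq2 (by omega)
  have hg : 0 < Nat.gcd (MM q n) (q + 1) := Nat.gcd_pos_of_pos_left _ hpos
  apply Nat.Coprime.dvd_of_dvd_mul_right (Nat.coprime_div_gcd_div_gcd hg)
  obtain ⟨c, hc⟩ := h1
  refine ⟨c, ?_⟩
  have h2 : projOrder K (mulUnit K β) * ((q + 1) / Nat.gcd (MM q n) (q + 1)) * Nat.gcd (MM q n) (q + 1) =
      MM q n / Nat.gcd (MM q n) (q + 1) * c * Nat.gcd (MM q n) (q + 1) := by
    rw [mul_assoc, Nat.div_mul_cancel (Nat.gcd_dvd_right _ _), hc]
    rw [mul_right_comm, Nat.div_mul_cancel (Nat.gcd_dvd_left _ _)]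
  exact Nat.eq_of_mul_eq_mul_right hg h2

theorem torus_even (hF : Fintype.card K = q ^ 2) {n : ℕ} (hn2 : 2 ≤ n) (hn : Even n) :
    MM q n / Nat.gcd n (q + 1) ∈ Set.range (orderOf : Cfsg.PSU n K q → ℕ) := by
  obtain ⟨p, a, hp, hchar, ha, hq⟩ := exists_p hF
  have hpf : Fact p.Prime := ⟨hp⟩
  have hq2 : 2 ≤ q := H16.Herm.one_lt_q hF
  obtain ⟨m, hm⟩ := hn
  obtain ⟨L, _, _, _, hL, hcard⟩ := exists_field_ext K m (by omega)
  haveI : Module.Finite K L := Module.finite_of_finrank_pos (by omega)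
  haveI : CharP L p := charP_of_injective_algebraMap (algebraMap K L).injective p
  have hcK : Nat.card K = q ^ 2 := by rw [Nat.card_eq_fintype_card, hF]
  rw [hcK, ← pow_mul] at hcard
  let φ0 : L →+* L := iterateFrobenius L p a
  let φ : L ≃+* L := RingEquiv.ofBijective φ0 ⟨φ0.injective, Finite.injective_iff_surjective.mp φ0.injective⟩
  have hφ : ∀ x, φ x = x ^ q := by
    intro x
    show iterateFrobenius L p a x = _
    rw [iterateFrobenius_def, ← hq]
  let τ0 : L × L ≃+* L × L := (RingEquiv.prodComm).trans (RingEquiv.prodCongr φ φ.symm)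
  let τ : L × L →+* L × L := τ0
  have hτ : ∀ x y, τ (x, y) = (φ y, φ.symm x) := fun x y => rfl
  have hτc : ∀ c : K, τ (algebraMap K (L × L) c) = algebraMap K (L × L) (bar hF c) := by
    intro c
    show τ (algebraMap K L c, algebraMap K L c) = (algebraMap K L (bar hF c), algebraMap K L (bar hF c))
    rw [hτ, hφ, bar_apply, map_pow]
    congr 1
    rw [RingEquiv.symm_apply_eq, hφ, ← pow_mul, ← pow_two, ← map_pow, ← hF, FiniteField.pow_card]
  let ℓ : L × L →ₗ[K] K := (Algebra.trace K L).comp (LinearMap.fst K L L) + (Algebra.trace K L).comp (LinearMap.snd K L L)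
  have hℓ : ∀ x y, ℓ (x, y) = Algebra.trace K L x + Algebra.trace K L y := fun x y => rfl
  have hnd : (algForm τ hτc ℓ).ND := by
    rintro ⟨b, c⟩ hb
    obtain ⟨z, hz⟩ := exists_trace_ne (K := K) (L := L)
    have h1 : ∀ w : L × L, ℓ ((b, c) * w) = 0 := by
      intro w
      obtain ⟨w', rfl⟩ := τ0.surjective w
      exact hb w'
    apply Prod.ext
    · by_contra hb0
      apply hz
      have := h1 (z / b, 0)
      rwa [Prod.mk_mul_mk, hℓ, mul_zero, map_zero, add_zero, mul_div_cancel₀ _ hb0] at this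
    · by_contra hc0
      apply hz
      have := h1 (0, z / c)
      rwa [Prod.mk_mul_mk, hℓ, mul_zero, map_zero, zero_add, mul_div_cancel₀ _ hc0] at this
  have hneven : Even n := ⟨m, hm⟩
  have hM := MM_mul_even q n (by omega) hneven
  have hcard' : Nat.card L = q ^ n := by rw [hcard, hm]; congr 1; ring
  obtain ⟨y, hy⟩ := exists_unit_orderOf L (MM q n) (by
    rw [hcard', ← hM]
    exact dvd_mul_right _ _)
  let x : Lˣ := (y ^ q)⁻¹
  have hxval : (x : L) = (φ (y : L))⁻¹ := by
    show (((y ^ q)⁻¹ : Lˣ) : L) = _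
    rw [Units.val_inv_eq_inv_val, Units.val_pow_eq_pow_val, hφ]
  let β : (L × L)ˣ := MulEquiv.prodUnits.symm (x, y)
  have hβval : (β : L × L) = ((x : L), (y : L)) := rfl
  have hiso : (algForm τ hτc ℓ).Isom (mulUnit K β) := by
    apply isom_mulUnit
    rw [hβval, hτ, Prod.mk_mul_mk, hxval, map_inv₀, RingEquiv.symm_apply_apply, inv_mul_cancel₀, mul_inv_cancel₀]
    · rfl
    · exact y.ne_zero
    · rw [hφ]; exact pow_ne_zero _ y.ne_zero
  have hdet : LinearMap.det (mulUnit K β : Module.End K (L × L)) = 1 := by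
    have h1 : (mulUnit K β : Module.End K (L × L)) = LinearMap.prodMap (mulUnit K x : Module.End K L) (mulUnit K y : Module.End K L) := by
      ext1 <;> rfl
    rw [h1, LinearMap.det_prodMap, det_mulUnit, det_mulUnit]
    have hyq : (Algebra.norm K (y : L)) ^ (q - 1) = 1 := by
      apply (algebraMap K L).injective
      rw [map_pow, H46.UDich.norm_pow, hcard', Nat.card_eq_fintype_card, hF, ← pow_mul, ← Units.val_pow_eq_pow_val]
      have : (q ^ n - 1) / (q ^ 2 - 1) * (q - 1) = MM q n := by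
        have h2 : q ^ 2 - 1 ∣ q ^ n - 1 := by
          rw [hm, ← two_mul, pow_mul]
          have := Nat.sub_dvd_pow_sub_pow (q ^ 2) 1 m
          rwa [one_pow] at this
        obtain ⟨c, hc⟩ := h2
        have h3 : 0 < q ^ 2 - 1 := by
          have : 2 ^ 2 ≤ q ^ 2 := Nat.pow_le_pow_left hq2 2
          omega
        rw [hc, Nat.mul_div_cancel_left _ h3]
        apply Nat.eq_of_mul_eq_mul_right (show 0 < q + 1 by omega)
        rw [hM, hc]
        have : q ^ 2 - 1 = (q + 1) * (q - 1) := by rw [← Nat.sq_sub_sq, one_pow]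
        rw [this]; ring
      rw [this, ← hy, pow_orderOf_eq_one, map_one]; rfl
    have h5 : Algebra.norm K ((y : L) ^ q) = Algebra.norm K (y : L) := by
      rw [map_pow]
      obtain ⟨j, hj⟩ : ∃ j, q = j + 1 := ⟨q - 1, by omega⟩
      rw [hj] at hyq ⊢
      rw [Nat.add_sub_cancel] at hyq
      rw [pow_succ, hyq, one_mul]
    have h6 : (x : L) * (y : L) ^ q = 1 := by
      rw [← Units.val_pow_eq_pow_val, ← Units.val_mul, inv_mul_cancel]; rfl
    rw [← h5, ← map_mul, h6, map_one]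
  have hnt : Nontrivial (L × L) := inferInstance
  apply mem_of_dvd (mem_orders hF hn2 (algForm τ hτc ℓ) hnd (by rw [finrank_prod, hL, hm]) (mulUnit K β) hiso hdet)
  have h1 := H46.UDich.orderOf_dvd hF hnd (mulUnit K β) hiso
  have h1' : MM q n ∣ orderOf (mulUnit K β) := by
    rw [orderOf_mulUnit, ← hy, MulEquiv.orderOf_eq, Prod.orderOf_mk]
    exact Nat.dvd_lcm_right _ _
  replace h1 := h1'.trans h1
  rw [← gcd_MM q n (by omega)]
  have hpos := MM_pos q n hq2 (by omega)
  have hg : 0 < Nat.gcd (MM q n) (q + 1) := Nat.gcd_pos_of_pos_left _ hpos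
  apply Nat.Coprime.dvd_of_dvd_mul_right (Nat.coprime_div_gcd_div_gcd hg)
  obtain ⟨c, hc⟩ := h1
  refine ⟨c, ?_⟩
  have h2 : projOrder K (mulUnit K β) * ((q + 1) / Nat.gcd (MM q n) (q + 1)) * Nat.gcd (MM q n) (q + 1) =
      MM q n / Nat.gcd (MM q n) (q + 1) * c * Nat.gcd (MM q n) (q + 1) := by
    rw [mul_assoc, Nat.div_mul_cancel (Nat.gcd_dvd_right _ _), hc]
    rw [mul_right_comm, Nat.div_mul_cancel (Nat.gcd_dvd_left _ _)]
  exact Nat.eq_of_mul_eq_mul_right hg h2

theorem torus_mem (hF : Fintype.card K = q ^ 2) {n : ℕ} (hn2 : 2 ≤ n) :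
    MM q n / Nat.gcd n (q + 1) ∈ Set.range (orderOf : Cfsg.PSU n K q → ℕ) := by
  rcases Nat.even_or_odd n with h | h
  · exact torus_even hF hn2 h
  · exact torus_odd hF hn2 h

/-- the projective order of a block sum with an identity block is the order -/
theorem projOrder_prod_one {F : Type*} [Field F] {V₁ V₂ : Type*} [AddCommGroup V₁] [Module F V₁] [AddCommGroup V₂]
    [Module F V₂] [Nontrivial V₁] [Nontrivial V₂] (u : (Module.End F V₁)ˣ) :
    projOrder F (prodUnit u (1 : (Module.End F V₂)ˣ)) = orderOf u := by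
  rw [eq_comm, eq_projOrder_iff]
  intro k
  rw [orderOf_dvd_iff_pow_eq_one, ← Units.val_pow_eq_pow_val, prodUnit_pow, one_pow]
  constructor
  · rintro ⟨c, hc⟩
    obtain ⟨v₂, hv₂⟩ := exists_ne (0 : V₂)
    have h1 : ∀ v₁ : V₁, ((u ^ k : (Module.End F V₁)ˣ) : Module.End F V₁) v₁ = c • v₁ ∧ v₂ = c • v₂ := by
      intro v₁
      have h1 := congrArg (fun f : Module.End F (V₁ × V₂) => f (v₁, v₂)) hc
      simpa [prodUnit_apply] using h1
    have h2 : (1 : F) = c := by
      have h3 := (h1 0).2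
      apply smul_left_injective F hv₂
      simpa using h3
    ext v
    rw [(h1 v).1, ← h2]
    simp
  · intro h
    refine ⟨1, ?_⟩
    rw [h, map_one, prodUnit_val]
    exact LinearMap.prodMap_one

theorem exists_mul_pow (hF : Fintype.card K = q ^ 2) (p : ℕ) [Fact p.Prime] [CharP K p] {n : ℕ} (hn : 2 ≤ n)
    (r : ℕ) (hr : r.Prime) (hrq : r ∣ q + 1) (hrp : r ≠ p) (hrn : ¬ r ∣ n) (e : ℕ) (he : e = 0 ∨ p ^ (e - 1) < n - 1) :
    r * p ^ e ∈ Set.range (orderOf : Cfsg.PSU n K q → ℕ) := by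
  have hp : p.Prime := Fact.out
  obtain ⟨α, hα⟩ := exists_bar_ne hF
  obtain ⟨A, _, _, τ, hτ, ℓ, β, E, hnd, hττ, hℓτ, hrank, hβ, hnorm, hE, hle⟩ :=
    H46.UnipModel.exists_regular (K := K) p (bar hF) (bar_bar hF) 1 ⟨map_one _, by ring⟩ α (by
      rw [one_mul, sub_ne_zero]; exact hα.symm) (n - 1) (by omega)
  have hfin : Module.Finite K A := Module.finite_of_finrank_pos (by omega)
  have hnt : Nontrivial A := Module.nontrivial_of_finrank_pos (R := K) (by omega)
  have hpo : projOrder K (prodUnit (mulUnit K β) (1 : (Module.End K K)ˣ)) = p ^ E := by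
    rw [projOrder_prod_one, orderOf_mulUnit, hE]
  have hbb : ∀ c : K, bar hF (algebraMap K K c) = algebraMap K K (bar hF c) := fun c => rfl
  have hnd2 : (algForm (bar hF) hbb (LinearMap.id : K →ₗ[K] K)).ND := by
    intro a ha
    have := ha 1
    have h2 : a * bar hF 1 = 0 := this
    rwa [map_one, mul_one] at h2
  have := mul_prime_mem hF (algForm τ hτ ℓ) (algForm (bar hF) hbb (LinearMap.id : K →ₗ[K] K)) hnd hnd2
    (mulUnit K β) (1 : (Module.End K K)ˣ) (isom_mulUnit τ hτ ℓ β hβ) Isom.one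
    (by rw [det_mulUnit, hnorm]; simp) r hr hrq n hn
    (by rw [hrank, finrank_self]; omega) hrn (by
      rw [hpo]
      intro h
      exact hrp ((Nat.prime_dvd_prime_iff_eq hr hp).mp (hr.dvd_of_dvd_pow h)))
  rw [hpo] at this
  exact mem_of_dvd this (mul_dvd_mul_left r (Nat.pow_dvd_pow p (hle e he)))

end H46.UModels
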