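import Cfsg.Agent.Lib.H46.ProjOrder

/-! Unipotent parts: `p`-powers among element orders of `PSL`, in characteristic `p`. -/

set_option autoImplicit false

universe w

namespace H46.Unip

open Module Polynomial H46.ProjOrder

/-- a `p`-power projective order `p ^ (e+1)` forces `p ^ e < dim` -/
theorem lt_finrank_of_projOrder {F : Type*} [Field F] [Finite F] (p : ℕ) [Fact p.Prime] [CharP F p]
    {V : Type*} [AddCommGroup V] [Module F V] [Module.Finite F V] [Nontrivial V] (u : (Module.End F V)ˣ) (e : ℕ)
    (hu : projOrder F u = p ^ (e + 1)) : p ^ e < finrank F V := by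
  by_contra hcon
  push Not at hcon
  have hF : Fintype F := Fintype.ofFinite F
  obtain ⟨c, hc⟩ := (projOrder_dvd_iff u (p ^ (e + 1))).mp (by rw [hu])
  obtain ⟨b, hb⟩ : ∃ b : F, b ^ p ^ (e + 1) = c := by
    have hinj : Function.Injective (iterateFrobenius F p (e + 1)) := (iterateFrobenius F p (e+1)).injective
    obtain ⟨b, hb⟩ := (Finite.injective_iff_surjective.mp hinj) c
    exact ⟨b, by rw [← hb, iterateFrobenius_def]⟩
  have : CharP (Module.End F V) p := charP_of_injective_algebraMap (FaithfulSMul.algebraMap_injective F (Module.End F V)) p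
  set N : Module.End F V := (u : Module.End F V) - algebraMap F (Module.End F V) b with hN
  have hcomm : Commute (u : Module.End F V) (algebraMap F (Module.End F V) b) :=
    (Algebra.commutes b (u : Module.End F V)).symm
  have hnil : N ^ p ^ (e + 1) = 0 := by
    rw [hN, sub_pow_char_pow_of_commute p (e + 1) hcomm, hc, ← map_pow, hb, sub_self]
  have h1 : LinearMap.charpoly N = X ^ finrank F V := (LinearMap.isNilpotent_iff_charpoly N).mp ⟨_, hnil⟩
  have h2 : N ^ finrank F V = 0 := by
    have := LinearMap.aeval_self_charpoly N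
    rw [h1] at this
    simpa using this
  have h3 : N ^ p ^ e = 0 := pow_eq_zero_of_le hcon h2
  rw [hN, sub_pow_char_pow_of_commute p e hcomm, ← map_pow, sub_eq_zero] at h3
  have h4 := (projOrder_dvd_iff u (p ^ e)).mpr ⟨_, h3⟩
  rw [hu] at h4
  have hp : p.Prime := Fact.out
  have h5 := Nat.le_of_dvd (pow_pos hp.pos e) h4
  have h6 : p ^ e < p ^ (e + 1) := Nat.pow_lt_pow_right hp.one_lt (by omega)
  omega

/-- existence of unipotent elements of given `p`-power order -/
theorem exists_unipotent {F : Type w} [Field F] [Finite F] (p : ℕ) [Fact p.Prime] [CharP F p] (d e : ℕ)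
    (hd : 0 < d) (he : e = 0 ∨ p ^ (e - 1) < d) :
    ∃ (A : Type w) (_ : CommRing A) (_ : Algebra F A) (u : (Module.End F A)ˣ) (E : ℕ),
      finrank F A = d ∧ LinearMap.det (u : Module.End F A) = 1 ∧ orderOf u = p ^ E ∧ e ≤ E := by
  have hp : p.Prime := Fact.out
  let f : F[X] := X ^ d
  have hfm : f.Monic := monic_X_pow d
  have hdeg : f.natDegree = d := natDegree_X_pow d
  let A := AdjoinRoot f
  have hfin : Module.Finite F A := (AdjoinRoot.powerBasis hfm.ne_zero).finite
  have hrank : finrank F A = d := by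
    rw [(AdjoinRoot.powerBasis hfm.ne_zero).finrank, AdjoinRoot.powerBasis_dim hfm.ne_zero, hdeg]
  have hnt : Nontrivial A := Module.nontrivial_of_finrank_pos (R := F) (by omega)
  have hchar : CharP A p := charP_of_injective_algebraMap (FaithfulSMul.algebraMap_injective F A) p
  set N : A := AdjoinRoot.root f with hN
  have hNd : N ^ d = 0 := by
    have h : AdjoinRoot.mk f (X ^ d) = 0 := AdjoinRoot.mk_self
    rw [map_pow, AdjoinRoot.mk_X] at h
    exact h
  have hNj : ∀ j < d, N ^ j ≠ 0 := by
    intro j hj h0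
    have h1 : AdjoinRoot.mk f (X ^ j) = 0 := by simpa using h0
    rw [AdjoinRoot.mk_eq_zero] at h1
    have h2 := (pow_dvd_pow_iff (X_ne_zero (R := F)) not_isUnit_X).mp h1
    omega
  obtain ⟨E0, hE0⟩ : ∃ E0, d ≤ p ^ E0 := ⟨d, (Nat.lt_pow_self hp.one_lt).le⟩
  have hun : (1 + N) ^ p ^ E0 = 1 := by
    rw [add_pow_char_pow, one_pow, pow_eq_zero_of_le hE0 hNd, add_zero]
  let ww : Aˣ := Units.ofPowEqOne (1 + N) (p ^ E0) hun (pow_pos hp.pos _).ne'
  have hwval : (ww : A) = 1 + N := rfl
  have hword : orderOf ww ∣ p ^ E0 := orderOf_dvd_of_pow_eq_one (Units.ext (by simpa [hwval] using hun))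
  obtain ⟨E, _, hE⟩ := (Nat.dvd_prime_pow hp).mp hword
  refine ⟨A, inferInstance, inferInstance, Units.map (Algebra.lmul F A : A →* Module.End F A) ww, E, hrank, ?_, ?_, ?_⟩
  · have h1 : (LinearMap.det ((Units.map (Algebra.lmul F A : A →* Module.End F A) ww : (Module.End F A)ˣ) : Module.End F A)) ^ p ^ E0 = 1 := by
      rw [← map_pow, ← Units.val_pow_eq_pow_val, ← map_pow]
      have : ww ^ p ^ E0 = 1 := orderOf_dvd_iff_pow_eq_one.mp hword
      rw [this]
      simp
    have h2 : (LinearMap.det ((Units.map (Algebra.lmul F A : A →* Module.End F A) ww : (Module.End F A)ˣ) : Module.End F A) - 1) ^ p ^ E0 = 0 := by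
      rw [sub_pow_char_pow, h1, one_pow, sub_self]
    exact sub_eq_zero.mp (pow_eq_zero_iff (pow_pos hp.pos _).ne' |>.mp h2)
  · rw [← hE]
    apply orderOf_injective
    exact Units.map_injective Algebra.lmul_injective
  · rcases he with rfl | he
    · exact Nat.zero_le _
    · by_contra hcon
      push Not at hcon
      have h1 : ww ^ p ^ (e - 1) = 1 := by
        apply orderOf_dvd_iff_pow_eq_one.mp
        rw [hE]
        exact Nat.pow_dvd_pow p (by omega)
      have h2 : (1 + N) ^ p ^ (e - 1) = 1 := by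
        rw [← hwval, ← Units.val_pow_eq_pow_val, h1]; rfl
      rw [add_pow_char_pow, one_pow, add_eq_left] at h2
      exact hNj _ he h2

end H46.Unip
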